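import Cfsg.Agent.H134.Sq.Base_m3
import Cfsg.Agent.S0364
import Cfsg.Prelude.Def_Spor_Mathieu
import Cfsg.Agent.H729.TransFast
import Cfsg.Agent.Prune
set_option linter.all false
prune_inst 0x7f00000000000000000000000000000000000000000000000000000000000000000000000000000000000000000000000000000000000000000000000000000000000000000000000000000000000000003fffffffffffffffffffffffffffbeffbdffffffff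
open scoped Cfsg.Agent.FastGrp
private noncomputable def lq265cdff330 {T : Sort _} (f :
    type_of% (@_root_.List.cons.{0}) →
    type_of% (@_root_.Prod.mk.{0, 0}) →
    type_of% (@_root_.List.nil.{0}) →
    type_of% (@_root_.List.range) →
    type_of% (@_root_.Cfsg.Agent.H334.Ore.Mat.Ex.mk) → T) : T :=
  f (@_root_.List.cons.{0}) (@_root_.Prod.mk.{0, 0}) (@_root_.List.nil.{0}) (@_root_.List.range) (@_root_.Cfsg.Agent.H334.Ore.Mat.Ex.mk)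

-- part: H334/Ore/M24Data
section
/-!
# Representatives of the classes of `M24` (data)
-/

set_option autoImplicit false
set_option Elab.async false

namespace Cfsg.Agent.H334.Ore.M24Data

open Cfsg.Agent.H334.Ore.Mat

def F : List ℕ := []

def f0_0 : Fib where
  b := 2
  e := []

def f0_1 : Fib where
  b := 3
  e := []

def f0_2 : Fib where
  b := 6
  e := []

def f0_3 : Fib where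
  b := 0
  e := []

def r0 : Rec where
  p := 2
  c := 817407390404986744204366159001526304
  a := 3423067014107488704349830906158261
  b := 210316350958302239373777907193882039
  t := [817407390404986744204366159001526304, 984818244535754528103549039458486304, 984818244535754528103549039458486304, 984818244535754528103549039458486304]
  wd := (beta% delta% lq265cdff330 fun a b c _ _ =>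
 (a (b 0 0)<|a (b 12 0)<|a (b 3 0)<|a (b 2 0)<|a (b 14 0)<|a (b 13 0)<|a (b 1 0)<|a (b 7 0)<|a (b 3 1)<|a (b 7 1)<|a (b 8 0)<|a (b 2 1)<|a (b 5 0)<|a (b 15 0)<|a (b 1 1)<|a (b 11 0)<|a (b 5 1)<|a (b 9 0)<|a (b 11 1)<|a (b 4 0)<|a (b 6 0)<|a (b 10 0)<|a (b 10 1)<|a (b 4 1)<|c))
  sts := (beta% delta% lq265cdff330 fun a b c d _ =>
 (a (b 0<|b (a 0<|c) c)<|
 a (b 6<|b (a 6<|c) c)<|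
 a (b 3<|b (a 3<|c) c)<|
 a (b 2<|b (a 2<|c) c)<|
 a (b 19<|b (d 24) (a (a (b 3 0)<|a (b 2 0)<|a (b 1 0)<|a (b 3 1)<|a (b 2 1)<|a (b 1 1)<|a (b 4 0)<|a (b 4 1)<|c)<|c))<|
 a (b 12<|b (d 24) c)<|
 a (b 20<|b (d 24) (a (a (b 0 0)<|a (b 3 1)<|a (b 2 1)<|a (b 5 0)<|a (b 1 1)<|a (b 5 1)<|a (b 4 0)<|a (b 6 0)<|c)<|c))<|
 a (b 7<|b (d 24) (a (a (b 3 0)<|a (b 2 0)<|a (b 7 0)<|a (b 3 1)<|a (b 7 1)<|a (b 2 1)<|a (b 5 0)<|a (b 5 1)<|c)<|c))<|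
 a (b 10<|b (d 24) (a (a (b 0 0)<|a (b 3 0)<|a (b 1 0)<|a (b 3 1)<|a (b 7 1)<|a (b 8 0)<|a (b 5 0)<|a (b 4 0)<|c)<|c))<|
 a (b 17<|b (d 24) (a (a (b 0 0)<|a (b 3 0)<|a (b 1 0)<|a (b 7 0)<|a (b 2 1)<|a (b 5 0)<|a (b 1 1)<|a (b 9 0)<|c)<|c))<|
 a (b 21<|b (d 24) (a (a (b 3 0)<|a (b 1 0)<|a (b 7 0)<|a (b 3 1)<|a (b 7 1)<|a (b 1 1)<|a (b 10 0)<|a (b 10 1)<|c)<|c))<|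
 a (b 15<|b (d 24) (a (a (b 2 0)<|a (b 1 0)<|a (b 7 0)<|a (b 7 1)<|a (b 2 1)<|a (b 1 1)<|a (b 11 0)<|a (b 11 1)<|c)<|a (a (b 0 0)<|a (b 3 0)<|a (b 2 0)<|a (b 1 0)<|a (b 8 0)<|a (b 1 1)<|a (b 11 0)<|a (b 10 0)<|c)<|c))<|
 a (b 1<|b (d 24) (a (a (b 12 0)<|a (b 3 0)<|a (b 1 0)<|a (b 7 0)<|a (b 3 1)<|a (b 8 0)<|a (b 2 1)<|a (b 11 0)<|c)<|c))<|
 a (b 5<|b (d 24) (a (a (b 0 0)<|a (b 12 0)<|a (b 13 0)<|a (b 1 0)<|a (b 7 0)<|a (b 7 1)<|a (b 8 0)<|a (b 1 1)<|c)<|c))<|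
 a (b 4<|b (d 24) (a (a (b 0 0)<|a (b 12 0)<|a (b 3 0)<|a (b 2 0)<|a (b 14 0)<|a (b 7 0)<|a (b 8 0)<|a (b 5 0)<|c)<|c))<|
 a (b 13<|b (d 24) (a (a (b 12 0)<|a (b 3 0)<|a (b 2 0)<|a (b 14 0)<|a (b 13 0)<|a (b 3 1)<|a (b 2 1)<|a (b 15 0)<|c)<|c))<|c))
  fib := [f0_0, f0_1, f0_2, f0_3]
  n := 21504

def f1_0 : Fib where
  b := 0
  e := []

def f1_1 : Fib where
  b := 7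
  e := (beta% delta% lq265cdff330 fun a b c d e =>
 (a (e 6 (a (b 0 0)<|a (b 5 0)<|a (b 4 0)<|a (b 6 0)<|a (b 7 0)<|a (b 0 1)<|a (b 3 0)<|a (b 1 0)<|a (b 5 1)<|a (b 4 1)<|a (b 8 0)<|a (b 9 0)<|a (b 8 1)<|a (b 10 0)<|a (b 7 1)<|a (b 11 0)<|a (b 1 1)<|a (b 3 1)<|a (b 11 1)<|a (b 9 1)<|a (b 2 0)<|a (b 2 1)<|a (b 6 1)<|a (b 10 1)<|c)
 (a (b 0<|b (a 0<|c) c)<|
 a (b 7<|b (a 6<|c) c)<|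
 a (b 20<|b (d 24) c)<|
 a (b 6<|b (d 24) c)<|
 a (b 2<|b (d 24) (a (a (b 0 0)<|a (b 4 0)<|a (b 0 1)<|a (b 3 0)<|a (b 4 1)<|a (b 3 1)<|a (b 2 0)<|a (b 2 1)<|c)<|c))<|
 a (b 1<|b (d 24) c)<|
 a (b 3<|b (d 24) (a (a (b 6 0)<|a (b 0 1)<|a (b 3 0)<|a (b 1 0)<|a (b 4 1)<|a (b 1 1)<|a (b 2 0)<|a (b 6 1)<|c)<|c))<|
 a (b 4<|b (d 24) (a (a (b 0 0)<|a (b 6 0)<|a (b 3 0)<|a (b 5 1)<|a (b 4 1)<|a (b 7 1)<|a (b 1 1)<|a (b 3 1)<|c)<|a (a (b 0 0)<|a (b 5 0)<|a (b 4 0)<|a (b 7 0)<|a (b 3 0)<|a (b 5 1)<|a (b 7 1)<|a (b 2 0)<|c)<|c))<|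
 a (b 10<|b (d 24) (a (a (b 0 0)<|a (b 5 0)<|a (b 4 0)<|a (b 6 0)<|a (b 7 0)<|a (b 1 0)<|a (b 8 0)<|a (b 8 1)<|c)<|a (a (b 0 0)<|a (b 5 0)<|a (b 0 1)<|a (b 3 0)<|a (b 1 0)<|a (b 4 1)<|a (b 8 0)<|a (b 7 1)<|c)<|c))<|
 a (b 11<|b (d 24) (a (a (b 0 0)<|a (b 5 0)<|a (b 7 0)<|a (b 5 1)<|a (b 4 1)<|a (b 8 0)<|a (b 9 0)<|a (b 1 1)<|c)<|a (a (b 5 0)<|a (b 6 0)<|a (b 7 0)<|a (b 3 0)<|a (b 1 0)<|a (b 5 1)<|a (b 4 1)<|a (b 9 1)<|c)<|c))<|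
 a (b 13<|b (d 24) (a (a (b 5 0)<|a (b 4 0)<|a (b 6 0)<|a (b 7 0)<|a (b 0 1)<|a (b 5 1)<|a (b 9 0)<|a (b 10 0)<|c)<|a (a (b 0 0)<|a (b 4 0)<|a (b 7 0)<|a (b 0 1)<|a (b 3 0)<|a (b 8 0)<|a (b 9 0)<|a (b 10 1)<|c)<|c))<|
 a (b 15<|b (d 24) (a (a (b 5 0)<|a (b 4 0)<|a (b 3 0)<|a (b 1 0)<|a (b 5 1)<|a (b 8 0)<|a (b 9 0)<|a (b 11 0)<|c)<|a (a (b 0 0)<|a (b 4 0)<|a (b 6 0)<|a (b 0 1)<|a (b 3 0)<|a (b 1 0)<|a (b 5 1)<|a (b 11 1)<|c)<|c))<|c))<|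
 a (e 17 (a (b 0 0)<|a (b 5 0)<|a (b 6 0)<|a (b 7 0)<|a (b 3 0)<|a (b 0 1)<|a (b 4 0)<|a (b 1 0)<|a (b 5 1)<|a (b 6 1)<|a (b 8 0)<|a (b 9 0)<|a (b 8 1)<|a (b 10 0)<|a (b 3 1)<|a (b 2 0)<|a (b 1 1)<|a (b 4 1)<|a (b 2 1)<|a (b 9 1)<|a (b 11 0)<|a (b 11 1)<|a (b 7 1)<|a (b 10 1)<|c)
 (a (b 0<|b (a 0<|c) c)<|
 a (b 7<|b (a 17<|c) c)<|
 a (b 15<|b (d 24) c)<|
 a (b 4<|b (d 24) c)<|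
 a (b 6<|b (d 24) (a (a (b 0 0)<|a (b 3 0)<|a (b 0 1)<|a (b 4 0)<|a (b 3 1)<|a (b 2 0)<|a (b 4 1)<|a (b 2 1)<|c)<|c))<|
 a (b 1<|b (d 24) c)<|
 a (b 2<|b (d 24) (a (a (b 0 0)<|a (b 6 0)<|a (b 3 0)<|a (b 4 0)<|a (b 1 0)<|a (b 6 1)<|a (b 2 0)<|a (b 1 1)<|c)<|c))<|
 a (b 3<|b (d 24) (a (a (b 6 0)<|a (b 7 0)<|a (b 3 0)<|a (b 1 0)<|a (b 5 1)<|a (b 3 1)<|a (b 2 0)<|a (b 4 1)<|c)<|a (a (b 5 0)<|a (b 7 0)<|a (b 0 1)<|a (b 4 0)<|a (b 5 1)<|a (b 3 1)<|a (b 2 0)<|a (b 7 1)<|c)<|c))<|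
 a (b 10<|b (d 24) (a (a (b 0 0)<|a (b 5 0)<|a (b 6 0)<|a (b 7 0)<|a (b 3 0)<|a (b 1 0)<|a (b 8 0)<|a (b 8 1)<|c)<|a (a (b 0 0)<|a (b 5 0)<|a (b 0 1)<|a (b 4 0)<|a (b 1 0)<|a (b 6 1)<|a (b 8 0)<|a (b 3 1)<|c)<|c))<|
 a (b 11<|b (d 24) (a (a (b 5 0)<|a (b 6 0)<|a (b 4 0)<|a (b 1 0)<|a (b 5 1)<|a (b 8 0)<|a (b 9 0)<|a (b 2 0)<|c)<|a (a (b 5 0)<|a (b 7 0)<|a (b 3 0)<|a (b 4 0)<|a (b 1 0)<|a (b 5 1)<|a (b 6 1)<|a (b 9 1)<|c)<|c))<|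
 a (b 13<|b (d 24) (a (a (b 5 0)<|a (b 6 0)<|a (b 7 0)<|a (b 3 0)<|a (b 0 1)<|a (b 5 1)<|a (b 9 0)<|a (b 10 0)<|c)<|a (a (b 0 0)<|a (b 6 0)<|a (b 3 0)<|a (b 0 1)<|a (b 4 0)<|a (b 8 0)<|a (b 9 0)<|a (b 10 1)<|c)<|c))<|
 a (b 20<|b (d 24) (a (a (b 6 0)<|a (b 3 0)<|a (b 0 1)<|a (b 1 0)<|a (b 5 1)<|a (b 6 1)<|a (b 8 0)<|a (b 11 0)<|c)<|a (a (b 7 0)<|a (b 0 1)<|a (b 4 0)<|a (b 5 1)<|a (b 6 1)<|a (b 8 0)<|a (b 9 0)<|a (b 11 1)<|c)<|c))<|c))<|c))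

def f1_2 : Fib where
  b := 6
  e := (beta% delta% lq265cdff330 fun a b c d e =>
 (a (e 1 (a (b 1 0)<|a (b 4 0)<|a (b 5 0)<|a (b 6 0)<|a (b 7 0)<|a (b 1 1)<|a (b 2 0)<|a (b 0 0)<|a (b 4 1)<|a (b 5 1)<|a (b 8 0)<|a (b 9 0)<|a (b 8 1)<|a (b 3 0)<|a (b 7 1)<|a (b 10 0)<|a (b 0 1)<|a (b 2 1)<|a (b 10 1)<|a (b 9 1)<|a (b 11 0)<|a (b 11 1)<|a (b 6 1)<|a (b 3 1)<|c)
 (a (b 7<|b (a 7<|c) c)<|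
 a (b 0<|b (a 0<|c) c)<|
 a (b 6<|b (a 1<|c) c)<|
 a (b 13<|b (d 24) (a (a (b 1 0)<|a (b 1 1)<|a (b 2 0)<|a (b 0 0)<|a (b 3 0)<|a (b 0 1)<|a (b 2 1)<|a (b 3 1)<|c)<|c))<|
 a (b 1<|b (d 24) c)<|
 a (b 2<|b (d 24) (a (a (b 1 0)<|a (b 4 0)<|a (b 5 0)<|a (b 0 0)<|a (b 4 1)<|a (b 5 1)<|a (b 3 0)<|a (b 2 1)<|c)<|c))<|
 a (b 3<|b (d 24) c)<|
 a (b 4<|b (d 24) (a (a (b 4 0)<|a (b 5 0)<|a (b 6 0)<|a (b 2 0)<|a (b 0 0)<|a (b 3 0)<|a (b 7 1)<|a (b 0 1)<|c)<|a (a (b 1 0)<|a (b 7 0)<|a (b 1 1)<|a (b 2 0)<|a (b 4 1)<|a (b 5 1)<|a (b 3 0)<|a (b 6 1)<|c)<|c))<|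
 a (b 10<|b (d 24) (a (a (b 1 0)<|a (b 4 0)<|a (b 5 0)<|a (b 6 0)<|a (b 7 0)<|a (b 0 0)<|a (b 8 0)<|a (b 8 1)<|c)<|a (a (b 1 0)<|a (b 4 0)<|a (b 1 1)<|a (b 2 0)<|a (b 0 0)<|a (b 5 1)<|a (b 8 0)<|a (b 7 1)<|c)<|c))<|
 a (b 11<|b (d 24) (a (a (b 4 0)<|a (b 5 0)<|a (b 6 0)<|a (b 7 0)<|a (b 1 1)<|a (b 4 1)<|a (b 9 0)<|a (b 3 0)<|c)<|a (a (b 4 0)<|a (b 6 0)<|a (b 7 0)<|a (b 2 0)<|a (b 0 0)<|a (b 4 1)<|a (b 5 1)<|a (b 9 1)<|c)<|c))<|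
 a (b 15<|b (d 24) (a (a (b 4 0)<|a (b 5 0)<|a (b 2 0)<|a (b 0 0)<|a (b 4 1)<|a (b 8 0)<|a (b 9 0)<|a (b 10 0)<|c)<|a (a (b 1 0)<|a (b 5 0)<|a (b 6 0)<|a (b 1 1)<|a (b 2 0)<|a (b 0 0)<|a (b 4 1)<|a (b 10 1)<|c)<|c))<|
 a (b 20<|b (d 24) (a (a (b 5 0)<|a (b 7 0)<|a (b 1 1)<|a (b 0 0)<|a (b 4 1)<|a (b 5 1)<|a (b 8 0)<|a (b 11 0)<|c)<|a (a (b 6 0)<|a (b 1 1)<|a (b 2 0)<|a (b 4 1)<|a (b 5 1)<|a (b 8 0)<|a (b 9 0)<|a (b 11 1)<|c)<|c))<|c))<|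
 a (e 2 (a (b 1 0)<|a (b 4 0)<|a (b 5 0)<|a (b 6 0)<|a (b 7 0)<|a (b 1 1)<|a (b 2 0)<|a (b 0 0)<|a (b 4 1)<|a (b 5 1)<|a (b 8 0)<|a (b 9 0)<|a (b 8 1)<|a (b 3 0)<|a (b 7 1)<|a (b 10 0)<|a (b 0 1)<|a (b 2 1)<|a (b 10 1)<|a (b 9 1)<|a (b 11 0)<|a (b 11 1)<|a (b 6 1)<|a (b 3 1)<|c)
 (a (b 7<|b (a 7<|c) c)<|
 a (b 0<|b (a 0<|c) c)<|
 a (b 6<|b (a 2<|c) c)<|
 a (b 13<|b (d 24) (a (a (b 1 0)<|a (b 1 1)<|a (b 2 0)<|a (b 0 0)<|a (b 3 0)<|a (b 0 1)<|a (b 2 1)<|a (b 3 1)<|c)<|c))<|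
 a (b 1<|b (d 24) c)<|
 a (b 2<|b (d 24) (a (a (b 1 0)<|a (b 4 0)<|a (b 5 0)<|a (b 0 0)<|a (b 4 1)<|a (b 5 1)<|a (b 3 0)<|a (b 2 1)<|c)<|c))<|
 a (b 3<|b (d 24) c)<|
 a (b 4<|b (d 24) (a (a (b 4 0)<|a (b 5 0)<|a (b 6 0)<|a (b 2 0)<|a (b 0 0)<|a (b 3 0)<|a (b 7 1)<|a (b 0 1)<|c)<|a (a (b 1 0)<|a (b 7 0)<|a (b 1 1)<|a (b 2 0)<|a (b 4 1)<|a (b 5 1)<|a (b 3 0)<|a (b 6 1)<|c)<|c))<|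
 a (b 10<|b (d 24) (a (a (b 1 0)<|a (b 4 0)<|a (b 5 0)<|a (b 6 0)<|a (b 7 0)<|a (b 0 0)<|a (b 8 0)<|a (b 8 1)<|c)<|a (a (b 1 0)<|a (b 4 0)<|a (b 1 1)<|a (b 2 0)<|a (b 0 0)<|a (b 5 1)<|a (b 8 0)<|a (b 7 1)<|c)<|c))<|
 a (b 11<|b (d 24) (a (a (b 4 0)<|a (b 5 0)<|a (b 6 0)<|a (b 7 0)<|a (b 1 1)<|a (b 4 1)<|a (b 9 0)<|a (b 3 0)<|c)<|a (a (b 4 0)<|a (b 6 0)<|a (b 7 0)<|a (b 2 0)<|a (b 0 0)<|a (b 4 1)<|a (b 5 1)<|a (b 9 1)<|c)<|c))<|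
 a (b 15<|b (d 24) (a (a (b 4 0)<|a (b 5 0)<|a (b 2 0)<|a (b 0 0)<|a (b 4 1)<|a (b 8 0)<|a (b 9 0)<|a (b 10 0)<|c)<|a (a (b 1 0)<|a (b 5 0)<|a (b 6 0)<|a (b 1 1)<|a (b 2 0)<|a (b 0 0)<|a (b 4 1)<|a (b 10 1)<|c)<|c))<|
 a (b 20<|b (d 24) (a (a (b 5 0)<|a (b 7 0)<|a (b 1 1)<|a (b 0 0)<|a (b 4 1)<|a (b 5 1)<|a (b 8 0)<|a (b 11 0)<|c)<|a (a (b 6 0)<|a (b 1 1)<|a (b 2 0)<|a (b 4 1)<|a (b 5 1)<|a (b 8 0)<|a (b 9 0)<|a (b 11 1)<|c)<|c))<|c))<|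
 a (e 3 (a (b 1 0)<|a (b 4 0)<|a (b 5 0)<|a (b 6 0)<|a (b 7 0)<|a (b 1 1)<|a (b 2 0)<|a (b 0 0)<|a (b 4 1)<|a (b 5 1)<|a (b 8 0)<|a (b 9 0)<|a (b 8 1)<|a (b 3 0)<|a (b 7 1)<|a (b 10 0)<|a (b 0 1)<|a (b 2 1)<|a (b 10 1)<|a (b 9 1)<|a (b 11 0)<|a (b 11 1)<|a (b 6 1)<|a (b 3 1)<|c)
 (a (b 7<|b (a 7<|c) c)<|
 a (b 0<|b (a 0<|c) c)<|
 a (b 6<|b (a 3<|c) c)<|
 a (b 13<|b (d 24) (a (a (b 1 0)<|a (b 1 1)<|a (b 2 0)<|a (b 0 0)<|a (b 3 0)<|a (b 0 1)<|a (b 2 1)<|a (b 3 1)<|c)<|c))<|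
 a (b 1<|b (d 24) c)<|
 a (b 2<|b (d 24) (a (a (b 1 0)<|a (b 4 0)<|a (b 5 0)<|a (b 0 0)<|a (b 4 1)<|a (b 5 1)<|a (b 3 0)<|a (b 2 1)<|c)<|c))<|
 a (b 3<|b (d 24) c)<|
 a (b 4<|b (d 24) (a (a (b 4 0)<|a (b 5 0)<|a (b 6 0)<|a (b 2 0)<|a (b 0 0)<|a (b 3 0)<|a (b 7 1)<|a (b 0 1)<|c)<|a (a (b 1 0)<|a (b 7 0)<|a (b 1 1)<|a (b 2 0)<|a (b 4 1)<|a (b 5 1)<|a (b 3 0)<|a (b 6 1)<|c)<|c))<|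
 a (b 10<|b (d 24) (a (a (b 1 0)<|a (b 4 0)<|a (b 5 0)<|a (b 6 0)<|a (b 7 0)<|a (b 0 0)<|a (b 8 0)<|a (b 8 1)<|c)<|a (a (b 1 0)<|a (b 4 0)<|a (b 1 1)<|a (b 2 0)<|a (b 0 0)<|a (b 5 1)<|a (b 8 0)<|a (b 7 1)<|c)<|c))<|
 a (b 11<|b (d 24) (a (a (b 4 0)<|a (b 5 0)<|a (b 6 0)<|a (b 7 0)<|a (b 1 1)<|a (b 4 1)<|a (b 9 0)<|a (b 3 0)<|c)<|a (a (b 4 0)<|a (b 6 0)<|a (b 7 0)<|a (b 2 0)<|a (b 0 0)<|a (b 4 1)<|a (b 5 1)<|a (b 9 1)<|c)<|c))<|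
 a (b 15<|b (d 24) (a (a (b 4 0)<|a (b 5 0)<|a (b 2 0)<|a (b 0 0)<|a (b 4 1)<|a (b 8 0)<|a (b 9 0)<|a (b 10 0)<|c)<|a (a (b 1 0)<|a (b 5 0)<|a (b 6 0)<|a (b 1 1)<|a (b 2 0)<|a (b 0 0)<|a (b 4 1)<|a (b 10 1)<|c)<|c))<|
 a (b 20<|b (d 24) (a (a (b 5 0)<|a (b 7 0)<|a (b 1 1)<|a (b 0 0)<|a (b 4 1)<|a (b 5 1)<|a (b 8 0)<|a (b 11 0)<|c)<|a (a (b 6 0)<|a (b 1 1)<|a (b 2 0)<|a (b 4 1)<|a (b 5 1)<|a (b 8 0)<|a (b 9 0)<|a (b 11 1)<|c)<|c))<|c))<|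
 a (e 4 (a (b 1 0)<|a (b 4 0)<|a (b 5 0)<|a (b 6 0)<|a (b 7 0)<|a (b 1 1)<|a (b 2 0)<|a (b 0 0)<|a (b 4 1)<|a (b 5 1)<|a (b 8 0)<|a (b 9 0)<|a (b 8 1)<|a (b 3 0)<|a (b 7 1)<|a (b 10 0)<|a (b 0 1)<|a (b 2 1)<|a (b 10 1)<|a (b 9 1)<|a (b 11 0)<|a (b 11 1)<|a (b 6 1)<|a (b 3 1)<|c)
 (a (b 7<|b (a 7<|c) c)<|
 a (b 0<|b (a 0<|c) c)<|
 a (b 6<|b (a 4<|c) c)<|
 a (b 13<|b (d 24) (a (a (b 1 0)<|a (b 1 1)<|a (b 2 0)<|a (b 0 0)<|a (b 3 0)<|a (b 0 1)<|a (b 2 1)<|a (b 3 1)<|c)<|c))<|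
 a (b 1<|b (d 24) c)<|
 a (b 2<|b (d 24) (a (a (b 1 0)<|a (b 4 0)<|a (b 5 0)<|a (b 0 0)<|a (b 4 1)<|a (b 5 1)<|a (b 3 0)<|a (b 2 1)<|c)<|c))<|
 a (b 3<|b (d 24) c)<|
 a (b 4<|b (d 24) (a (a (b 4 0)<|a (b 5 0)<|a (b 6 0)<|a (b 2 0)<|a (b 0 0)<|a (b 3 0)<|a (b 7 1)<|a (b 0 1)<|c)<|a (a (b 1 0)<|a (b 7 0)<|a (b 1 1)<|a (b 2 0)<|a (b 4 1)<|a (b 5 1)<|a (b 3 0)<|a (b 6 1)<|c)<|c))<|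
 a (b 10<|b (d 24) (a (a (b 1 0)<|a (b 4 0)<|a (b 5 0)<|a (b 6 0)<|a (b 7 0)<|a (b 0 0)<|a (b 8 0)<|a (b 8 1)<|c)<|a (a (b 1 0)<|a (b 4 0)<|a (b 1 1)<|a (b 2 0)<|a (b 0 0)<|a (b 5 1)<|a (b 8 0)<|a (b 7 1)<|c)<|c))<|
 a (b 11<|b (d 24) (a (a (b 4 0)<|a (b 5 0)<|a (b 6 0)<|a (b 7 0)<|a (b 1 1)<|a (b 4 1)<|a (b 9 0)<|a (b 3 0)<|c)<|a (a (b 4 0)<|a (b 6 0)<|a (b 7 0)<|a (b 2 0)<|a (b 0 0)<|a (b 4 1)<|a (b 5 1)<|a (b 9 1)<|c)<|c))<|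
 a (b 15<|b (d 24) (a (a (b 4 0)<|a (b 5 0)<|a (b 2 0)<|a (b 0 0)<|a (b 4 1)<|a (b 8 0)<|a (b 9 0)<|a (b 10 0)<|c)<|a (a (b 1 0)<|a (b 5 0)<|a (b 6 0)<|a (b 1 1)<|a (b 2 0)<|a (b 0 0)<|a (b 4 1)<|a (b 10 1)<|c)<|c))<|
 a (b 20<|b (d 24) (a (a (b 5 0)<|a (b 7 0)<|a (b 1 1)<|a (b 0 0)<|a (b 4 1)<|a (b 5 1)<|a (b 8 0)<|a (b 11 0)<|c)<|a (a (b 6 0)<|a (b 1 1)<|a (b 2 0)<|a (b 4 1)<|a (b 5 1)<|a (b 8 0)<|a (b 9 0)<|a (b 11 1)<|c)<|c))<|c))<|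
 a (e 8 (a (b 1 0)<|a (b 4 0)<|a (b 5 0)<|a (b 6 0)<|a (b 7 0)<|a (b 1 1)<|a (b 2 0)<|a (b 0 0)<|a (b 4 1)<|a (b 5 1)<|a (b 8 0)<|a (b 9 0)<|a (b 8 1)<|a (b 3 0)<|a (b 7 1)<|a (b 10 0)<|a (b 0 1)<|a (b 2 1)<|a (b 10 1)<|a (b 9 1)<|a (b 11 0)<|a (b 11 1)<|a (b 6 1)<|a (b 3 1)<|c)
 (a (b 7<|b (a 7<|c) c)<|
 a (b 0<|b (a 0<|c) c)<|
 a (b 6<|b (a 8<|c) c)<|
 a (b 13<|b (d 24) (a (a (b 1 0)<|a (b 1 1)<|a (b 2 0)<|a (b 0 0)<|a (b 3 0)<|a (b 0 1)<|a (b 2 1)<|a (b 3 1)<|c)<|c))<|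
 a (b 1<|b (d 24) c)<|
 a (b 2<|b (d 24) (a (a (b 1 0)<|a (b 4 0)<|a (b 5 0)<|a (b 0 0)<|a (b 4 1)<|a (b 5 1)<|a (b 3 0)<|a (b 2 1)<|c)<|c))<|
 a (b 3<|b (d 24) c)<|
 a (b 4<|b (d 24) (a (a (b 4 0)<|a (b 5 0)<|a (b 6 0)<|a (b 2 0)<|a (b 0 0)<|a (b 3 0)<|a (b 7 1)<|a (b 0 1)<|c)<|a (a (b 1 0)<|a (b 7 0)<|a (b 1 1)<|a (b 2 0)<|a (b 4 1)<|a (b 5 1)<|a (b 3 0)<|a (b 6 1)<|c)<|c))<|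
 a (b 10<|b (d 24) (a (a (b 1 0)<|a (b 4 0)<|a (b 5 0)<|a (b 6 0)<|a (b 7 0)<|a (b 0 0)<|a (b 8 0)<|a (b 8 1)<|c)<|a (a (b 1 0)<|a (b 4 0)<|a (b 1 1)<|a (b 2 0)<|a (b 0 0)<|a (b 5 1)<|a (b 8 0)<|a (b 7 1)<|c)<|c))<|
 a (b 11<|b (d 24) (a (a (b 4 0)<|a (b 5 0)<|a (b 6 0)<|a (b 7 0)<|a (b 1 1)<|a (b 4 1)<|a (b 9 0)<|a (b 3 0)<|c)<|a (a (b 4 0)<|a (b 6 0)<|a (b 7 0)<|a (b 2 0)<|a (b 0 0)<|a (b 4 1)<|a (b 5 1)<|a (b 9 1)<|c)<|c))<|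
 a (b 15<|b (d 24) (a (a (b 4 0)<|a (b 5 0)<|a (b 2 0)<|a (b 0 0)<|a (b 4 1)<|a (b 8 0)<|a (b 9 0)<|a (b 10 0)<|c)<|a (a (b 1 0)<|a (b 5 0)<|a (b 6 0)<|a (b 1 1)<|a (b 2 0)<|a (b 0 0)<|a (b 4 1)<|a (b 10 1)<|c)<|c))<|
 a (b 20<|b (d 24) (a (a (b 5 0)<|a (b 7 0)<|a (b 1 1)<|a (b 0 0)<|a (b 4 1)<|a (b 5 1)<|a (b 8 0)<|a (b 11 0)<|c)<|a (a (b 6 0)<|a (b 1 1)<|a (b 2 0)<|a (b 4 1)<|a (b 5 1)<|a (b 8 0)<|a (b 9 0)<|a (b 11 1)<|c)<|c))<|c))<|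
 a (e 9 (a (b 1 0)<|a (b 4 0)<|a (b 5 0)<|a (b 6 0)<|a (b 7 0)<|a (b 1 1)<|a (b 2 0)<|a (b 0 0)<|a (b 4 1)<|a (b 5 1)<|a (b 8 0)<|a (b 9 0)<|a (b 8 1)<|a (b 3 0)<|a (b 7 1)<|a (b 10 0)<|a (b 0 1)<|a (b 2 1)<|a (b 10 1)<|a (b 9 1)<|a (b 11 0)<|a (b 11 1)<|a (b 6 1)<|a (b 3 1)<|c)
 (a (b 7<|b (a 7<|c) c)<|
 a (b 0<|b (a 0<|c) c)<|
 a (b 6<|b (a 9<|c) c)<|
 a (b 13<|b (d 24) (a (a (b 1 0)<|a (b 1 1)<|a (b 2 0)<|a (b 0 0)<|a (b 3 0)<|a (b 0 1)<|a (b 2 1)<|a (b 3 1)<|c)<|c))<|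
 a (b 1<|b (d 24) c)<|
 a (b 2<|b (d 24) (a (a (b 1 0)<|a (b 4 0)<|a (b 5 0)<|a (b 0 0)<|a (b 4 1)<|a (b 5 1)<|a (b 3 0)<|a (b 2 1)<|c)<|c))<|
 a (b 3<|b (d 24) c)<|
 a (b 4<|b (d 24) (a (a (b 4 0)<|a (b 5 0)<|a (b 6 0)<|a (b 2 0)<|a (b 0 0)<|a (b 3 0)<|a (b 7 1)<|a (b 0 1)<|c)<|a (a (b 1 0)<|a (b 7 0)<|a (b 1 1)<|a (b 2 0)<|a (b 4 1)<|a (b 5 1)<|a (b 3 0)<|a (b 6 1)<|c)<|c))<|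
 a (b 10<|b (d 24) (a (a (b 1 0)<|a (b 4 0)<|a (b 5 0)<|a (b 6 0)<|a (b 7 0)<|a (b 0 0)<|a (b 8 0)<|a (b 8 1)<|c)<|a (a (b 1 0)<|a (b 4 0)<|a (b 1 1)<|a (b 2 0)<|a (b 0 0)<|a (b 5 1)<|a (b 8 0)<|a (b 7 1)<|c)<|c))<|
 a (b 11<|b (d 24) (a (a (b 4 0)<|a (b 5 0)<|a (b 6 0)<|a (b 7 0)<|a (b 1 1)<|a (b 4 1)<|a (b 9 0)<|a (b 3 0)<|c)<|a (a (b 4 0)<|a (b 6 0)<|a (b 7 0)<|a (b 2 0)<|a (b 0 0)<|a (b 4 1)<|a (b 5 1)<|a (b 9 1)<|c)<|c))<|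
 a (b 15<|b (d 24) (a (a (b 4 0)<|a (b 5 0)<|a (b 2 0)<|a (b 0 0)<|a (b 4 1)<|a (b 8 0)<|a (b 9 0)<|a (b 10 0)<|c)<|a (a (b 1 0)<|a (b 5 0)<|a (b 6 0)<|a (b 1 1)<|a (b 2 0)<|a (b 0 0)<|a (b 4 1)<|a (b 10 1)<|c)<|c))<|
 a (b 20<|b (d 24) (a (a (b 5 0)<|a (b 7 0)<|a (b 1 1)<|a (b 0 0)<|a (b 4 1)<|a (b 5 1)<|a (b 8 0)<|a (b 11 0)<|c)<|a (a (b 6 0)<|a (b 1 1)<|a (b 2 0)<|a (b 4 1)<|a (b 5 1)<|a (b 8 0)<|a (b 9 0)<|a (b 11 1)<|c)<|c))<|c))<|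
 a (e 10 (a (b 1 0)<|a (b 4 0)<|a (b 5 0)<|a (b 6 0)<|a (b 7 0)<|a (b 1 1)<|a (b 2 0)<|a (b 0 0)<|a (b 4 1)<|a (b 5 1)<|a (b 8 0)<|a (b 9 0)<|a (b 8 1)<|a (b 3 0)<|a (b 7 1)<|a (b 10 0)<|a (b 0 1)<|a (b 2 1)<|a (b 10 1)<|a (b 9 1)<|a (b 11 0)<|a (b 11 1)<|a (b 6 1)<|a (b 3 1)<|c)
 (a (b 7<|b (a 7<|c) c)<|
 a (b 0<|b (a 0<|c) c)<|
 a (b 6<|b (a 10<|c) c)<|
 a (b 13<|b (d 24) (a (a (b 1 0)<|a (b 1 1)<|a (b 2 0)<|a (b 0 0)<|a (b 3 0)<|a (b 0 1)<|a (b 2 1)<|a (b 3 1)<|c)<|c))<|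
 a (b 1<|b (d 24) c)<|
 a (b 2<|b (d 24) (a (a (b 1 0)<|a (b 4 0)<|a (b 5 0)<|a (b 0 0)<|a (b 4 1)<|a (b 5 1)<|a (b 3 0)<|a (b 2 1)<|c)<|c))<|
 a (b 3<|b (d 24) c)<|
 a (b 4<|b (d 24) (a (a (b 4 0)<|a (b 5 0)<|a (b 6 0)<|a (b 2 0)<|a (b 0 0)<|a (b 3 0)<|a (b 7 1)<|a (b 0 1)<|c)<|a (a (b 1 0)<|a (b 7 0)<|a (b 1 1)<|a (b 2 0)<|a (b 4 1)<|a (b 5 1)<|a (b 3 0)<|a (b 6 1)<|c)<|c))<|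
 a (b 10<|b (d 24) (a (a (b 1 0)<|a (b 4 0)<|a (b 5 0)<|a (b 6 0)<|a (b 7 0)<|a (b 0 0)<|a (b 8 0)<|a (b 8 1)<|c)<|a (a (b 1 0)<|a (b 4 0)<|a (b 1 1)<|a (b 2 0)<|a (b 0 0)<|a (b 5 1)<|a (b 8 0)<|a (b 7 1)<|c)<|c))<|
 a (b 11<|b (d 24) (a (a (b 4 0)<|a (b 5 0)<|a (b 6 0)<|a (b 7 0)<|a (b 1 1)<|a (b 4 1)<|a (b 9 0)<|a (b 3 0)<|c)<|a (a (b 4 0)<|a (b 6 0)<|a (b 7 0)<|a (b 2 0)<|a (b 0 0)<|a (b 4 1)<|a (b 5 1)<|a (b 9 1)<|c)<|c))<|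
 a (b 15<|b (d 24) (a (a (b 4 0)<|a (b 5 0)<|a (b 2 0)<|a (b 0 0)<|a (b 4 1)<|a (b 8 0)<|a (b 9 0)<|a (b 10 0)<|c)<|a (a (b 1 0)<|a (b 5 0)<|a (b 6 0)<|a (b 1 1)<|a (b 2 0)<|a (b 0 0)<|a (b 4 1)<|a (b 10 1)<|c)<|c))<|
 a (b 20<|b (d 24) (a (a (b 5 0)<|a (b 7 0)<|a (b 1 1)<|a (b 0 0)<|a (b 4 1)<|a (b 5 1)<|a (b 8 0)<|a (b 11 0)<|c)<|a (a (b 6 0)<|a (b 1 1)<|a (b 2 0)<|a (b 4 1)<|a (b 5 1)<|a (b 8 0)<|a (b 9 0)<|a (b 11 1)<|c)<|c))<|c))<|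
 a (e 11 (a (b 1 0)<|a (b 4 0)<|a (b 5 0)<|a (b 6 0)<|a (b 7 0)<|a (b 1 1)<|a (b 2 0)<|a (b 0 0)<|a (b 4 1)<|a (b 5 1)<|a (b 8 0)<|a (b 9 0)<|a (b 8 1)<|a (b 3 0)<|a (b 7 1)<|a (b 10 0)<|a (b 0 1)<|a (b 2 1)<|a (b 10 1)<|a (b 9 1)<|a (b 11 0)<|a (b 11 1)<|a (b 6 1)<|a (b 3 1)<|c)
 (a (b 7<|b (a 7<|c) c)<|
 a (b 0<|b (a 0<|c) c)<|
 a (b 6<|b (a 11<|c) c)<|
 a (b 13<|b (d 24) (a (a (b 1 0)<|a (b 1 1)<|a (b 2 0)<|a (b 0 0)<|a (b 3 0)<|a (b 0 1)<|a (b 2 1)<|a (b 3 1)<|c)<|c))<|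
 a (b 1<|b (d 24) c)<|
 a (b 2<|b (d 24) (a (a (b 1 0)<|a (b 4 0)<|a (b 5 0)<|a (b 0 0)<|a (b 4 1)<|a (b 5 1)<|a (b 3 0)<|a (b 2 1)<|c)<|c))<|
 a (b 3<|b (d 24) c)<|
 a (b 4<|b (d 24) (a (a (b 4 0)<|a (b 5 0)<|a (b 6 0)<|a (b 2 0)<|a (b 0 0)<|a (b 3 0)<|a (b 7 1)<|a (b 0 1)<|c)<|a (a (b 1 0)<|a (b 7 0)<|a (b 1 1)<|a (b 2 0)<|a (b 4 1)<|a (b 5 1)<|a (b 3 0)<|a (b 6 1)<|c)<|c))<|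
 a (b 10<|b (d 24) (a (a (b 1 0)<|a (b 4 0)<|a (b 5 0)<|a (b 6 0)<|a (b 7 0)<|a (b 0 0)<|a (b 8 0)<|a (b 8 1)<|c)<|a (a (b 1 0)<|a (b 4 0)<|a (b 1 1)<|a (b 2 0)<|a (b 0 0)<|a (b 5 1)<|a (b 8 0)<|a (b 7 1)<|c)<|c))<|
 a (b 11<|b (d 24) (a (a (b 4 0)<|a (b 5 0)<|a (b 6 0)<|a (b 7 0)<|a (b 1 1)<|a (b 4 1)<|a (b 9 0)<|a (b 3 0)<|c)<|a (a (b 4 0)<|a (b 6 0)<|a (b 7 0)<|a (b 2 0)<|a (b 0 0)<|a (b 4 1)<|a (b 5 1)<|a (b 9 1)<|c)<|c))<|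
 a (b 15<|b (d 24) (a (a (b 4 0)<|a (b 5 0)<|a (b 2 0)<|a (b 0 0)<|a (b 4 1)<|a (b 8 0)<|a (b 9 0)<|a (b 10 0)<|c)<|a (a (b 1 0)<|a (b 5 0)<|a (b 6 0)<|a (b 1 1)<|a (b 2 0)<|a (b 0 0)<|a (b 4 1)<|a (b 10 1)<|c)<|c))<|
 a (b 20<|b (d 24) (a (a (b 5 0)<|a (b 7 0)<|a (b 1 1)<|a (b 0 0)<|a (b 4 1)<|a (b 5 1)<|a (b 8 0)<|a (b 11 0)<|c)<|a (a (b 6 0)<|a (b 1 1)<|a (b 2 0)<|a (b 4 1)<|a (b 5 1)<|a (b 8 0)<|a (b 9 0)<|a (b 11 1)<|c)<|c))<|c))<|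
 a (e 12 (a (b 1 0)<|a (b 4 0)<|a (b 5 0)<|a (b 6 0)<|a (b 7 0)<|a (b 1 1)<|a (b 2 0)<|a (b 0 0)<|a (b 4 1)<|a (b 5 1)<|a (b 8 0)<|a (b 9 0)<|a (b 8 1)<|a (b 3 0)<|a (b 7 1)<|a (b 10 0)<|a (b 0 1)<|a (b 2 1)<|a (b 10 1)<|a (b 9 1)<|a (b 11 0)<|a (b 11 1)<|a (b 6 1)<|a (b 3 1)<|c)
 (a (b 7<|b (a 7<|c) c)<|
 a (b 0<|b (a 0<|c) c)<|
 a (b 6<|b (a 12<|c) c)<|
 a (b 13<|b (d 24) (a (a (b 1 0)<|a (b 1 1)<|a (b 2 0)<|a (b 0 0)<|a (b 3 0)<|a (b 0 1)<|a (b 2 1)<|a (b 3 1)<|c)<|c))<|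
 a (b 1<|b (d 24) c)<|
 a (b 2<|b (d 24) (a (a (b 1 0)<|a (b 4 0)<|a (b 5 0)<|a (b 0 0)<|a (b 4 1)<|a (b 5 1)<|a (b 3 0)<|a (b 2 1)<|c)<|c))<|
 a (b 3<|b (d 24) c)<|
 a (b 4<|b (d 24) (a (a (b 4 0)<|a (b 5 0)<|a (b 6 0)<|a (b 2 0)<|a (b 0 0)<|a (b 3 0)<|a (b 7 1)<|a (b 0 1)<|c)<|a (a (b 1 0)<|a (b 7 0)<|a (b 1 1)<|a (b 2 0)<|a (b 4 1)<|a (b 5 1)<|a (b 3 0)<|a (b 6 1)<|c)<|c))<|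
 a (b 10<|b (d 24) (a (a (b 1 0)<|a (b 4 0)<|a (b 5 0)<|a (b 6 0)<|a (b 7 0)<|a (b 0 0)<|a (b 8 0)<|a (b 8 1)<|c)<|a (a (b 1 0)<|a (b 4 0)<|a (b 1 1)<|a (b 2 0)<|a (b 0 0)<|a (b 5 1)<|a (b 8 0)<|a (b 7 1)<|c)<|c))<|
 a (b 11<|b (d 24) (a (a (b 4 0)<|a (b 5 0)<|a (b 6 0)<|a (b 7 0)<|a (b 1 1)<|a (b 4 1)<|a (b 9 0)<|a (b 3 0)<|c)<|a (a (b 4 0)<|a (b 6 0)<|a (b 7 0)<|a (b 2 0)<|a (b 0 0)<|a (b 4 1)<|a (b 5 1)<|a (b 9 1)<|c)<|c))<|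
 a (b 15<|b (d 24) (a (a (b 4 0)<|a (b 5 0)<|a (b 2 0)<|a (b 0 0)<|a (b 4 1)<|a (b 8 0)<|a (b 9 0)<|a (b 10 0)<|c)<|a (a (b 1 0)<|a (b 5 0)<|a (b 6 0)<|a (b 1 1)<|a (b 2 0)<|a (b 0 0)<|a (b 4 1)<|a (b 10 1)<|c)<|c))<|
 a (b 20<|b (d 24) (a (a (b 5 0)<|a (b 7 0)<|a (b 1 1)<|a (b 0 0)<|a (b 4 1)<|a (b 5 1)<|a (b 8 0)<|a (b 11 0)<|c)<|a (a (b 6 0)<|a (b 1 1)<|a (b 2 0)<|a (b 4 1)<|a (b 5 1)<|a (b 8 0)<|a (b 9 0)<|a (b 11 1)<|c)<|c))<|c))<|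
 a (e 13 (a (b 1 0)<|a (b 6 0)<|a (b 7 0)<|a (b 4 0)<|a (b 8 0)<|a (b 1 1)<|a (b 2 0)<|a (b 0 0)<|a (b 6 1)<|a (b 7 1)<|a (b 5 0)<|a (b 9 0)<|a (b 5 1)<|a (b 3 0)<|a (b 8 1)<|a (b 10 0)<|a (b 0 1)<|a (b 2 1)<|a (b 10 1)<|a (b 9 1)<|a (b 11 0)<|a (b 11 1)<|a (b 4 1)<|a (b 3 1)<|c)
 (a (b 7<|b (a 7<|c) c)<|
 a (b 0<|b (a 0<|c) c)<|
 a (b 6<|b (a 13<|c) c)<|
 a (b 13<|b (d 24) (a (a (b 1 0)<|a (b 1 1)<|a (b 2 0)<|a (b 0 0)<|a (b 3 0)<|a (b 0 1)<|a (b 2 1)<|a (b 3 1)<|c)<|c))<|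
 a (b 3<|b (d 24) c)<|
 a (b 10<|b (d 24) (a (a (b 1 0)<|a (b 4 0)<|a (b 1 1)<|a (b 2 0)<|a (b 5 0)<|a (b 5 1)<|a (b 2 1)<|a (b 4 1)<|c)<|c))<|
 a (b 1<|b (d 24) (a (a (b 6 0)<|a (b 4 0)<|a (b 1 1)<|a (b 0 0)<|a (b 6 1)<|a (b 5 0)<|a (b 0 1)<|a (b 2 1)<|c)<|c))<|
 a (b 2<|b (d 24) (a (a (b 1 0)<|a (b 7 0)<|a (b 4 0)<|a (b 1 1)<|a (b 7 1)<|a (b 5 0)<|a (b 3 0)<|a (b 0 1)<|c)<|c))<|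
 a (b 4<|b (d 24) (a (a (b 1 0)<|a (b 6 0)<|a (b 7 0)<|a (b 4 0)<|a (b 8 0)<|a (b 0 0)<|a (b 5 0)<|a (b 5 1)<|c)<|a (a (b 1 0)<|a (b 6 0)<|a (b 1 1)<|a (b 2 0)<|a (b 0 0)<|a (b 7 1)<|a (b 5 0)<|a (b 8 1)<|c)<|c))<|
 a (b 11<|b (d 24) (a (a (b 6 0)<|a (b 7 0)<|a (b 4 0)<|a (b 8 0)<|a (b 1 1)<|a (b 6 1)<|a (b 9 0)<|a (b 3 0)<|c)<|a (a (b 6 0)<|a (b 4 0)<|a (b 8 0)<|a (b 2 0)<|a (b 0 0)<|a (b 6 1)<|a (b 7 1)<|a (b 9 1)<|c)<|c))<|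
 a (b 15<|b (d 24) (a (a (b 6 0)<|a (b 7 0)<|a (b 2 0)<|a (b 0 0)<|a (b 6 1)<|a (b 5 0)<|a (b 9 0)<|a (b 10 0)<|c)<|a (a (b 1 0)<|a (b 7 0)<|a (b 4 0)<|a (b 1 1)<|a (b 2 0)<|a (b 0 0)<|a (b 6 1)<|a (b 10 1)<|c)<|c))<|
 a (b 20<|b (d 24) (a (a (b 7 0)<|a (b 8 0)<|a (b 1 1)<|a (b 0 0)<|a (b 6 1)<|a (b 7 1)<|a (b 5 0)<|a (b 11 0)<|c)<|a (a (b 4 0)<|a (b 1 1)<|a (b 2 0)<|a (b 6 1)<|a (b 7 1)<|a (b 5 0)<|a (b 9 0)<|a (b 11 1)<|c)<|c))<|c))<|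
 a (e 14 (a (b 1 0)<|a (b 4 0)<|a (b 5 0)<|a (b 6 0)<|a (b 7 0)<|a (b 1 1)<|a (b 2 0)<|a (b 0 0)<|a (b 4 1)<|a (b 5 1)<|a (b 8 0)<|a (b 9 0)<|a (b 8 1)<|a (b 3 0)<|a (b 7 1)<|a (b 10 0)<|a (b 0 1)<|a (b 2 1)<|a (b 10 1)<|a (b 9 1)<|a (b 11 0)<|a (b 11 1)<|a (b 6 1)<|a (b 3 1)<|c)
 (a (b 7<|b (a 7<|c) c)<|
 a (b 0<|b (a 0<|c) c)<|
 a (b 6<|b (a 14<|c) c)<|
 a (b 13<|b (d 24) (a (a (b 1 0)<|a (b 1 1)<|a (b 2 0)<|a (b 0 0)<|a (b 3 0)<|a (b 0 1)<|a (b 2 1)<|a (b 3 1)<|c)<|c))<|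
 a (b 1<|b (d 24) c)<|
 a (b 2<|b (d 24) (a (a (b 1 0)<|a (b 4 0)<|a (b 5 0)<|a (b 0 0)<|a (b 4 1)<|a (b 5 1)<|a (b 3 0)<|a (b 2 1)<|c)<|c))<|
 a (b 3<|b (d 24) c)<|
 a (b 4<|b (d 24) (a (a (b 4 0)<|a (b 5 0)<|a (b 6 0)<|a (b 2 0)<|a (b 0 0)<|a (b 3 0)<|a (b 7 1)<|a (b 0 1)<|c)<|a (a (b 1 0)<|a (b 7 0)<|a (b 1 1)<|a (b 2 0)<|a (b 4 1)<|a (b 5 1)<|a (b 3 0)<|a (b 6 1)<|c)<|c))<|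
 a (b 10<|b (d 24) (a (a (b 1 0)<|a (b 4 0)<|a (b 5 0)<|a (b 6 0)<|a (b 7 0)<|a (b 0 0)<|a (b 8 0)<|a (b 8 1)<|c)<|a (a (b 1 0)<|a (b 4 0)<|a (b 1 1)<|a (b 2 0)<|a (b 0 0)<|a (b 5 1)<|a (b 8 0)<|a (b 7 1)<|c)<|c))<|
 a (b 11<|b (d 24) (a (a (b 4 0)<|a (b 5 0)<|a (b 6 0)<|a (b 7 0)<|a (b 1 1)<|a (b 4 1)<|a (b 9 0)<|a (b 3 0)<|c)<|a (a (b 4 0)<|a (b 6 0)<|a (b 7 0)<|a (b 2 0)<|a (b 0 0)<|a (b 4 1)<|a (b 5 1)<|a (b 9 1)<|c)<|c))<|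
 a (b 15<|b (d 24) (a (a (b 4 0)<|a (b 5 0)<|a (b 2 0)<|a (b 0 0)<|a (b 4 1)<|a (b 8 0)<|a (b 9 0)<|a (b 10 0)<|c)<|a (a (b 1 0)<|a (b 5 0)<|a (b 6 0)<|a (b 1 1)<|a (b 2 0)<|a (b 0 0)<|a (b 4 1)<|a (b 10 1)<|c)<|c))<|
 a (b 20<|b (d 24) (a (a (b 5 0)<|a (b 7 0)<|a (b 1 1)<|a (b 0 0)<|a (b 4 1)<|a (b 5 1)<|a (b 8 0)<|a (b 11 0)<|c)<|a (a (b 6 0)<|a (b 1 1)<|a (b 2 0)<|a (b 4 1)<|a (b 5 1)<|a (b 8 0)<|a (b 9 0)<|a (b 11 1)<|c)<|c))<|c))<|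
 a (e 15 (a (b 1 0)<|a (b 4 0)<|a (b 5 0)<|a (b 6 0)<|a (b 7 0)<|a (b 1 1)<|a (b 2 0)<|a (b 0 0)<|a (b 4 1)<|a (b 5 1)<|a (b 8 0)<|a (b 9 0)<|a (b 8 1)<|a (b 3 0)<|a (b 7 1)<|a (b 10 0)<|a (b 0 1)<|a (b 2 1)<|a (b 10 1)<|a (b 9 1)<|a (b 11 0)<|a (b 11 1)<|a (b 6 1)<|a (b 3 1)<|c)
 (a (b 7<|b (a 7<|c) c)<|
 a (b 0<|b (a 0<|c) c)<|
 a (b 6<|b (a 15<|c) c)<|
 a (b 13<|b (d 24) (a (a (b 1 0)<|a (b 1 1)<|a (b 2 0)<|a (b 0 0)<|a (b 3 0)<|a (b 0 1)<|a (b 2 1)<|a (b 3 1)<|c)<|c))<|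
 a (b 1<|b (d 24) c)<|
 a (b 2<|b (d 24) (a (a (b 1 0)<|a (b 4 0)<|a (b 5 0)<|a (b 0 0)<|a (b 4 1)<|a (b 5 1)<|a (b 3 0)<|a (b 2 1)<|c)<|c))<|
 a (b 3<|b (d 24) c)<|
 a (b 4<|b (d 24) (a (a (b 4 0)<|a (b 5 0)<|a (b 6 0)<|a (b 2 0)<|a (b 0 0)<|a (b 3 0)<|a (b 7 1)<|a (b 0 1)<|c)<|a (a (b 1 0)<|a (b 7 0)<|a (b 1 1)<|a (b 2 0)<|a (b 4 1)<|a (b 5 1)<|a (b 3 0)<|a (b 6 1)<|c)<|c))<|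
 a (b 10<|b (d 24) (a (a (b 1 0)<|a (b 4 0)<|a (b 5 0)<|a (b 6 0)<|a (b 7 0)<|a (b 0 0)<|a (b 8 0)<|a (b 8 1)<|c)<|a (a (b 1 0)<|a (b 4 0)<|a (b 1 1)<|a (b 2 0)<|a (b 0 0)<|a (b 5 1)<|a (b 8 0)<|a (b 7 1)<|c)<|c))<|
 a (b 11<|b (d 24) (a (a (b 4 0)<|a (b 5 0)<|a (b 6 0)<|a (b 7 0)<|a (b 1 1)<|a (b 4 1)<|a (b 9 0)<|a (b 3 0)<|c)<|a (a (b 4 0)<|a (b 6 0)<|a (b 7 0)<|a (b 2 0)<|a (b 0 0)<|a (b 4 1)<|a (b 5 1)<|a (b 9 1)<|c)<|c))<|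
 a (b 15<|b (d 24) (a (a (b 4 0)<|a (b 5 0)<|a (b 2 0)<|a (b 0 0)<|a (b 4 1)<|a (b 8 0)<|a (b 9 0)<|a (b 10 0)<|c)<|a (a (b 1 0)<|a (b 5 0)<|a (b 6 0)<|a (b 1 1)<|a (b 2 0)<|a (b 0 0)<|a (b 4 1)<|a (b 10 1)<|c)<|c))<|
 a (b 20<|b (d 24) (a (a (b 5 0)<|a (b 7 0)<|a (b 1 1)<|a (b 0 0)<|a (b 4 1)<|a (b 5 1)<|a (b 8 0)<|a (b 11 0)<|c)<|a (a (b 6 0)<|a (b 1 1)<|a (b 2 0)<|a (b 4 1)<|a (b 5 1)<|a (b 8 0)<|a (b 9 0)<|a (b 11 1)<|c)<|c))<|c))<|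
 a (e 18 (a (b 1 0)<|a (b 4 0)<|a (b 5 0)<|a (b 6 0)<|a (b 7 0)<|a (b 1 1)<|a (b 2 0)<|a (b 0 0)<|a (b 4 1)<|a (b 5 1)<|a (b 8 0)<|a (b 9 0)<|a (b 8 1)<|a (b 3 0)<|a (b 7 1)<|a (b 10 0)<|a (b 0 1)<|a (b 2 1)<|a (b 10 1)<|a (b 9 1)<|a (b 11 0)<|a (b 11 1)<|a (b 6 1)<|a (b 3 1)<|c)
 (a (b 7<|b (a 7<|c) c)<|
 a (b 0<|b (a 0<|c) c)<|
 a (b 6<|b (a 18<|c) c)<|
 a (b 13<|b (d 24) (a (a (b 1 0)<|a (b 1 1)<|a (b 2 0)<|a (b 0 0)<|a (b 3 0)<|a (b 0 1)<|a (b 2 1)<|a (b 3 1)<|c)<|c))<|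
 a (b 1<|b (d 24) c)<|
 a (b 2<|b (d 24) (a (a (b 1 0)<|a (b 4 0)<|a (b 5 0)<|a (b 0 0)<|a (b 4 1)<|a (b 5 1)<|a (b 3 0)<|a (b 2 1)<|c)<|c))<|
 a (b 3<|b (d 24) c)<|
 a (b 4<|b (d 24) (a (a (b 4 0)<|a (b 5 0)<|a (b 6 0)<|a (b 2 0)<|a (b 0 0)<|a (b 3 0)<|a (b 7 1)<|a (b 0 1)<|c)<|a (a (b 1 0)<|a (b 7 0)<|a (b 1 1)<|a (b 2 0)<|a (b 4 1)<|a (b 5 1)<|a (b 3 0)<|a (b 6 1)<|c)<|c))<|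
 a (b 10<|b (d 24) (a (a (b 1 0)<|a (b 4 0)<|a (b 5 0)<|a (b 6 0)<|a (b 7 0)<|a (b 0 0)<|a (b 8 0)<|a (b 8 1)<|c)<|a (a (b 1 0)<|a (b 4 0)<|a (b 1 1)<|a (b 2 0)<|a (b 0 0)<|a (b 5 1)<|a (b 8 0)<|a (b 7 1)<|c)<|c))<|
 a (b 11<|b (d 24) (a (a (b 4 0)<|a (b 5 0)<|a (b 6 0)<|a (b 7 0)<|a (b 1 1)<|a (b 4 1)<|a (b 9 0)<|a (b 3 0)<|c)<|a (a (b 4 0)<|a (b 6 0)<|a (b 7 0)<|a (b 2 0)<|a (b 0 0)<|a (b 4 1)<|a (b 5 1)<|a (b 9 1)<|c)<|c))<|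
 a (b 15<|b (d 24) (a (a (b 4 0)<|a (b 5 0)<|a (b 2 0)<|a (b 0 0)<|a (b 4 1)<|a (b 8 0)<|a (b 9 0)<|a (b 10 0)<|c)<|a (a (b 1 0)<|a (b 5 0)<|a (b 6 0)<|a (b 1 1)<|a (b 2 0)<|a (b 0 0)<|a (b 4 1)<|a (b 10 1)<|c)<|c))<|
 a (b 20<|b (d 24) (a (a (b 5 0)<|a (b 7 0)<|a (b 1 1)<|a (b 0 0)<|a (b 4 1)<|a (b 5 1)<|a (b 8 0)<|a (b 11 0)<|c)<|a (a (b 6 0)<|a (b 1 1)<|a (b 2 0)<|a (b 4 1)<|a (b 5 1)<|a (b 8 0)<|a (b 9 0)<|a (b 11 1)<|c)<|c))<|c))<|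
 a (e 19 (a (b 1 0)<|a (b 4 0)<|a (b 5 0)<|a (b 6 0)<|a (b 7 0)<|a (b 1 1)<|a (b 2 0)<|a (b 0 0)<|a (b 4 1)<|a (b 5 1)<|a (b 8 0)<|a (b 9 0)<|a (b 8 1)<|a (b 3 0)<|a (b 7 1)<|a (b 10 0)<|a (b 0 1)<|a (b 2 1)<|a (b 10 1)<|a (b 9 1)<|a (b 11 0)<|a (b 11 1)<|a (b 6 1)<|a (b 3 1)<|c)
 (a (b 7<|b (a 7<|c) c)<|
 a (b 0<|b (a 0<|c) c)<|
 a (b 6<|b (a 19<|c) c)<|
 a (b 13<|b (d 24) (a (a (b 1 0)<|a (b 1 1)<|a (b 2 0)<|a (b 0 0)<|a (b 3 0)<|a (b 0 1)<|a (b 2 1)<|a (b 3 1)<|c)<|c))<|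
 a (b 1<|b (d 24) c)<|
 a (b 2<|b (d 24) (a (a (b 1 0)<|a (b 4 0)<|a (b 5 0)<|a (b 0 0)<|a (b 4 1)<|a (b 5 1)<|a (b 3 0)<|a (b 2 1)<|c)<|c))<|
 a (b 3<|b (d 24) c)<|
 a (b 4<|b (d 24) (a (a (b 4 0)<|a (b 5 0)<|a (b 6 0)<|a (b 2 0)<|a (b 0 0)<|a (b 3 0)<|a (b 7 1)<|a (b 0 1)<|c)<|a (a (b 1 0)<|a (b 7 0)<|a (b 1 1)<|a (b 2 0)<|a (b 4 1)<|a (b 5 1)<|a (b 3 0)<|a (b 6 1)<|c)<|c))<|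
 a (b 10<|b (d 24) (a (a (b 1 0)<|a (b 4 0)<|a (b 5 0)<|a (b 6 0)<|a (b 7 0)<|a (b 0 0)<|a (b 8 0)<|a (b 8 1)<|c)<|a (a (b 1 0)<|a (b 4 0)<|a (b 1 1)<|a (b 2 0)<|a (b 0 0)<|a (b 5 1)<|a (b 8 0)<|a (b 7 1)<|c)<|c))<|
 a (b 11<|b (d 24) (a (a (b 4 0)<|a (b 5 0)<|a (b 6 0)<|a (b 7 0)<|a (b 1 1)<|a (b 4 1)<|a (b 9 0)<|a (b 3 0)<|c)<|a (a (b 4 0)<|a (b 6 0)<|a (b 7 0)<|a (b 2 0)<|a (b 0 0)<|a (b 4 1)<|a (b 5 1)<|a (b 9 1)<|c)<|c))<|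
 a (b 15<|b (d 24) (a (a (b 4 0)<|a (b 5 0)<|a (b 2 0)<|a (b 0 0)<|a (b 4 1)<|a (b 8 0)<|a (b 9 0)<|a (b 10 0)<|c)<|a (a (b 1 0)<|a (b 5 0)<|a (b 6 0)<|a (b 1 1)<|a (b 2 0)<|a (b 0 0)<|a (b 4 1)<|a (b 10 1)<|c)<|c))<|
 a (b 20<|b (d 24) (a (a (b 5 0)<|a (b 7 0)<|a (b 1 1)<|a (b 0 0)<|a (b 4 1)<|a (b 5 1)<|a (b 8 0)<|a (b 11 0)<|c)<|a (a (b 6 0)<|a (b 1 1)<|a (b 2 0)<|a (b 4 1)<|a (b 5 1)<|a (b 8 0)<|a (b 9 0)<|a (b 11 1)<|c)<|c))<|c))<|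
 a (e 20 (a (b 1 0)<|a (b 4 0)<|a (b 5 0)<|a (b 6 0)<|a (b 7 0)<|a (b 1 1)<|a (b 2 0)<|a (b 0 0)<|a (b 4 1)<|a (b 5 1)<|a (b 8 0)<|a (b 9 0)<|a (b 8 1)<|a (b 3 0)<|a (b 7 1)<|a (b 10 0)<|a (b 0 1)<|a (b 2 1)<|a (b 10 1)<|a (b 9 1)<|a (b 11 0)<|a (b 11 1)<|a (b 6 1)<|a (b 3 1)<|c)
 (a (b 7<|b (a 7<|c) c)<|
 a (b 0<|b (a 0<|c) c)<|
 a (b 6<|b (a 20<|c) c)<|
 a (b 13<|b (d 24) (a (a (b 1 0)<|a (b 1 1)<|a (b 2 0)<|a (b 0 0)<|a (b 3 0)<|a (b 0 1)<|a (b 2 1)<|a (b 3 1)<|c)<|c))<|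
 a (b 1<|b (d 24) c)<|
 a (b 2<|b (d 24) (a (a (b 1 0)<|a (b 4 0)<|a (b 5 0)<|a (b 0 0)<|a (b 4 1)<|a (b 5 1)<|a (b 3 0)<|a (b 2 1)<|c)<|c))<|
 a (b 3<|b (d 24) c)<|
 a (b 4<|b (d 24) (a (a (b 4 0)<|a (b 5 0)<|a (b 6 0)<|a (b 2 0)<|a (b 0 0)<|a (b 3 0)<|a (b 7 1)<|a (b 0 1)<|c)<|a (a (b 1 0)<|a (b 7 0)<|a (b 1 1)<|a (b 2 0)<|a (b 4 1)<|a (b 5 1)<|a (b 3 0)<|a (b 6 1)<|c)<|c))<|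
 a (b 10<|b (d 24) (a (a (b 1 0)<|a (b 4 0)<|a (b 5 0)<|a (b 6 0)<|a (b 7 0)<|a (b 0 0)<|a (b 8 0)<|a (b 8 1)<|c)<|a (a (b 1 0)<|a (b 4 0)<|a (b 1 1)<|a (b 2 0)<|a (b 0 0)<|a (b 5 1)<|a (b 8 0)<|a (b 7 1)<|c)<|c))<|
 a (b 11<|b (d 24) (a (a (b 4 0)<|a (b 5 0)<|a (b 6 0)<|a (b 7 0)<|a (b 1 1)<|a (b 4 1)<|a (b 9 0)<|a (b 3 0)<|c)<|a (a (b 4 0)<|a (b 6 0)<|a (b 7 0)<|a (b 2 0)<|a (b 0 0)<|a (b 4 1)<|a (b 5 1)<|a (b 9 1)<|c)<|c))<|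
 a (b 15<|b (d 24) (a (a (b 4 0)<|a (b 5 0)<|a (b 2 0)<|a (b 0 0)<|a (b 4 1)<|a (b 8 0)<|a (b 9 0)<|a (b 10 0)<|c)<|a (a (b 1 0)<|a (b 5 0)<|a (b 6 0)<|a (b 1 1)<|a (b 2 0)<|a (b 0 0)<|a (b 4 1)<|a (b 10 1)<|c)<|c))<|
 a (b 20<|b (d 24) (a (a (b 5 0)<|a (b 7 0)<|a (b 1 1)<|a (b 0 0)<|a (b 4 1)<|a (b 5 1)<|a (b 8 0)<|a (b 11 0)<|c)<|a (a (b 6 0)<|a (b 1 1)<|a (b 2 0)<|a (b 4 1)<|a (b 5 1)<|a (b 8 0)<|a (b 9 0)<|a (b 11 1)<|c)<|c))<|c))<|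
 a (e 21 (a (b 1 0)<|a (b 4 0)<|a (b 5 0)<|a (b 6 0)<|a (b 7 0)<|a (b 1 1)<|a (b 2 0)<|a (b 0 0)<|a (b 4 1)<|a (b 5 1)<|a (b 8 0)<|a (b 9 0)<|a (b 8 1)<|a (b 3 0)<|a (b 7 1)<|a (b 10 0)<|a (b 0 1)<|a (b 2 1)<|a (b 10 1)<|a (b 9 1)<|a (b 11 0)<|a (b 11 1)<|a (b 6 1)<|a (b 3 1)<|c)
 (a (b 7<|b (a 7<|c) c)<|
 a (b 0<|b (a 0<|c) c)<|
 a (b 6<|b (a 21<|c) c)<|
 a (b 13<|b (d 24) (a (a (b 1 0)<|a (b 1 1)<|a (b 2 0)<|a (b 0 0)<|a (b 3 0)<|a (b 0 1)<|a (b 2 1)<|a (b 3 1)<|c)<|c))<|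
 a (b 1<|b (d 24) c)<|
 a (b 2<|b (d 24) (a (a (b 1 0)<|a (b 4 0)<|a (b 5 0)<|a (b 0 0)<|a (b 4 1)<|a (b 5 1)<|a (b 3 0)<|a (b 2 1)<|c)<|c))<|
 a (b 3<|b (d 24) c)<|
 a (b 4<|b (d 24) (a (a (b 4 0)<|a (b 5 0)<|a (b 6 0)<|a (b 2 0)<|a (b 0 0)<|a (b 3 0)<|a (b 7 1)<|a (b 0 1)<|c)<|a (a (b 1 0)<|a (b 7 0)<|a (b 1 1)<|a (b 2 0)<|a (b 4 1)<|a (b 5 1)<|a (b 3 0)<|a (b 6 1)<|c)<|c))<|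
 a (b 10<|b (d 24) (a (a (b 1 0)<|a (b 4 0)<|a (b 5 0)<|a (b 6 0)<|a (b 7 0)<|a (b 0 0)<|a (b 8 0)<|a (b 8 1)<|c)<|a (a (b 1 0)<|a (b 4 0)<|a (b 1 1)<|a (b 2 0)<|a (b 0 0)<|a (b 5 1)<|a (b 8 0)<|a (b 7 1)<|c)<|c))<|
 a (b 11<|b (d 24) (a (a (b 4 0)<|a (b 5 0)<|a (b 6 0)<|a (b 7 0)<|a (b 1 1)<|a (b 4 1)<|a (b 9 0)<|a (b 3 0)<|c)<|a (a (b 4 0)<|a (b 6 0)<|a (b 7 0)<|a (b 2 0)<|a (b 0 0)<|a (b 4 1)<|a (b 5 1)<|a (b 9 1)<|c)<|c))<|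
 a (b 15<|b (d 24) (a (a (b 4 0)<|a (b 5 0)<|a (b 2 0)<|a (b 0 0)<|a (b 4 1)<|a (b 8 0)<|a (b 9 0)<|a (b 10 0)<|c)<|a (a (b 1 0)<|a (b 5 0)<|a (b 6 0)<|a (b 1 1)<|a (b 2 0)<|a (b 0 0)<|a (b 4 1)<|a (b 10 1)<|c)<|c))<|
 a (b 20<|b (d 24) (a (a (b 5 0)<|a (b 7 0)<|a (b 1 1)<|a (b 0 0)<|a (b 4 1)<|a (b 5 1)<|a (b 8 0)<|a (b 11 0)<|c)<|a (a (b 6 0)<|a (b 1 1)<|a (b 2 0)<|a (b 4 1)<|a (b 5 1)<|a (b 8 0)<|a (b 9 0)<|a (b 11 1)<|c)<|c))<|c))<|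
 a (e 22 (a (b 1 0)<|a (b 4 0)<|a (b 5 0)<|a (b 6 0)<|a (b 7 0)<|a (b 1 1)<|a (b 2 0)<|a (b 0 0)<|a (b 4 1)<|a (b 5 1)<|a (b 8 0)<|a (b 9 0)<|a (b 8 1)<|a (b 3 0)<|a (b 7 1)<|a (b 10 0)<|a (b 0 1)<|a (b 2 1)<|a (b 10 1)<|a (b 9 1)<|a (b 11 0)<|a (b 11 1)<|a (b 6 1)<|a (b 3 1)<|c)
 (a (b 7<|b (a 7<|c) c)<|
 a (b 0<|b (a 0<|c) c)<|
 a (b 6<|b (a 22<|c) c)<|
 a (b 13<|b (d 24) (a (a (b 1 0)<|a (b 1 1)<|a (b 2 0)<|a (b 0 0)<|a (b 3 0)<|a (b 0 1)<|a (b 2 1)<|a (b 3 1)<|c)<|c))<|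
 a (b 1<|b (d 24) c)<|
 a (b 2<|b (d 24) (a (a (b 1 0)<|a (b 4 0)<|a (b 5 0)<|a (b 0 0)<|a (b 4 1)<|a (b 5 1)<|a (b 3 0)<|a (b 2 1)<|c)<|c))<|
 a (b 3<|b (d 24) c)<|
 a (b 4<|b (d 24) (a (a (b 4 0)<|a (b 5 0)<|a (b 6 0)<|a (b 2 0)<|a (b 0 0)<|a (b 3 0)<|a (b 7 1)<|a (b 0 1)<|c)<|a (a (b 1 0)<|a (b 7 0)<|a (b 1 1)<|a (b 2 0)<|a (b 4 1)<|a (b 5 1)<|a (b 3 0)<|a (b 6 1)<|c)<|c))<|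
 a (b 10<|b (d 24) (a (a (b 1 0)<|a (b 4 0)<|a (b 5 0)<|a (b 6 0)<|a (b 7 0)<|a (b 0 0)<|a (b 8 0)<|a (b 8 1)<|c)<|a (a (b 1 0)<|a (b 4 0)<|a (b 1 1)<|a (b 2 0)<|a (b 0 0)<|a (b 5 1)<|a (b 8 0)<|a (b 7 1)<|c)<|c))<|
 a (b 11<|b (d 24) (a (a (b 4 0)<|a (b 5 0)<|a (b 6 0)<|a (b 7 0)<|a (b 1 1)<|a (b 4 1)<|a (b 9 0)<|a (b 3 0)<|c)<|a (a (b 4 0)<|a (b 6 0)<|a (b 7 0)<|a (b 2 0)<|a (b 0 0)<|a (b 4 1)<|a (b 5 1)<|a (b 9 1)<|c)<|c))<|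
 a (b 15<|b (d 24) (a (a (b 4 0)<|a (b 5 0)<|a (b 2 0)<|a (b 0 0)<|a (b 4 1)<|a (b 8 0)<|a (b 9 0)<|a (b 10 0)<|c)<|a (a (b 1 0)<|a (b 5 0)<|a (b 6 0)<|a (b 1 1)<|a (b 2 0)<|a (b 0 0)<|a (b 4 1)<|a (b 10 1)<|c)<|c))<|
 a (b 20<|b (d 24) (a (a (b 5 0)<|a (b 7 0)<|a (b 1 1)<|a (b 0 0)<|a (b 4 1)<|a (b 5 1)<|a (b 8 0)<|a (b 11 0)<|c)<|a (a (b 6 0)<|a (b 1 1)<|a (b 2 0)<|a (b 4 1)<|a (b 5 1)<|a (b 8 0)<|a (b 9 0)<|a (b 11 1)<|c)<|c))<|c))<|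
 a (e 23 (a (b 1 0)<|a (b 4 0)<|a (b 6 0)<|a (b 7 0)<|a (b 8 0)<|a (b 1 1)<|a (b 2 0)<|a (b 0 0)<|a (b 4 1)<|a (b 6 1)<|a (b 9 0)<|a (b 5 0)<|a (b 9 1)<|a (b 3 0)<|a (b 8 1)<|a (b 10 0)<|a (b 0 1)<|a (b 2 1)<|a (b 10 1)<|a (b 5 1)<|a (b 11 0)<|a (b 11 1)<|a (b 7 1)<|a (b 3 1)<|c)
 (a (b 7<|b (a 7<|c) c)<|
 a (b 0<|b (a 0<|c) c)<|
 a (b 6<|b (a 23<|c) c)<|
 a (b 13<|b (d 24) (a (a (b 1 0)<|a (b 1 1)<|a (b 2 0)<|a (b 0 0)<|a (b 3 0)<|a (b 0 1)<|a (b 2 1)<|a (b 3 1)<|c)<|c))<|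
 a (b 1<|b (d 24) c)<|
 a (b 11<|b (d 24) (a (a (b 1 0)<|a (b 4 0)<|a (b 1 1)<|a (b 2 0)<|a (b 4 1)<|a (b 5 0)<|a (b 2 1)<|a (b 5 1)<|c)<|c))<|
 a (b 2<|b (d 24) (a (a (b 1 0)<|a (b 4 0)<|a (b 6 0)<|a (b 0 0)<|a (b 4 1)<|a (b 6 1)<|a (b 3 0)<|a (b 2 1)<|c)<|c))<|
 a (b 3<|b (d 24) (a (a (b 1 0)<|a (b 4 0)<|a (b 6 0)<|a (b 7 0)<|a (b 2 0)<|a (b 6 1)<|a (b 5 0)<|a (b 7 1)<|c)<|c))<|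
 a (b 4<|b (d 24) (a (a (b 4 0)<|a (b 6 0)<|a (b 7 0)<|a (b 8 0)<|a (b 1 1)<|a (b 4 1)<|a (b 5 0)<|a (b 3 0)<|c)<|a (a (b 8 0)<|a (b 1 1)<|a (b 2 0)<|a (b 0 0)<|a (b 4 1)<|a (b 5 0)<|a (b 8 1)<|a (b 0 1)<|c)<|c))<|
 a (b 10<|b (d 24) (a (a (b 1 0)<|a (b 4 0)<|a (b 6 0)<|a (b 7 0)<|a (b 8 0)<|a (b 0 0)<|a (b 9 0)<|a (b 9 1)<|c)<|a (a (b 1 0)<|a (b 4 0)<|a (b 1 1)<|a (b 2 0)<|a (b 0 0)<|a (b 6 1)<|a (b 9 0)<|a (b 8 1)<|c)<|c))<|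
 a (b 15<|b (d 24) (a (a (b 4 0)<|a (b 6 0)<|a (b 2 0)<|a (b 0 0)<|a (b 4 1)<|a (b 9 0)<|a (b 5 0)<|a (b 10 0)<|c)<|a (a (b 1 0)<|a (b 6 0)<|a (b 7 0)<|a (b 1 1)<|a (b 2 0)<|a (b 0 0)<|a (b 4 1)<|a (b 10 1)<|c)<|c))<|
 a (b 20<|b (d 24) (a (a (b 6 0)<|a (b 8 0)<|a (b 1 1)<|a (b 0 0)<|a (b 4 1)<|a (b 6 1)<|a (b 9 0)<|a (b 11 0)<|c)<|a (a (b 7 0)<|a (b 1 1)<|a (b 2 0)<|a (b 4 1)<|a (b 6 1)<|a (b 9 0)<|a (b 5 0)<|a (b 11 1)<|c)<|c))<|c))<|c))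

def f1_3 : Fib where
  b := 1
  e := (beta% delta% lq265cdff330 fun a b c d e =>
 (a (e 3 (a (b 2 0)<|a (b 3 0)<|a (b 6 0)<|a (b 7 0)<|a (b 5 0)<|a (b 2 1)<|a (b 0 0)<|a (b 1 0)<|a (b 3 1)<|a (b 6 1)<|a (b 8 0)<|a (b 4 0)<|a (b 8 1)<|a (b 9 0)<|a (b 5 1)<|a (b 10 0)<|a (b 1 1)<|a (b 0 1)<|a (b 10 1)<|a (b 4 1)<|a (b 11 0)<|a (b 11 1)<|a (b 7 1)<|a (b 9 1)<|c)
 (a (b 6<|b (a 6<|c) c)<|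
 a (b 7<|b (a 7<|c) c)<|
 a (b 0<|b (a 0<|c) c)<|
 a (b 1<|b (a 3<|c) c)<|
 a (b 11<|b (d 24) (a (a (b 2 0)<|a (b 3 0)<|a (b 2 1)<|a (b 0 0)<|a (b 3 1)<|a (b 4 0)<|a (b 0 1)<|a (b 4 1)<|c)<|c))<|
 a (b 4<|b (d 24) (a (a (b 5 0)<|a (b 2 1)<|a (b 0 0)<|a (b 1 0)<|a (b 3 1)<|a (b 4 0)<|a (b 5 1)<|a (b 1 1)<|c)<|c))<|
 a (b 2<|b (d 24) c)<|
 a (b 3<|b (d 24) (a (a (b 2 0)<|a (b 7 0)<|a (b 5 0)<|a (b 2 1)<|a (b 1 0)<|a (b 6 1)<|a (b 4 0)<|a (b 0 1)<|c)<|a (a (b 2 0)<|a (b 3 0)<|a (b 6 0)<|a (b 7 0)<|a (b 0 0)<|a (b 6 1)<|a (b 4 0)<|a (b 7 1)<|c)<|c))<|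
 a (b 10<|b (d 24) (a (a (b 2 0)<|a (b 3 0)<|a (b 6 0)<|a (b 7 0)<|a (b 5 0)<|a (b 1 0)<|a (b 8 0)<|a (b 8 1)<|c)<|a (a (b 2 0)<|a (b 3 0)<|a (b 2 1)<|a (b 0 0)<|a (b 1 0)<|a (b 6 1)<|a (b 8 0)<|a (b 5 1)<|c)<|c))<|
 a (b 13<|b (d 24) (a (a (b 3 0)<|a (b 6 0)<|a (b 7 0)<|a (b 5 0)<|a (b 2 1)<|a (b 3 1)<|a (b 4 0)<|a (b 9 0)<|c)<|a (a (b 2 0)<|a (b 6 0)<|a (b 5 0)<|a (b 2 1)<|a (b 0 0)<|a (b 8 0)<|a (b 4 0)<|a (b 9 1)<|c)<|c))<|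
 a (b 15<|b (d 24) (a (a (b 3 0)<|a (b 6 0)<|a (b 0 0)<|a (b 1 0)<|a (b 3 1)<|a (b 8 0)<|a (b 4 0)<|a (b 10 0)<|c)<|a (a (b 2 0)<|a (b 6 0)<|a (b 7 0)<|a (b 2 1)<|a (b 0 0)<|a (b 1 0)<|a (b 3 1)<|a (b 10 1)<|c)<|c))<|
 a (b 20<|b (d 24) (a (a (b 6 0)<|a (b 5 0)<|a (b 2 1)<|a (b 1 0)<|a (b 3 1)<|a (b 6 1)<|a (b 8 0)<|a (b 11 0)<|c)<|a (a (b 7 0)<|a (b 2 1)<|a (b 0 0)<|a (b 3 1)<|a (b 6 1)<|a (b 8 0)<|a (b 4 0)<|a (b 11 1)<|c)<|c))<|c))<|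
 a (e 4 (a (b 2 0)<|a (b 3 0)<|a (b 6 0)<|a (b 7 0)<|a (b 5 0)<|a (b 2 1)<|a (b 0 0)<|a (b 1 0)<|a (b 3 1)<|a (b 6 1)<|a (b 8 0)<|a (b 4 0)<|a (b 8 1)<|a (b 9 0)<|a (b 5 1)<|a (b 10 0)<|a (b 1 1)<|a (b 0 1)<|a (b 10 1)<|a (b 4 1)<|a (b 11 0)<|a (b 11 1)<|a (b 7 1)<|a (b 9 1)<|c)
 (a (b 6<|b (a 6<|c) c)<|
 a (b 7<|b (a 7<|c) c)<|
 a (b 0<|b (a 0<|c) c)<|
 a (b 1<|b (a 4<|c) c)<|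
 a (b 11<|b (d 24) (a (a (b 2 0)<|a (b 3 0)<|a (b 2 1)<|a (b 0 0)<|a (b 3 1)<|a (b 4 0)<|a (b 0 1)<|a (b 4 1)<|c)<|c))<|
 a (b 4<|b (d 24) (a (a (b 5 0)<|a (b 2 1)<|a (b 0 0)<|a (b 1 0)<|a (b 3 1)<|a (b 4 0)<|a (b 5 1)<|a (b 1 1)<|c)<|c))<|
 a (b 2<|b (d 24) c)<|
 a (b 3<|b (d 24) (a (a (b 2 0)<|a (b 7 0)<|a (b 5 0)<|a (b 2 1)<|a (b 1 0)<|a (b 6 1)<|a (b 4 0)<|a (b 0 1)<|c)<|a (a (b 2 0)<|a (b 3 0)<|a (b 6 0)<|a (b 7 0)<|a (b 0 0)<|a (b 6 1)<|a (b 4 0)<|a (b 7 1)<|c)<|c))<|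
 a (b 10<|b (d 24) (a (a (b 2 0)<|a (b 3 0)<|a (b 6 0)<|a (b 7 0)<|a (b 5 0)<|a (b 1 0)<|a (b 8 0)<|a (b 8 1)<|c)<|a (a (b 2 0)<|a (b 3 0)<|a (b 2 1)<|a (b 0 0)<|a (b 1 0)<|a (b 6 1)<|a (b 8 0)<|a (b 5 1)<|c)<|c))<|
 a (b 13<|b (d 24) (a (a (b 3 0)<|a (b 6 0)<|a (b 7 0)<|a (b 5 0)<|a (b 2 1)<|a (b 3 1)<|a (b 4 0)<|a (b 9 0)<|c)<|a (a (b 2 0)<|a (b 6 0)<|a (b 5 0)<|a (b 2 1)<|a (b 0 0)<|a (b 8 0)<|a (b 4 0)<|a (b 9 1)<|c)<|c))<|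
 a (b 15<|b (d 24) (a (a (b 3 0)<|a (b 6 0)<|a (b 0 0)<|a (b 1 0)<|a (b 3 1)<|a (b 8 0)<|a (b 4 0)<|a (b 10 0)<|c)<|a (a (b 2 0)<|a (b 6 0)<|a (b 7 0)<|a (b 2 1)<|a (b 0 0)<|a (b 1 0)<|a (b 3 1)<|a (b 10 1)<|c)<|c))<|
 a (b 20<|b (d 24) (a (a (b 6 0)<|a (b 5 0)<|a (b 2 1)<|a (b 1 0)<|a (b 3 1)<|a (b 6 1)<|a (b 8 0)<|a (b 11 0)<|c)<|a (a (b 7 0)<|a (b 2 1)<|a (b 0 0)<|a (b 3 1)<|a (b 6 1)<|a (b 8 0)<|a (b 4 0)<|a (b 11 1)<|c)<|c))<|c))<|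
 a (e 10 (a (b 2 0)<|a (b 3 0)<|a (b 5 0)<|a (b 6 0)<|a (b 7 0)<|a (b 2 1)<|a (b 0 0)<|a (b 1 0)<|a (b 3 1)<|a (b 5 1)<|a (b 8 0)<|a (b 9 0)<|a (b 8 1)<|a (b 4 0)<|a (b 7 1)<|a (b 10 0)<|a (b 1 1)<|a (b 0 1)<|a (b 10 1)<|a (b 9 1)<|a (b 11 0)<|a (b 11 1)<|a (b 6 1)<|a (b 4 1)<|c)
 (a (b 6<|b (a 6<|c) c)<|
 a (b 7<|b (a 7<|c) c)<|
 a (b 0<|b (a 0<|c) c)<|
 a (b 1<|b (a 10<|c) c)<|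
 a (b 13<|b (d 24) (a (a (b 2 0)<|a (b 2 1)<|a (b 0 0)<|a (b 1 0)<|a (b 4 0)<|a (b 1 1)<|a (b 0 1)<|a (b 4 1)<|c)<|c))<|
 a (b 2<|b (d 24) (a (a (b 2 0)<|a (b 3 0)<|a (b 5 0)<|a (b 1 0)<|a (b 3 1)<|a (b 5 1)<|a (b 4 0)<|a (b 0 1)<|c)<|c))<|
 a (b 3<|b (d 24) c)<|
 a (b 4<|b (d 24) (a (a (b 3 0)<|a (b 5 0)<|a (b 6 0)<|a (b 0 0)<|a (b 1 0)<|a (b 4 0)<|a (b 7 1)<|a (b 1 1)<|c)<|a (a (b 2 0)<|a (b 7 0)<|a (b 2 1)<|a (b 0 0)<|a (b 3 1)<|a (b 5 1)<|a (b 4 0)<|a (b 6 1)<|c)<|c))<|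
 a (b 10<|b (d 24) (a (a (b 2 0)<|a (b 3 0)<|a (b 5 0)<|a (b 6 0)<|a (b 7 0)<|a (b 1 0)<|a (b 8 0)<|a (b 8 1)<|c)<|a (a (b 2 0)<|a (b 3 0)<|a (b 2 1)<|a (b 0 0)<|a (b 1 0)<|a (b 5 1)<|a (b 8 0)<|a (b 7 1)<|c)<|c))<|
 a (b 11<|b (d 24) (a (a (b 3 0)<|a (b 5 0)<|a (b 6 0)<|a (b 7 0)<|a (b 2 1)<|a (b 3 1)<|a (b 9 0)<|a (b 4 0)<|c)<|a (a (b 3 0)<|a (b 6 0)<|a (b 7 0)<|a (b 0 0)<|a (b 1 0)<|a (b 3 1)<|a (b 5 1)<|a (b 9 1)<|c)<|c))<|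
 a (b 15<|b (d 24) (a (a (b 3 0)<|a (b 5 0)<|a (b 0 0)<|a (b 1 0)<|a (b 3 1)<|a (b 8 0)<|a (b 9 0)<|a (b 10 0)<|c)<|a (a (b 2 0)<|a (b 5 0)<|a (b 6 0)<|a (b 2 1)<|a (b 0 0)<|a (b 1 0)<|a (b 3 1)<|a (b 10 1)<|c)<|c))<|
 a (b 20<|b (d 24) (a (a (b 5 0)<|a (b 7 0)<|a (b 2 1)<|a (b 1 0)<|a (b 3 1)<|a (b 5 1)<|a (b 8 0)<|a (b 11 0)<|c)<|a (a (b 6 0)<|a (b 2 1)<|a (b 0 0)<|a (b 3 1)<|a (b 5 1)<|a (b 8 0)<|a (b 9 0)<|a (b 11 1)<|c)<|c))<|c))<|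
 a (e 12 (a (b 2 0)<|a (b 3 0)<|a (b 6 0)<|a (b 7 0)<|a (b 5 0)<|a (b 2 1)<|a (b 0 0)<|a (b 1 0)<|a (b 3 1)<|a (b 6 1)<|a (b 8 0)<|a (b 4 0)<|a (b 8 1)<|a (b 9 0)<|a (b 5 1)<|a (b 10 0)<|a (b 1 1)<|a (b 0 1)<|a (b 10 1)<|a (b 4 1)<|a (b 11 0)<|a (b 11 1)<|a (b 7 1)<|a (b 9 1)<|c)
 (a (b 6<|b (a 6<|c) c)<|
 a (b 7<|b (a 7<|c) c)<|
 a (b 0<|b (a 0<|c) c)<|
 a (b 1<|b (a 12<|c) c)<|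
 a (b 11<|b (d 24) (a (a (b 2 0)<|a (b 3 0)<|a (b 2 1)<|a (b 0 0)<|a (b 3 1)<|a (b 4 0)<|a (b 0 1)<|a (b 4 1)<|c)<|c))<|
 a (b 4<|b (d 24) (a (a (b 5 0)<|a (b 2 1)<|a (b 0 0)<|a (b 1 0)<|a (b 3 1)<|a (b 4 0)<|a (b 5 1)<|a (b 1 1)<|c)<|c))<|
 a (b 2<|b (d 24) c)<|
 a (b 3<|b (d 24) (a (a (b 2 0)<|a (b 7 0)<|a (b 5 0)<|a (b 2 1)<|a (b 1 0)<|a (b 6 1)<|a (b 4 0)<|a (b 0 1)<|c)<|a (a (b 2 0)<|a (b 3 0)<|a (b 6 0)<|a (b 7 0)<|a (b 0 0)<|a (b 6 1)<|a (b 4 0)<|a (b 7 1)<|c)<|c))<|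
 a (b 10<|b (d 24) (a (a (b 2 0)<|a (b 3 0)<|a (b 6 0)<|a (b 7 0)<|a (b 5 0)<|a (b 1 0)<|a (b 8 0)<|a (b 8 1)<|c)<|a (a (b 2 0)<|a (b 3 0)<|a (b 2 1)<|a (b 0 0)<|a (b 1 0)<|a (b 6 1)<|a (b 8 0)<|a (b 5 1)<|c)<|c))<|
 a (b 13<|b (d 24) (a (a (b 3 0)<|a (b 6 0)<|a (b 7 0)<|a (b 5 0)<|a (b 2 1)<|a (b 3 1)<|a (b 4 0)<|a (b 9 0)<|c)<|a (a (b 2 0)<|a (b 6 0)<|a (b 5 0)<|a (b 2 1)<|a (b 0 0)<|a (b 8 0)<|a (b 4 0)<|a (b 9 1)<|c)<|c))<|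
 a (b 15<|b (d 24) (a (a (b 3 0)<|a (b 6 0)<|a (b 0 0)<|a (b 1 0)<|a (b 3 1)<|a (b 8 0)<|a (b 4 0)<|a (b 10 0)<|c)<|a (a (b 2 0)<|a (b 6 0)<|a (b 7 0)<|a (b 2 1)<|a (b 0 0)<|a (b 1 0)<|a (b 3 1)<|a (b 10 1)<|c)<|c))<|
 a (b 20<|b (d 24) (a (a (b 6 0)<|a (b 5 0)<|a (b 2 1)<|a (b 1 0)<|a (b 3 1)<|a (b 6 1)<|a (b 8 0)<|a (b 11 0)<|c)<|a (a (b 7 0)<|a (b 2 1)<|a (b 0 0)<|a (b 3 1)<|a (b 6 1)<|a (b 8 0)<|a (b 4 0)<|a (b 11 1)<|c)<|c))<|c))<|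
 a (e 13 (a (b 2 0)<|a (b 3 0)<|a (b 5 0)<|a (b 6 0)<|a (b 7 0)<|a (b 2 1)<|a (b 0 0)<|a (b 1 0)<|a (b 3 1)<|a (b 5 1)<|a (b 8 0)<|a (b 4 0)<|a (b 8 1)<|a (b 9 0)<|a (b 7 1)<|a (b 10 0)<|a (b 1 1)<|a (b 0 1)<|a (b 10 1)<|a (b 4 1)<|a (b 11 0)<|a (b 11 1)<|a (b 6 1)<|a (b 9 1)<|c)
 (a (b 6<|b (a 6<|c) c)<|
 a (b 7<|b (a 7<|c) c)<|
 a (b 0<|b (a 0<|c) c)<|
 a (b 1<|b (a 13<|c) c)<|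
 a (b 11<|b (d 24) (a (a (b 2 0)<|a (b 3 0)<|a (b 2 1)<|a (b 0 0)<|a (b 3 1)<|a (b 4 0)<|a (b 0 1)<|a (b 4 1)<|c)<|c))<|
 a (b 2<|b (d 24) c)<|
 a (b 3<|b (d 24) (a (a (b 2 0)<|a (b 3 0)<|a (b 5 0)<|a (b 6 0)<|a (b 0 0)<|a (b 5 1)<|a (b 4 0)<|a (b 6 1)<|c)<|c))<|
 a (b 4<|b (d 24) (a (a (b 7 0)<|a (b 2 1)<|a (b 0 0)<|a (b 1 0)<|a (b 3 1)<|a (b 4 0)<|a (b 7 1)<|a (b 1 1)<|c)<|a (a (b 2 0)<|a (b 6 0)<|a (b 7 0)<|a (b 2 1)<|a (b 1 0)<|a (b 5 1)<|a (b 4 0)<|a (b 0 1)<|c)<|c))<|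
 a (b 10<|b (d 24) (a (a (b 2 0)<|a (b 3 0)<|a (b 5 0)<|a (b 6 0)<|a (b 7 0)<|a (b 1 0)<|a (b 8 0)<|a (b 8 1)<|c)<|a (a (b 2 0)<|a (b 3 0)<|a (b 2 1)<|a (b 0 0)<|a (b 1 0)<|a (b 5 1)<|a (b 8 0)<|a (b 7 1)<|c)<|c))<|
 a (b 13<|b (d 24) (a (a (b 3 0)<|a (b 5 0)<|a (b 6 0)<|a (b 7 0)<|a (b 2 1)<|a (b 3 1)<|a (b 4 0)<|a (b 9 0)<|c)<|a (a (b 2 0)<|a (b 5 0)<|a (b 7 0)<|a (b 2 1)<|a (b 0 0)<|a (b 8 0)<|a (b 4 0)<|a (b 9 1)<|c)<|c))<|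
 a (b 15<|b (d 24) (a (a (b 3 0)<|a (b 5 0)<|a (b 0 0)<|a (b 1 0)<|a (b 3 1)<|a (b 8 0)<|a (b 4 0)<|a (b 10 0)<|c)<|a (a (b 2 0)<|a (b 5 0)<|a (b 6 0)<|a (b 2 1)<|a (b 0 0)<|a (b 1 0)<|a (b 3 1)<|a (b 10 1)<|c)<|c))<|
 a (b 20<|b (d 24) (a (a (b 5 0)<|a (b 7 0)<|a (b 2 1)<|a (b 1 0)<|a (b 3 1)<|a (b 5 1)<|a (b 8 0)<|a (b 11 0)<|c)<|a (a (b 6 0)<|a (b 2 1)<|a (b 0 0)<|a (b 3 1)<|a (b 5 1)<|a (b 8 0)<|a (b 4 0)<|a (b 11 1)<|c)<|c))<|c))<|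
 a (e 14 (a (b 2 0)<|a (b 3 0)<|a (b 5 0)<|a (b 6 0)<|a (b 7 0)<|a (b 2 1)<|a (b 0 0)<|a (b 1 0)<|a (b 3 1)<|a (b 5 1)<|a (b 8 0)<|a (b 9 0)<|a (b 8 1)<|a (b 4 0)<|a (b 7 1)<|a (b 10 0)<|a (b 1 1)<|a (b 0 1)<|a (b 10 1)<|a (b 9 1)<|a (b 11 0)<|a (b 11 1)<|a (b 6 1)<|a (b 4 1)<|c)
 (a (b 6<|b (a 6<|c) c)<|
 a (b 7<|b (a 7<|c) c)<|
 a (b 0<|b (a 0<|c) c)<|
 a (b 1<|b (a 14<|c) c)<|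
 a (b 13<|b (d 24) (a (a (b 2 0)<|a (b 2 1)<|a (b 0 0)<|a (b 1 0)<|a (b 4 0)<|a (b 1 1)<|a (b 0 1)<|a (b 4 1)<|c)<|c))<|
 a (b 2<|b (d 24) (a (a (b 2 0)<|a (b 3 0)<|a (b 5 0)<|a (b 1 0)<|a (b 3 1)<|a (b 5 1)<|a (b 4 0)<|a (b 0 1)<|c)<|c))<|
 a (b 3<|b (d 24) c)<|
 a (b 4<|b (d 24) (a (a (b 3 0)<|a (b 5 0)<|a (b 6 0)<|a (b 0 0)<|a (b 1 0)<|a (b 4 0)<|a (b 7 1)<|a (b 1 1)<|c)<|a (a (b 2 0)<|a (b 7 0)<|a (b 2 1)<|a (b 0 0)<|a (b 3 1)<|a (b 5 1)<|a (b 4 0)<|a (b 6 1)<|c)<|c))<|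
 a (b 10<|b (d 24) (a (a (b 2 0)<|a (b 3 0)<|a (b 5 0)<|a (b 6 0)<|a (b 7 0)<|a (b 1 0)<|a (b 8 0)<|a (b 8 1)<|c)<|a (a (b 2 0)<|a (b 3 0)<|a (b 2 1)<|a (b 0 0)<|a (b 1 0)<|a (b 5 1)<|a (b 8 0)<|a (b 7 1)<|c)<|c))<|
 a (b 11<|b (d 24) (a (a (b 3 0)<|a (b 5 0)<|a (b 6 0)<|a (b 7 0)<|a (b 2 1)<|a (b 3 1)<|a (b 9 0)<|a (b 4 0)<|c)<|a (a (b 3 0)<|a (b 6 0)<|a (b 7 0)<|a (b 0 0)<|a (b 1 0)<|a (b 3 1)<|a (b 5 1)<|a (b 9 1)<|c)<|c))<|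
 a (b 15<|b (d 24) (a (a (b 3 0)<|a (b 5 0)<|a (b 0 0)<|a (b 1 0)<|a (b 3 1)<|a (b 8 0)<|a (b 9 0)<|a (b 10 0)<|c)<|a (a (b 2 0)<|a (b 5 0)<|a (b 6 0)<|a (b 2 1)<|a (b 0 0)<|a (b 1 0)<|a (b 3 1)<|a (b 10 1)<|c)<|c))<|
 a (b 20<|b (d 24) (a (a (b 5 0)<|a (b 7 0)<|a (b 2 1)<|a (b 1 0)<|a (b 3 1)<|a (b 5 1)<|a (b 8 0)<|a (b 11 0)<|c)<|a (a (b 6 0)<|a (b 2 1)<|a (b 0 0)<|a (b 3 1)<|a (b 5 1)<|a (b 8 0)<|a (b 9 0)<|a (b 11 1)<|c)<|c))<|c))<|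
 a (e 15 (a (b 2 0)<|a (b 3 0)<|a (b 6 0)<|a (b 7 0)<|a (b 5 0)<|a (b 2 1)<|a (b 0 0)<|a (b 1 0)<|a (b 3 1)<|a (b 6 1)<|a (b 8 0)<|a (b 4 0)<|a (b 8 1)<|a (b 9 0)<|a (b 5 1)<|a (b 10 0)<|a (b 1 1)<|a (b 0 1)<|a (b 10 1)<|a (b 4 1)<|a (b 11 0)<|a (b 11 1)<|a (b 7 1)<|a (b 9 1)<|c)
 (a (b 6<|b (a 6<|c) c)<|
 a (b 7<|b (a 7<|c) c)<|
 a (b 0<|b (a 0<|c) c)<|
 a (b 1<|b (a 15<|c) c)<|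
 a (b 11<|b (d 24) (a (a (b 2 0)<|a (b 3 0)<|a (b 2 1)<|a (b 0 0)<|a (b 3 1)<|a (b 4 0)<|a (b 0 1)<|a (b 4 1)<|c)<|c))<|
 a (b 4<|b (d 24) (a (a (b 5 0)<|a (b 2 1)<|a (b 0 0)<|a (b 1 0)<|a (b 3 1)<|a (b 4 0)<|a (b 5 1)<|a (b 1 1)<|c)<|c))<|
 a (b 2<|b (d 24) c)<|
 a (b 3<|b (d 24) (a (a (b 2 0)<|a (b 7 0)<|a (b 5 0)<|a (b 2 1)<|a (b 1 0)<|a (b 6 1)<|a (b 4 0)<|a (b 0 1)<|c)<|a (a (b 2 0)<|a (b 3 0)<|a (b 6 0)<|a (b 7 0)<|a (b 0 0)<|a (b 6 1)<|a (b 4 0)<|a (b 7 1)<|c)<|c))<|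
 a (b 10<|b (d 24) (a (a (b 2 0)<|a (b 3 0)<|a (b 6 0)<|a (b 7 0)<|a (b 5 0)<|a (b 1 0)<|a (b 8 0)<|a (b 8 1)<|c)<|a (a (b 2 0)<|a (b 3 0)<|a (b 2 1)<|a (b 0 0)<|a (b 1 0)<|a (b 6 1)<|a (b 8 0)<|a (b 5 1)<|c)<|c))<|
 a (b 13<|b (d 24) (a (a (b 3 0)<|a (b 6 0)<|a (b 7 0)<|a (b 5 0)<|a (b 2 1)<|a (b 3 1)<|a (b 4 0)<|a (b 9 0)<|c)<|a (a (b 2 0)<|a (b 6 0)<|a (b 5 0)<|a (b 2 1)<|a (b 0 0)<|a (b 8 0)<|a (b 4 0)<|a (b 9 1)<|c)<|c))<|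
 a (b 15<|b (d 24) (a (a (b 3 0)<|a (b 6 0)<|a (b 0 0)<|a (b 1 0)<|a (b 3 1)<|a (b 8 0)<|a (b 4 0)<|a (b 10 0)<|c)<|a (a (b 2 0)<|a (b 6 0)<|a (b 7 0)<|a (b 2 1)<|a (b 0 0)<|a (b 1 0)<|a (b 3 1)<|a (b 10 1)<|c)<|c))<|
 a (b 20<|b (d 24) (a (a (b 6 0)<|a (b 5 0)<|a (b 2 1)<|a (b 1 0)<|a (b 3 1)<|a (b 6 1)<|a (b 8 0)<|a (b 11 0)<|c)<|a (a (b 7 0)<|a (b 2 1)<|a (b 0 0)<|a (b 3 1)<|a (b 6 1)<|a (b 8 0)<|a (b 4 0)<|a (b 11 1)<|c)<|c))<|c))<|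
 a (e 18 (a (b 2 0)<|a (b 3 0)<|a (b 5 0)<|a (b 6 0)<|a (b 7 0)<|a (b 2 1)<|a (b 0 0)<|a (b 1 0)<|a (b 3 1)<|a (b 5 1)<|a (b 8 0)<|a (b 9 0)<|a (b 8 1)<|a (b 4 0)<|a (b 7 1)<|a (b 10 0)<|a (b 1 1)<|a (b 0 1)<|a (b 10 1)<|a (b 9 1)<|a (b 11 0)<|a (b 11 1)<|a (b 6 1)<|a (b 4 1)<|c)
 (a (b 6<|b (a 6<|c) c)<|
 a (b 7<|b (a 7<|c) c)<|
 a (b 0<|b (a 0<|c) c)<|
 a (b 1<|b (a 18<|c) c)<|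
 a (b 13<|b (d 24) (a (a (b 2 0)<|a (b 2 1)<|a (b 0 0)<|a (b 1 0)<|a (b 4 0)<|a (b 1 1)<|a (b 0 1)<|a (b 4 1)<|c)<|c))<|
 a (b 2<|b (d 24) (a (a (b 2 0)<|a (b 3 0)<|a (b 5 0)<|a (b 1 0)<|a (b 3 1)<|a (b 5 1)<|a (b 4 0)<|a (b 0 1)<|c)<|c))<|
 a (b 3<|b (d 24) c)<|
 a (b 4<|b (d 24) (a (a (b 3 0)<|a (b 5 0)<|a (b 6 0)<|a (b 0 0)<|a (b 1 0)<|a (b 4 0)<|a (b 7 1)<|a (b 1 1)<|c)<|a (a (b 2 0)<|a (b 7 0)<|a (b 2 1)<|a (b 0 0)<|a (b 3 1)<|a (b 5 1)<|a (b 4 0)<|a (b 6 1)<|c)<|c))<|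
 a (b 10<|b (d 24) (a (a (b 2 0)<|a (b 3 0)<|a (b 5 0)<|a (b 6 0)<|a (b 7 0)<|a (b 1 0)<|a (b 8 0)<|a (b 8 1)<|c)<|a (a (b 2 0)<|a (b 3 0)<|a (b 2 1)<|a (b 0 0)<|a (b 1 0)<|a (b 5 1)<|a (b 8 0)<|a (b 7 1)<|c)<|c))<|
 a (b 11<|b (d 24) (a (a (b 3 0)<|a (b 5 0)<|a (b 6 0)<|a (b 7 0)<|a (b 2 1)<|a (b 3 1)<|a (b 9 0)<|a (b 4 0)<|c)<|a (a (b 3 0)<|a (b 6 0)<|a (b 7 0)<|a (b 0 0)<|a (b 1 0)<|a (b 3 1)<|a (b 5 1)<|a (b 9 1)<|c)<|c))<|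
 a (b 15<|b (d 24) (a (a (b 3 0)<|a (b 5 0)<|a (b 0 0)<|a (b 1 0)<|a (b 3 1)<|a (b 8 0)<|a (b 9 0)<|a (b 10 0)<|c)<|a (a (b 2 0)<|a (b 5 0)<|a (b 6 0)<|a (b 2 1)<|a (b 0 0)<|a (b 1 0)<|a (b 3 1)<|a (b 10 1)<|c)<|c))<|
 a (b 20<|b (d 24) (a (a (b 5 0)<|a (b 7 0)<|a (b 2 1)<|a (b 1 0)<|a (b 3 1)<|a (b 5 1)<|a (b 8 0)<|a (b 11 0)<|c)<|a (a (b 6 0)<|a (b 2 1)<|a (b 0 0)<|a (b 3 1)<|a (b 5 1)<|a (b 8 0)<|a (b 9 0)<|a (b 11 1)<|c)<|c))<|c))<|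
 a (e 22 (a (b 2 0)<|a (b 3 0)<|a (b 5 0)<|a (b 6 0)<|a (b 7 0)<|a (b 2 1)<|a (b 0 0)<|a (b 1 0)<|a (b 3 1)<|a (b 5 1)<|a (b 8 0)<|a (b 9 0)<|a (b 8 1)<|a (b 4 0)<|a (b 7 1)<|a (b 10 0)<|a (b 1 1)<|a (b 0 1)<|a (b 10 1)<|a (b 9 1)<|a (b 11 0)<|a (b 11 1)<|a (b 6 1)<|a (b 4 1)<|c)
 (a (b 6<|b (a 6<|c) c)<|
 a (b 7<|b (a 7<|c) c)<|
 a (b 0<|b (a 0<|c) c)<|
 a (b 1<|b (a 22<|c) c)<|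
 a (b 13<|b (d 24) (a (a (b 2 0)<|a (b 2 1)<|a (b 0 0)<|a (b 1 0)<|a (b 4 0)<|a (b 1 1)<|a (b 0 1)<|a (b 4 1)<|c)<|c))<|
 a (b 2<|b (d 24) (a (a (b 2 0)<|a (b 3 0)<|a (b 5 0)<|a (b 1 0)<|a (b 3 1)<|a (b 5 1)<|a (b 4 0)<|a (b 0 1)<|c)<|c))<|
 a (b 3<|b (d 24) c)<|
 a (b 4<|b (d 24) (a (a (b 3 0)<|a (b 5 0)<|a (b 6 0)<|a (b 0 0)<|a (b 1 0)<|a (b 4 0)<|a (b 7 1)<|a (b 1 1)<|c)<|a (a (b 2 0)<|a (b 7 0)<|a (b 2 1)<|a (b 0 0)<|a (b 3 1)<|a (b 5 1)<|a (b 4 0)<|a (b 6 1)<|c)<|c))<|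
 a (b 10<|b (d 24) (a (a (b 2 0)<|a (b 3 0)<|a (b 5 0)<|a (b 6 0)<|a (b 7 0)<|a (b 1 0)<|a (b 8 0)<|a (b 8 1)<|c)<|a (a (b 2 0)<|a (b 3 0)<|a (b 2 1)<|a (b 0 0)<|a (b 1 0)<|a (b 5 1)<|a (b 8 0)<|a (b 7 1)<|c)<|c))<|
 a (b 11<|b (d 24) (a (a (b 3 0)<|a (b 5 0)<|a (b 6 0)<|a (b 7 0)<|a (b 2 1)<|a (b 3 1)<|a (b 9 0)<|a (b 4 0)<|c)<|a (a (b 3 0)<|a (b 6 0)<|a (b 7 0)<|a (b 0 0)<|a (b 1 0)<|a (b 3 1)<|a (b 5 1)<|a (b 9 1)<|c)<|c))<|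
 a (b 15<|b (d 24) (a (a (b 3 0)<|a (b 5 0)<|a (b 0 0)<|a (b 1 0)<|a (b 3 1)<|a (b 8 0)<|a (b 9 0)<|a (b 10 0)<|c)<|a (a (b 2 0)<|a (b 5 0)<|a (b 6 0)<|a (b 2 1)<|a (b 0 0)<|a (b 1 0)<|a (b 3 1)<|a (b 10 1)<|c)<|c))<|
 a (b 20<|b (d 24) (a (a (b 5 0)<|a (b 7 0)<|a (b 2 1)<|a (b 1 0)<|a (b 3 1)<|a (b 5 1)<|a (b 8 0)<|a (b 11 0)<|c)<|a (a (b 6 0)<|a (b 2 1)<|a (b 0 0)<|a (b 3 1)<|a (b 5 1)<|a (b 8 0)<|a (b 9 0)<|a (b 11 1)<|c)<|c))<|c))<|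
 a (e 23 (a (b 2 0)<|a (b 3 0)<|a (b 5 0)<|a (b 6 0)<|a (b 7 0)<|a (b 2 1)<|a (b 0 0)<|a (b 1 0)<|a (b 3 1)<|a (b 5 1)<|a (b 8 0)<|a (b 4 0)<|a (b 8 1)<|a (b 9 0)<|a (b 7 1)<|a (b 10 0)<|a (b 1 1)<|a (b 0 1)<|a (b 10 1)<|a (b 4 1)<|a (b 11 0)<|a (b 11 1)<|a (b 6 1)<|a (b 9 1)<|c)
 (a (b 6<|b (a 6<|c) c)<|
 a (b 7<|b (a 7<|c) c)<|
 a (b 0<|b (a 0<|c) c)<|
 a (b 1<|b (a 23<|c) c)<|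
 a (b 11<|b (d 24) (a (a (b 2 0)<|a (b 3 0)<|a (b 2 1)<|a (b 0 0)<|a (b 3 1)<|a (b 4 0)<|a (b 0 1)<|a (b 4 1)<|c)<|c))<|
 a (b 2<|b (d 24) c)<|
 a (b 3<|b (d 24) (a (a (b 2 0)<|a (b 3 0)<|a (b 5 0)<|a (b 6 0)<|a (b 0 0)<|a (b 5 1)<|a (b 4 0)<|a (b 6 1)<|c)<|c))<|
 a (b 4<|b (d 24) (a (a (b 7 0)<|a (b 2 1)<|a (b 0 0)<|a (b 1 0)<|a (b 3 1)<|a (b 4 0)<|a (b 7 1)<|a (b 1 1)<|c)<|a (a (b 2 0)<|a (b 6 0)<|a (b 7 0)<|a (b 2 1)<|a (b 1 0)<|a (b 5 1)<|a (b 4 0)<|a (b 0 1)<|c)<|c))<|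
 a (b 10<|b (d 24) (a (a (b 2 0)<|a (b 3 0)<|a (b 5 0)<|a (b 6 0)<|a (b 7 0)<|a (b 1 0)<|a (b 8 0)<|a (b 8 1)<|c)<|a (a (b 2 0)<|a (b 3 0)<|a (b 2 1)<|a (b 0 0)<|a (b 1 0)<|a (b 5 1)<|a (b 8 0)<|a (b 7 1)<|c)<|c))<|
 a (b 13<|b (d 24) (a (a (b 3 0)<|a (b 5 0)<|a (b 6 0)<|a (b 7 0)<|a (b 2 1)<|a (b 3 1)<|a (b 4 0)<|a (b 9 0)<|c)<|a (a (b 2 0)<|a (b 5 0)<|a (b 7 0)<|a (b 2 1)<|a (b 0 0)<|a (b 8 0)<|a (b 4 0)<|a (b 9 1)<|c)<|c))<|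
 a (b 15<|b (d 24) (a (a (b 3 0)<|a (b 5 0)<|a (b 0 0)<|a (b 1 0)<|a (b 3 1)<|a (b 8 0)<|a (b 4 0)<|a (b 10 0)<|c)<|a (a (b 2 0)<|a (b 5 0)<|a (b 6 0)<|a (b 2 1)<|a (b 0 0)<|a (b 1 0)<|a (b 3 1)<|a (b 10 1)<|c)<|c))<|
 a (b 20<|b (d 24) (a (a (b 5 0)<|a (b 7 0)<|a (b 2 1)<|a (b 1 0)<|a (b 3 1)<|a (b 5 1)<|a (b 8 0)<|a (b 11 0)<|c)<|a (a (b 6 0)<|a (b 2 1)<|a (b 0 0)<|a (b 3 1)<|a (b 5 1)<|a (b 8 0)<|a (b 4 0)<|a (b 11 1)<|c)<|c))<|c))<|c))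

def r1 : Rec where
  p := 2
  c := 544731467543530313478419418836575493
  a := 554521857895563773173645459245306258
  b := 729895948495487990452396838237195725
  t := [544731467543530313478419418836575493, 984818244535754528103549039458486304, 984818244535754528103549039458486304, 984818244535754528103549039458486304]
  wd := (beta% delta% lq265cdff330 fun a b c _ _ =>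
 (a (b 3 0)<|a (b 0 0)<|a (b 7 0)<|a (b 10 0)<|a (b 11 0)<|a (b 3 1)<|a (b 1 0)<|a (b 2 0)<|a (b 0 1)<|a (b 7 1)<|a (b 8 0)<|a (b 6 0)<|a (b 8 1)<|a (b 4 0)<|a (b 11 1)<|a (b 9 0)<|a (b 2 1)<|a (b 1 1)<|a (b 9 1)<|a (b 6 1)<|a (b 5 0)<|a (b 5 1)<|a (b 10 1)<|a (b 4 1)<|c))
  sts := (beta% delta% lq265cdff330 fun a b c d _ =>
 (a (b 1<|b (a 1<|c) c)<|
 a (b 6<|b (a 6<|c) c)<|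
 a (b 7<|b (a 7<|c) c)<|
 a (b 0<|b (a 0<|c) c)<|
 a (b 13<|b (d 24) (a (a (b 3 0)<|a (b 3 1)<|a (b 1 0)<|a (b 2 0)<|a (b 4 0)<|a (b 2 1)<|a (b 1 1)<|a (b 4 1)<|c)<|c))<|
 a (b 20<|b (d 24) (a (a (b 0 0)<|a (b 3 1)<|a (b 1 0)<|a (b 2 0)<|a (b 0 1)<|a (b 4 0)<|a (b 5 0)<|a (b 5 1)<|c)<|c))<|
 a (b 11<|b (d 24) (a (a (b 3 0)<|a (b 0 0)<|a (b 3 1)<|a (b 1 0)<|a (b 0 1)<|a (b 6 0)<|a (b 1 1)<|a (b 6 1)<|c)<|c))<|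
 a (b 2<|b (d 24) (a (a (b 3 0)<|a (b 0 0)<|a (b 7 0)<|a (b 2 0)<|a (b 0 1)<|a (b 7 1)<|a (b 4 0)<|a (b 1 1)<|c)<|a (a (b 3 0)<|a (b 0 0)<|a (b 7 0)<|a (b 3 1)<|a (b 2 0)<|a (b 6 0)<|a (b 2 1)<|a (b 5 0)<|c)<|c))<|
 a (b 10<|b (d 24) (a (a (b 3 0)<|a (b 3 1)<|a (b 2 0)<|a (b 0 1)<|a (b 8 0)<|a (b 6 0)<|a (b 8 1)<|a (b 4 0)<|c)<|c))<|
 a (b 15<|b (d 24) (a (a (b 0 0)<|a (b 7 0)<|a (b 1 0)<|a (b 2 0)<|a (b 0 1)<|a (b 8 0)<|a (b 6 0)<|a (b 9 0)<|c)<|a (a (b 3 0)<|a (b 3 1)<|a (b 1 0)<|a (b 7 1)<|a (b 6 0)<|a (b 8 1)<|a (b 2 1)<|a (b 9 1)<|c)<|c))<|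
 a (b 3<|b (d 24) (a (a (b 7 0)<|a (b 10 0)<|a (b 2 0)<|a (b 0 1)<|a (b 7 1)<|a (b 6 0)<|a (b 8 1)<|a (b 2 1)<|c)<|a (a (b 3 0)<|a (b 0 0)<|a (b 7 0)<|a (b 10 0)<|a (b 1 0)<|a (b 7 1)<|a (b 6 0)<|a (b 10 1)<|c)<|c))<|
 a (b 4<|b (d 24) (a (a (b 3 0)<|a (b 0 0)<|a (b 7 0)<|a (b 10 0)<|a (b 11 0)<|a (b 2 0)<|a (b 8 0)<|a (b 8 1)<|c)<|a (a (b 3 0)<|a (b 0 0)<|a (b 3 1)<|a (b 1 0)<|a (b 2 0)<|a (b 7 1)<|a (b 8 0)<|a (b 11 1)<|c)<|c))<|c))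
  fib := [f1_0, f1_1, f1_2, f1_3]
  n := 7680

def f2_0 : Fib where
  b := 1
  e := []

def f2_1 : Fib where
  b := 4
  e := []

def r2 : Rec where
  p := 3
  c := 693793083484272819170454468079749312
  a := 28814073378818928619382926673594891
  b := 275851585736649127260752591860358222
  t := [818417711753696974483914894103088416, 195575887210732589298578593227541696, 984818244535754528103549039458486304, 984818244535754528103549039458486304]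
  wd := (beta% delta% lq265cdff330 fun a b c _ _ =>
 (a (b 4 0)<|a (b 1 0)<|a (b 10 0)<|a (b 3 0)<|a (b 0 0)<|a (b 8 0)<|a (b 1 1)<|a (b 0 2)<|a (b 2 0)<|a (b 1 2)<|a (b 6 0)<|a (b 9 0)<|a (b 7 0)<|a (b 7 1)<|a (b 7 2)<|a (b 5 0)<|a (b 8 2)<|a (b 6 1)<|a (b 5 1)<|a (b 0 1)<|a (b 6 2)<|a (b 5 2)<|a (b 11 0)<|a (b 8 1)<|c))
  sts := (beta% delta% lq265cdff330 fun a b c d _ =>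
 (a (b 4<|b (a 4<|c) c)<|
 a (b 1<|b (a 1<|c) c)<|
 a (b 8<|b (d 24) c)<|
 a (b 3<|b (d 24) (a (a (b 1 0)<|a (b 3 0)<|a (b 0 0)<|a (b 1 1)<|a (b 0 2)<|a (b 2 0)<|a (b 1 2)<|a (b 0 1)<|c)<|c))<|
 a (b 0<|b (d 24) c)<|
 a (b 15<|b (d 24) (a (a (b 4 0)<|a (b 1 0)<|a (b 1 1)<|a (b 2 0)<|a (b 1 2)<|a (b 5 0)<|a (b 5 1)<|a (b 5 2)<|c)<|c))<|
 a (b 10<|b (d 24) (a (a (b 1 0)<|a (b 0 0)<|a (b 0 2)<|a (b 1 2)<|a (b 6 0)<|a (b 5 0)<|a (b 6 1)<|a (b 5 1)<|c)<|a (a (b 4 0)<|a (b 1 0)<|a (b 3 0)<|a (b 1 1)<|a (b 0 2)<|a (b 5 0)<|a (b 6 1)<|a (b 6 2)<|c)<|c))<|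
 a (b 12<|b (d 24) (a (a (b 4 0)<|a (b 1 0)<|a (b 3 0)<|a (b 0 0)<|a (b 1 2)<|a (b 7 1)<|a (b 7 2)<|a (b 5 0)<|c)<|a (a (b 3 0)<|a (b 0 0)<|a (b 2 0)<|a (b 1 2)<|a (b 6 0)<|a (b 7 0)<|a (b 7 1)<|a (b 6 1)<|c)<|c))<|
 a (b 5<|b (d 24) (a (a (b 4 0)<|a (b 1 0)<|a (b 8 0)<|a (b 1 1)<|a (b 0 2)<|a (b 1 2)<|a (b 6 0)<|a (b 7 2)<|c)<|a (a (b 1 0)<|a (b 0 0)<|a (b 8 0)<|a (b 0 2)<|a (b 1 2)<|a (b 7 0)<|a (b 7 1)<|a (b 8 2)<|c)<|a (a (b 4 0)<|a (b 1 0)<|a (b 3 0)<|a (b 1 1)<|a (b 2 0)<|a (b 6 0)<|a (b 7 1)<|a (b 8 1)<|c)<|c))<|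
 a (b 11<|b (d 24) (a (a (b 4 0)<|a (b 8 0)<|a (b 0 2)<|a (b 2 0)<|a (b 6 0)<|a (b 9 0)<|a (b 7 0)<|a (b 7 1)<|c)<|c))<|
 a (b 2<|b (d 24) (a (a (b 4 0)<|a (b 1 0)<|a (b 10 0)<|a (b 3 0)<|a (b 0 0)<|a (b 0 2)<|a (b 6 0)<|a (b 7 0)<|c)<|c))<|
 a (b 22<|b (d 24) (a (a (b 4 0)<|a (b 1 0)<|a (b 10 0)<|a (b 3 0)<|a (b 1 1)<|a (b 1 2)<|a (b 9 0)<|a (b 11 0)<|c)<|c))<|c))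
  fib := [f2_0, f2_1]
  n := 1080

def f3_0 : Fib where
  b := 0
  e := []

def f3_1 : Fib where
  b := 1
  e := (beta% delta% lq265cdff330 fun a b c d e =>
 (a (e 3 (a (b 0 0)<|a (b 1 0)<|a (b 2 0)<|a (b 4 0)<|a (b 1 2)<|a (b 0 1)<|a (b 0 2)<|a (b 3 0)<|a (b 4 1)<|a (b 5 0)<|a (b 6 0)<|a (b 7 0)<|a (b 4 2)<|a (b 5 1)<|a (b 6 2)<|a (b 5 2)<|a (b 7 2)<|a (b 3 2)<|a (b 6 1)<|a (b 1 1)<|a (b 7 1)<|a (b 3 1)<|a (b 2 2)<|a (b 2 1)<|c)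
 (a (b 0<|b (a 0<|c) c)<|
 a (b 1<|b (a 3<|c) c)<|
 a (b 2<|b (d 24) c)<|
 a (b 7<|b (d 24) (a (a (b 1 0)<|a (b 2 0)<|a (b 1 2)<|a (b 0 1)<|a (b 0 2)<|a (b 3 0)<|a (b 3 2)<|a (b 2 2)<|c)<|a (a (b 0 0)<|a (b 1 0)<|a (b 2 0)<|a (b 0 2)<|a (b 3 0)<|a (b 1 1)<|a (b 3 1)<|a (b 2 1)<|c)<|c))<|
 a (b 3<|b (d 24) (a (a (b 1 0)<|a (b 2 0)<|a (b 4 0)<|a (b 0 2)<|a (b 4 1)<|a (b 4 2)<|a (b 3 2)<|a (b 3 1)<|c)<|c))<|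
 a (b 9<|b (d 24) (a (a (b 0 0)<|a (b 1 0)<|a (b 2 0)<|a (b 0 1)<|a (b 0 2)<|a (b 4 2)<|a (b 5 1)<|a (b 5 2)<|c)<|a (a (b 0 0)<|a (b 1 0)<|a (b 2 0)<|a (b 3 0)<|a (b 4 1)<|a (b 5 0)<|a (b 5 1)<|a (b 3 2)<|c)<|a (a (b 1 0)<|a (b 4 0)<|a (b 1 2)<|a (b 0 2)<|a (b 3 0)<|a (b 4 1)<|a (b 5 0)<|a (b 1 1)<|c)<|c))<|
 a (b 10<|b (d 24) (a (a (b 0 0)<|a (b 1 0)<|a (b 2 0)<|a (b 4 0)<|a (b 1 2)<|a (b 3 0)<|a (b 6 0)<|a (b 4 2)<|c)<|a (a (b 0 0)<|a (b 1 0)<|a (b 0 1)<|a (b 0 2)<|a (b 3 0)<|a (b 5 0)<|a (b 6 0)<|a (b 6 2)<|c)<|a (a (b 0 0)<|a (b 2 0)<|a (b 4 0)<|a (b 0 1)<|a (b 0 2)<|a (b 3 0)<|a (b 4 1)<|a (b 6 1)<|c)<|c))<|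
 a (b 11<|b (d 24) (a (a (b 1 0)<|a (b 2 0)<|a (b 4 0)<|a (b 1 2)<|a (b 0 1)<|a (b 4 1)<|a (b 7 0)<|a (b 5 1)<|c)<|a (a (b 0 0)<|a (b 1 0)<|a (b 1 2)<|a (b 4 1)<|a (b 5 0)<|a (b 6 0)<|a (b 7 0)<|a (b 7 2)<|c)<|a (a (b 2 0)<|a (b 1 2)<|a (b 0 1)<|a (b 3 0)<|a (b 4 1)<|a (b 5 0)<|a (b 6 0)<|a (b 7 1)<|c)<|c))<|c))<|
 a (e 4 (a (b 0 0)<|a (b 1 0)<|a (b 3 0)<|a (b 4 0)<|a (b 1 2)<|a (b 0 1)<|a (b 0 2)<|a (b 2 0)<|a (b 4 1)<|a (b 5 0)<|a (b 6 0)<|a (b 7 0)<|a (b 4 2)<|a (b 5 1)<|a (b 6 2)<|a (b 5 2)<|a (b 7 2)<|a (b 2 2)<|a (b 6 1)<|a (b 1 1)<|a (b 7 1)<|a (b 2 1)<|a (b 3 2)<|a (b 3 1)<|c)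
 (a (b 0<|b (a 0<|c) c)<|
 a (b 1<|b (a 4<|c) c)<|
 a (b 7<|b (d 24) c)<|
 a (b 2<|b (d 24) (a (a (b 1 0)<|a (b 3 0)<|a (b 1 2)<|a (b 0 1)<|a (b 0 2)<|a (b 2 0)<|a (b 2 2)<|a (b 3 2)<|c)<|a (a (b 0 0)<|a (b 1 0)<|a (b 3 0)<|a (b 0 2)<|a (b 2 0)<|a (b 1 1)<|a (b 2 1)<|a (b 3 1)<|c)<|c))<|
 a (b 3<|b (d 24) (a (a (b 1 0)<|a (b 3 0)<|a (b 4 0)<|a (b 0 2)<|a (b 4 1)<|a (b 4 2)<|a (b 2 2)<|a (b 2 1)<|c)<|c))<|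
 a (b 9<|b (d 24) (a (a (b 0 0)<|a (b 1 0)<|a (b 3 0)<|a (b 0 1)<|a (b 0 2)<|a (b 4 2)<|a (b 5 1)<|a (b 5 2)<|c)<|a (a (b 0 0)<|a (b 1 0)<|a (b 3 0)<|a (b 2 0)<|a (b 4 1)<|a (b 5 0)<|a (b 5 1)<|a (b 2 2)<|c)<|a (a (b 1 0)<|a (b 4 0)<|a (b 1 2)<|a (b 0 2)<|a (b 2 0)<|a (b 4 1)<|a (b 5 0)<|a (b 1 1)<|c)<|c))<|
 a (b 10<|b (d 24) (a (a (b 0 0)<|a (b 1 0)<|a (b 3 0)<|a (b 4 0)<|a (b 1 2)<|a (b 2 0)<|a (b 6 0)<|a (b 4 2)<|c)<|a (a (b 0 0)<|a (b 1 0)<|a (b 0 1)<|a (b 0 2)<|a (b 2 0)<|a (b 5 0)<|a (b 6 0)<|a (b 6 2)<|c)<|a (a (b 0 0)<|a (b 3 0)<|a (b 4 0)<|a (b 0 1)<|a (b 0 2)<|a (b 2 0)<|a (b 4 1)<|a (b 6 1)<|c)<|c))<|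
 a (b 11<|b (d 24) (a (a (b 1 0)<|a (b 3 0)<|a (b 4 0)<|a (b 1 2)<|a (b 0 1)<|a (b 4 1)<|a (b 7 0)<|a (b 5 1)<|c)<|a (a (b 0 0)<|a (b 1 0)<|a (b 1 2)<|a (b 4 1)<|a (b 5 0)<|a (b 6 0)<|a (b 7 0)<|a (b 7 2)<|c)<|a (a (b 3 0)<|a (b 1 2)<|a (b 0 1)<|a (b 2 0)<|a (b 4 1)<|a (b 5 0)<|a (b 6 0)<|a (b 7 1)<|c)<|c))<|c))<|
 a (e 8 (a (b 0 0)<|a (b 1 0)<|a (b 2 0)<|a (b 4 0)<|a (b 1 2)<|a (b 0 1)<|a (b 0 2)<|a (b 3 0)<|a (b 4 1)<|a (b 5 0)<|a (b 6 0)<|a (b 7 0)<|a (b 4 2)<|a (b 5 1)<|a (b 6 2)<|a (b 5 2)<|a (b 7 2)<|a (b 3 2)<|a (b 6 1)<|a (b 1 1)<|a (b 7 1)<|a (b 3 1)<|a (b 2 2)<|a (b 2 1)<|c)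
 (a (b 0<|b (a 0<|c) c)<|
 a (b 1<|b (a 8<|c) c)<|
 a (b 2<|b (d 24) c)<|
 a (b 7<|b (d 24) (a (a (b 1 0)<|a (b 2 0)<|a (b 1 2)<|a (b 0 1)<|a (b 0 2)<|a (b 3 0)<|a (b 3 2)<|a (b 2 2)<|c)<|a (a (b 0 0)<|a (b 1 0)<|a (b 2 0)<|a (b 0 2)<|a (b 3 0)<|a (b 1 1)<|a (b 3 1)<|a (b 2 1)<|c)<|c))<|
 a (b 3<|b (d 24) (a (a (b 1 0)<|a (b 2 0)<|a (b 4 0)<|a (b 0 2)<|a (b 4 1)<|a (b 4 2)<|a (b 3 2)<|a (b 3 1)<|c)<|c))<|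
 a (b 9<|b (d 24) (a (a (b 0 0)<|a (b 1 0)<|a (b 2 0)<|a (b 0 1)<|a (b 0 2)<|a (b 4 2)<|a (b 5 1)<|a (b 5 2)<|c)<|a (a (b 0 0)<|a (b 1 0)<|a (b 2 0)<|a (b 3 0)<|a (b 4 1)<|a (b 5 0)<|a (b 5 1)<|a (b 3 2)<|c)<|a (a (b 1 0)<|a (b 4 0)<|a (b 1 2)<|a (b 0 2)<|a (b 3 0)<|a (b 4 1)<|a (b 5 0)<|a (b 1 1)<|c)<|c))<|
 a (b 10<|b (d 24) (a (a (b 0 0)<|a (b 1 0)<|a (b 2 0)<|a (b 4 0)<|a (b 1 2)<|a (b 3 0)<|a (b 6 0)<|a (b 4 2)<|c)<|a (a (b 0 0)<|a (b 1 0)<|a (b 0 1)<|a (b 0 2)<|a (b 3 0)<|a (b 5 0)<|a (b 6 0)<|a (b 6 2)<|c)<|a (a (b 0 0)<|a (b 2 0)<|a (b 4 0)<|a (b 0 1)<|a (b 0 2)<|a (b 3 0)<|a (b 4 1)<|a (b 6 1)<|c)<|c))<|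
 a (b 11<|b (d 24) (a (a (b 1 0)<|a (b 2 0)<|a (b 4 0)<|a (b 1 2)<|a (b 0 1)<|a (b 4 1)<|a (b 7 0)<|a (b 5 1)<|c)<|a (a (b 0 0)<|a (b 1 0)<|a (b 1 2)<|a (b 4 1)<|a (b 5 0)<|a (b 6 0)<|a (b 7 0)<|a (b 7 2)<|c)<|a (a (b 2 0)<|a (b 1 2)<|a (b 0 1)<|a (b 3 0)<|a (b 4 1)<|a (b 5 0)<|a (b 6 0)<|a (b 7 1)<|c)<|c))<|c))<|
 a (e 10 (a (b 0 0)<|a (b 1 0)<|a (b 3 0)<|a (b 4 0)<|a (b 1 2)<|a (b 0 1)<|a (b 0 2)<|a (b 2 0)<|a (b 4 1)<|a (b 5 0)<|a (b 6 0)<|a (b 7 0)<|a (b 4 2)<|a (b 5 1)<|a (b 6 2)<|a (b 5 2)<|a (b 7 2)<|a (b 2 2)<|a (b 6 1)<|a (b 1 1)<|a (b 7 1)<|a (b 2 1)<|a (b 3 2)<|a (b 3 1)<|c)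
 (a (b 0<|b (a 0<|c) c)<|
 a (b 1<|b (a 10<|c) c)<|
 a (b 7<|b (d 24) c)<|
 a (b 2<|b (d 24) (a (a (b 1 0)<|a (b 3 0)<|a (b 1 2)<|a (b 0 1)<|a (b 0 2)<|a (b 2 0)<|a (b 2 2)<|a (b 3 2)<|c)<|a (a (b 0 0)<|a (b 1 0)<|a (b 3 0)<|a (b 0 2)<|a (b 2 0)<|a (b 1 1)<|a (b 2 1)<|a (b 3 1)<|c)<|c))<|
 a (b 3<|b (d 24) (a (a (b 1 0)<|a (b 3 0)<|a (b 4 0)<|a (b 0 2)<|a (b 4 1)<|a (b 4 2)<|a (b 2 2)<|a (b 2 1)<|c)<|c))<|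
 a (b 9<|b (d 24) (a (a (b 0 0)<|a (b 1 0)<|a (b 3 0)<|a (b 0 1)<|a (b 0 2)<|a (b 4 2)<|a (b 5 1)<|a (b 5 2)<|c)<|a (a (b 0 0)<|a (b 1 0)<|a (b 3 0)<|a (b 2 0)<|a (b 4 1)<|a (b 5 0)<|a (b 5 1)<|a (b 2 2)<|c)<|a (a (b 1 0)<|a (b 4 0)<|a (b 1 2)<|a (b 0 2)<|a (b 2 0)<|a (b 4 1)<|a (b 5 0)<|a (b 1 1)<|c)<|c))<|
 a (b 10<|b (d 24) (a (a (b 0 0)<|a (b 1 0)<|a (b 3 0)<|a (b 4 0)<|a (b 1 2)<|a (b 2 0)<|a (b 6 0)<|a (b 4 2)<|c)<|a (a (b 0 0)<|a (b 1 0)<|a (b 0 1)<|a (b 0 2)<|a (b 2 0)<|a (b 5 0)<|a (b 6 0)<|a (b 6 2)<|c)<|a (a (b 0 0)<|a (b 3 0)<|a (b 4 0)<|a (b 0 1)<|a (b 0 2)<|a (b 2 0)<|a (b 4 1)<|a (b 6 1)<|c)<|c))<|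
 a (b 11<|b (d 24) (a (a (b 1 0)<|a (b 3 0)<|a (b 4 0)<|a (b 1 2)<|a (b 0 1)<|a (b 4 1)<|a (b 7 0)<|a (b 5 1)<|c)<|a (a (b 0 0)<|a (b 1 0)<|a (b 1 2)<|a (b 4 1)<|a (b 5 0)<|a (b 6 0)<|a (b 7 0)<|a (b 7 2)<|c)<|a (a (b 3 0)<|a (b 1 2)<|a (b 0 1)<|a (b 2 0)<|a (b 4 1)<|a (b 5 0)<|a (b 6 0)<|a (b 7 1)<|c)<|c))<|c))<|
 a (e 11 (a (b 0 0)<|a (b 1 0)<|a (b 4 0)<|a (b 2 0)<|a (b 1 2)<|a (b 0 1)<|a (b 0 2)<|a (b 5 0)<|a (b 2 1)<|a (b 6 0)<|a (b 3 0)<|a (b 7 0)<|a (b 2 2)<|a (b 6 1)<|a (b 3 2)<|a (b 6 2)<|a (b 7 2)<|a (b 5 2)<|a (b 3 1)<|a (b 1 1)<|a (b 7 1)<|a (b 5 1)<|a (b 4 2)<|a (b 4 1)<|c)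
 (a (b 0<|b (a 0<|c) c)<|
 a (b 1<|b (a 11<|c) c)<|
 a (b 3<|b (d 24) c)<|
 a (b 10<|b (d 24) (a (a (b 1 0)<|a (b 1 2)<|a (b 0 1)<|a (b 0 2)<|a (b 2 1)<|a (b 3 0)<|a (b 2 2)<|a (b 3 1)<|c)<|a (a (b 0 0)<|a (b 2 0)<|a (b 1 2)<|a (b 0 1)<|a (b 2 1)<|a (b 3 0)<|a (b 3 2)<|a (b 1 1)<|c)<|c))<|
 a (b 2<|b (d 24) (a (a (b 1 0)<|a (b 4 0)<|a (b 0 2)<|a (b 3 0)<|a (b 2 2)<|a (b 3 2)<|a (b 4 2)<|a (b 4 1)<|c)<|c))<|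
 a (b 7<|b (d 24) (a (a (b 0 0)<|a (b 1 0)<|a (b 4 0)<|a (b 2 0)<|a (b 1 2)<|a (b 5 0)<|a (b 3 0)<|a (b 2 2)<|c)<|a (a (b 0 0)<|a (b 1 2)<|a (b 0 2)<|a (b 5 0)<|a (b 2 1)<|a (b 3 0)<|a (b 5 2)<|a (b 5 1)<|c)<|a (a (b 1 0)<|a (b 4 0)<|a (b 1 2)<|a (b 0 1)<|a (b 0 2)<|a (b 5 0)<|a (b 5 2)<|a (b 4 2)<|c)<|c))<|
 a (b 9<|b (d 24) (a (a (b 0 0)<|a (b 1 0)<|a (b 0 1)<|a (b 0 2)<|a (b 5 0)<|a (b 6 0)<|a (b 3 0)<|a (b 3 2)<|c)<|a (a (b 2 0)<|a (b 1 2)<|a (b 0 1)<|a (b 0 2)<|a (b 5 0)<|a (b 3 0)<|a (b 6 1)<|a (b 6 2)<|c)<|a (a (b 0 0)<|a (b 1 0)<|a (b 4 0)<|a (b 5 0)<|a (b 2 1)<|a (b 6 0)<|a (b 6 1)<|a (b 5 2)<|c)<|c))<|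
 a (b 11<|b (d 24) (a (a (b 1 0)<|a (b 4 0)<|a (b 2 0)<|a (b 1 2)<|a (b 0 1)<|a (b 2 1)<|a (b 7 0)<|a (b 6 1)<|c)<|a (a (b 0 0)<|a (b 1 0)<|a (b 1 2)<|a (b 2 1)<|a (b 6 0)<|a (b 3 0)<|a (b 7 0)<|a (b 7 2)<|c)<|a (a (b 4 0)<|a (b 1 2)<|a (b 0 1)<|a (b 5 0)<|a (b 2 1)<|a (b 6 0)<|a (b 3 0)<|a (b 7 1)<|c)<|c))<|c))<|
 a (e 13 (a (b 0 0)<|a (b 1 0)<|a (b 3 0)<|a (b 4 0)<|a (b 1 2)<|a (b 0 1)<|a (b 0 2)<|a (b 2 0)<|a (b 4 1)<|a (b 5 0)<|a (b 6 0)<|a (b 7 0)<|a (b 4 2)<|a (b 5 1)<|a (b 6 2)<|a (b 5 2)<|a (b 7 2)<|a (b 2 2)<|a (b 6 1)<|a (b 1 1)<|a (b 7 1)<|a (b 2 1)<|a (b 3 2)<|a (b 3 1)<|c)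
 (a (b 0<|b (a 0<|c) c)<|
 a (b 1<|b (a 13<|c) c)<|
 a (b 7<|b (d 24) c)<|
 a (b 2<|b (d 24) (a (a (b 1 0)<|a (b 3 0)<|a (b 1 2)<|a (b 0 1)<|a (b 0 2)<|a (b 2 0)<|a (b 2 2)<|a (b 3 2)<|c)<|a (a (b 0 0)<|a (b 1 0)<|a (b 3 0)<|a (b 0 2)<|a (b 2 0)<|a (b 1 1)<|a (b 2 1)<|a (b 3 1)<|c)<|c))<|
 a (b 3<|b (d 24) (a (a (b 1 0)<|a (b 3 0)<|a (b 4 0)<|a (b 0 2)<|a (b 4 1)<|a (b 4 2)<|a (b 2 2)<|a (b 2 1)<|c)<|c))<|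
 a (b 9<|b (d 24) (a (a (b 0 0)<|a (b 1 0)<|a (b 3 0)<|a (b 0 1)<|a (b 0 2)<|a (b 4 2)<|a (b 5 1)<|a (b 5 2)<|c)<|a (a (b 0 0)<|a (b 1 0)<|a (b 3 0)<|a (b 2 0)<|a (b 4 1)<|a (b 5 0)<|a (b 5 1)<|a (b 2 2)<|c)<|a (a (b 1 0)<|a (b 4 0)<|a (b 1 2)<|a (b 0 2)<|a (b 2 0)<|a (b 4 1)<|a (b 5 0)<|a (b 1 1)<|c)<|c))<|
 a (b 10<|b (d 24) (a (a (b 0 0)<|a (b 1 0)<|a (b 3 0)<|a (b 4 0)<|a (b 1 2)<|a (b 2 0)<|a (b 6 0)<|a (b 4 2)<|c)<|a (a (b 0 0)<|a (b 1 0)<|a (b 0 1)<|a (b 0 2)<|a (b 2 0)<|a (b 5 0)<|a (b 6 0)<|a (b 6 2)<|c)<|a (a (b 0 0)<|a (b 3 0)<|a (b 4 0)<|a (b 0 1)<|a (b 0 2)<|a (b 2 0)<|a (b 4 1)<|a (b 6 1)<|c)<|c))<|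
 a (b 11<|b (d 24) (a (a (b 1 0)<|a (b 3 0)<|a (b 4 0)<|a (b 1 2)<|a (b 0 1)<|a (b 4 1)<|a (b 7 0)<|a (b 5 1)<|c)<|a (a (b 0 0)<|a (b 1 0)<|a (b 1 2)<|a (b 4 1)<|a (b 5 0)<|a (b 6 0)<|a (b 7 0)<|a (b 7 2)<|c)<|a (a (b 3 0)<|a (b 1 2)<|a (b 0 1)<|a (b 2 0)<|a (b 4 1)<|a (b 5 0)<|a (b 6 0)<|a (b 7 1)<|c)<|c))<|c))<|
 a (e 14 (a (b 0 0)<|a (b 1 0)<|a (b 4 0)<|a (b 5 0)<|a (b 1 2)<|a (b 0 1)<|a (b 0 2)<|a (b 6 0)<|a (b 5 1)<|a (b 2 0)<|a (b 7 0)<|a (b 3 0)<|a (b 5 2)<|a (b 2 1)<|a (b 7 2)<|a (b 2 2)<|a (b 3 2)<|a (b 6 2)<|a (b 7 1)<|a (b 1 1)<|a (b 3 1)<|a (b 6 1)<|a (b 4 2)<|a (b 4 1)<|c)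
 (a (b 0<|b (a 0<|c) c)<|
 a (b 1<|b (a 14<|c) c)<|
 a (b 9<|b (d 24) c)<|
 a (b 11<|b (d 24) (a (a (b 0 0)<|a (b 1 2)<|a (b 0 1)<|a (b 3 0)<|a (b 2 1)<|a (b 2 2)<|a (b 3 2)<|a (b 1 1)<|c)<|a (a (b 1 0)<|a (b 1 2)<|a (b 0 1)<|a (b 0 2)<|a (b 2 0)<|a (b 3 0)<|a (b 2 2)<|a (b 3 1)<|c)<|c))<|
 a (b 2<|b (d 24) (a (a (b 0 0)<|a (b 1 0)<|a (b 4 0)<|a (b 1 2)<|a (b 2 1)<|a (b 3 2)<|a (b 4 2)<|a (b 4 1)<|c)<|c))<|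
 a (b 3<|b (d 24) (a (a (b 1 0)<|a (b 4 0)<|a (b 5 0)<|a (b 1 2)<|a (b 0 1)<|a (b 5 1)<|a (b 3 0)<|a (b 2 1)<|c)<|a (a (b 0 0)<|a (b 5 0)<|a (b 1 2)<|a (b 0 2)<|a (b 5 1)<|a (b 3 0)<|a (b 5 2)<|a (b 2 2)<|c)<|a (a (b 0 0)<|a (b 1 0)<|a (b 4 0)<|a (b 5 0)<|a (b 0 2)<|a (b 2 0)<|a (b 3 0)<|a (b 4 2)<|c)<|c))<|
 a (b 7<|b (d 24) (a (a (b 4 0)<|a (b 5 0)<|a (b 6 0)<|a (b 5 1)<|a (b 2 0)<|a (b 3 0)<|a (b 5 2)<|a (b 3 2)<|c)<|a (a (b 0 0)<|a (b 5 0)<|a (b 1 2)<|a (b 0 1)<|a (b 6 0)<|a (b 2 0)<|a (b 3 0)<|a (b 6 2)<|c)<|a (a (b 0 0)<|a (b 5 0)<|a (b 0 2)<|a (b 6 0)<|a (b 2 0)<|a (b 5 2)<|a (b 2 1)<|a (b 6 1)<|c)<|c))<|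
 a (b 10<|b (d 24) (a (a (b 0 0)<|a (b 1 0)<|a (b 4 0)<|a (b 5 0)<|a (b 1 2)<|a (b 6 0)<|a (b 7 0)<|a (b 5 2)<|c)<|a (a (b 0 0)<|a (b 1 0)<|a (b 0 1)<|a (b 0 2)<|a (b 6 0)<|a (b 2 0)<|a (b 7 0)<|a (b 7 2)<|c)<|a (a (b 0 0)<|a (b 4 0)<|a (b 5 0)<|a (b 0 1)<|a (b 0 2)<|a (b 6 0)<|a (b 5 1)<|a (b 7 1)<|c)<|c))<|c))<|
 a (e 15 (a (b 0 0)<|a (b 1 0)<|a (b 3 0)<|a (b 4 0)<|a (b 1 2)<|a (b 0 1)<|a (b 0 2)<|a (b 2 0)<|a (b 4 1)<|a (b 5 0)<|a (b 6 0)<|a (b 7 0)<|a (b 4 2)<|a (b 5 1)<|a (b 6 2)<|a (b 5 2)<|a (b 7 2)<|a (b 2 2)<|a (b 6 1)<|a (b 1 1)<|a (b 7 1)<|a (b 2 1)<|a (b 3 2)<|a (b 3 1)<|c)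
 (a (b 0<|b (a 0<|c) c)<|
 a (b 1<|b (a 15<|c) c)<|
 a (b 7<|b (d 24) c)<|
 a (b 2<|b (d 24) (a (a (b 1 0)<|a (b 3 0)<|a (b 1 2)<|a (b 0 1)<|a (b 0 2)<|a (b 2 0)<|a (b 2 2)<|a (b 3 2)<|c)<|a (a (b 0 0)<|a (b 1 0)<|a (b 3 0)<|a (b 0 2)<|a (b 2 0)<|a (b 1 1)<|a (b 2 1)<|a (b 3 1)<|c)<|c))<|
 a (b 3<|b (d 24) (a (a (b 1 0)<|a (b 3 0)<|a (b 4 0)<|a (b 0 2)<|a (b 4 1)<|a (b 4 2)<|a (b 2 2)<|a (b 2 1)<|c)<|c))<|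
 a (b 9<|b (d 24) (a (a (b 0 0)<|a (b 1 0)<|a (b 3 0)<|a (b 0 1)<|a (b 0 2)<|a (b 4 2)<|a (b 5 1)<|a (b 5 2)<|c)<|a (a (b 0 0)<|a (b 1 0)<|a (b 3 0)<|a (b 2 0)<|a (b 4 1)<|a (b 5 0)<|a (b 5 1)<|a (b 2 2)<|c)<|a (a (b 1 0)<|a (b 4 0)<|a (b 1 2)<|a (b 0 2)<|a (b 2 0)<|a (b 4 1)<|a (b 5 0)<|a (b 1 1)<|c)<|c))<|
 a (b 10<|b (d 24) (a (a (b 0 0)<|a (b 1 0)<|a (b 3 0)<|a (b 4 0)<|a (b 1 2)<|a (b 2 0)<|a (b 6 0)<|a (b 4 2)<|c)<|a (a (b 0 0)<|a (b 1 0)<|a (b 0 1)<|a (b 0 2)<|a (b 2 0)<|a (b 5 0)<|a (b 6 0)<|a (b 6 2)<|c)<|a (a (b 0 0)<|a (b 3 0)<|a (b 4 0)<|a (b 0 1)<|a (b 0 2)<|a (b 2 0)<|a (b 4 1)<|a (b 6 1)<|c)<|c))<|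
 a (b 11<|b (d 24) (a (a (b 1 0)<|a (b 3 0)<|a (b 4 0)<|a (b 1 2)<|a (b 0 1)<|a (b 4 1)<|a (b 7 0)<|a (b 5 1)<|c)<|a (a (b 0 0)<|a (b 1 0)<|a (b 1 2)<|a (b 4 1)<|a (b 5 0)<|a (b 6 0)<|a (b 7 0)<|a (b 7 2)<|c)<|a (a (b 3 0)<|a (b 1 2)<|a (b 0 1)<|a (b 2 0)<|a (b 4 1)<|a (b 5 0)<|a (b 6 0)<|a (b 7 1)<|c)<|c))<|c))<|
 a (e 16 (a (b 0 0)<|a (b 1 0)<|a (b 2 0)<|a (b 4 0)<|a (b 1 2)<|a (b 0 1)<|a (b 0 2)<|a (b 3 0)<|a (b 4 1)<|a (b 5 0)<|a (b 6 0)<|a (b 7 0)<|a (b 4 2)<|a (b 5 1)<|a (b 6 2)<|a (b 5 2)<|a (b 7 2)<|a (b 3 2)<|a (b 6 1)<|a (b 1 1)<|a (b 7 1)<|a (b 3 1)<|a (b 2 2)<|a (b 2 1)<|c)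
 (a (b 0<|b (a 0<|c) c)<|
 a (b 1<|b (a 16<|c) c)<|
 a (b 2<|b (d 24) c)<|
 a (b 7<|b (d 24) (a (a (b 1 0)<|a (b 2 0)<|a (b 1 2)<|a (b 0 1)<|a (b 0 2)<|a (b 3 0)<|a (b 3 2)<|a (b 2 2)<|c)<|a (a (b 0 0)<|a (b 1 0)<|a (b 2 0)<|a (b 0 2)<|a (b 3 0)<|a (b 1 1)<|a (b 3 1)<|a (b 2 1)<|c)<|c))<|
 a (b 3<|b (d 24) (a (a (b 1 0)<|a (b 2 0)<|a (b 4 0)<|a (b 0 2)<|a (b 4 1)<|a (b 4 2)<|a (b 3 2)<|a (b 3 1)<|c)<|c))<|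
 a (b 9<|b (d 24) (a (a (b 0 0)<|a (b 1 0)<|a (b 2 0)<|a (b 0 1)<|a (b 0 2)<|a (b 4 2)<|a (b 5 1)<|a (b 5 2)<|c)<|a (a (b 0 0)<|a (b 1 0)<|a (b 2 0)<|a (b 3 0)<|a (b 4 1)<|a (b 5 0)<|a (b 5 1)<|a (b 3 2)<|c)<|a (a (b 1 0)<|a (b 4 0)<|a (b 1 2)<|a (b 0 2)<|a (b 3 0)<|a (b 4 1)<|a (b 5 0)<|a (b 1 1)<|c)<|c))<|
 a (b 10<|b (d 24) (a (a (b 0 0)<|a (b 1 0)<|a (b 2 0)<|a (b 4 0)<|a (b 1 2)<|a (b 3 0)<|a (b 6 0)<|a (b 4 2)<|c)<|a (a (b 0 0)<|a (b 1 0)<|a (b 0 1)<|a (b 0 2)<|a (b 3 0)<|a (b 5 0)<|a (b 6 0)<|a (b 6 2)<|c)<|a (a (b 0 0)<|a (b 2 0)<|a (b 4 0)<|a (b 0 1)<|a (b 0 2)<|a (b 3 0)<|a (b 4 1)<|a (b 6 1)<|c)<|c))<|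
 a (b 11<|b (d 24) (a (a (b 1 0)<|a (b 2 0)<|a (b 4 0)<|a (b 1 2)<|a (b 0 1)<|a (b 4 1)<|a (b 7 0)<|a (b 5 1)<|c)<|a (a (b 0 0)<|a (b 1 0)<|a (b 1 2)<|a (b 4 1)<|a (b 5 0)<|a (b 6 0)<|a (b 7 0)<|a (b 7 2)<|c)<|a (a (b 2 0)<|a (b 1 2)<|a (b 0 1)<|a (b 3 0)<|a (b 4 1)<|a (b 5 0)<|a (b 6 0)<|a (b 7 1)<|c)<|c))<|c))<|
 a (e 17 (a (b 0 0)<|a (b 1 0)<|a (b 4 0)<|a (b 5 0)<|a (b 1 2)<|a (b 0 1)<|a (b 0 2)<|a (b 6 0)<|a (b 5 1)<|a (b 2 0)<|a (b 7 0)<|a (b 3 0)<|a (b 5 2)<|a (b 2 1)<|a (b 7 2)<|a (b 2 2)<|a (b 3 2)<|a (b 6 2)<|a (b 7 1)<|a (b 1 1)<|a (b 3 1)<|a (b 6 1)<|a (b 4 2)<|a (b 4 1)<|c)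
 (a (b 0<|b (a 0<|c) c)<|
 a (b 1<|b (a 17<|c) c)<|
 a (b 9<|b (d 24) c)<|
 a (b 11<|b (d 24) (a (a (b 0 0)<|a (b 1 2)<|a (b 0 1)<|a (b 3 0)<|a (b 2 1)<|a (b 2 2)<|a (b 3 2)<|a (b 1 1)<|c)<|a (a (b 1 0)<|a (b 1 2)<|a (b 0 1)<|a (b 0 2)<|a (b 2 0)<|a (b 3 0)<|a (b 2 2)<|a (b 3 1)<|c)<|c))<|
 a (b 2<|b (d 24) (a (a (b 0 0)<|a (b 1 0)<|a (b 4 0)<|a (b 1 2)<|a (b 2 1)<|a (b 3 2)<|a (b 4 2)<|a (b 4 1)<|c)<|c))<|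
 a (b 3<|b (d 24) (a (a (b 1 0)<|a (b 4 0)<|a (b 5 0)<|a (b 1 2)<|a (b 0 1)<|a (b 5 1)<|a (b 3 0)<|a (b 2 1)<|c)<|a (a (b 0 0)<|a (b 5 0)<|a (b 1 2)<|a (b 0 2)<|a (b 5 1)<|a (b 3 0)<|a (b 5 2)<|a (b 2 2)<|c)<|a (a (b 0 0)<|a (b 1 0)<|a (b 4 0)<|a (b 5 0)<|a (b 0 2)<|a (b 2 0)<|a (b 3 0)<|a (b 4 2)<|c)<|c))<|
 a (b 7<|b (d 24) (a (a (b 4 0)<|a (b 5 0)<|a (b 6 0)<|a (b 5 1)<|a (b 2 0)<|a (b 3 0)<|a (b 5 2)<|a (b 3 2)<|c)<|a (a (b 0 0)<|a (b 5 0)<|a (b 1 2)<|a (b 0 1)<|a (b 6 0)<|a (b 2 0)<|a (b 3 0)<|a (b 6 2)<|c)<|a (a (b 0 0)<|a (b 5 0)<|a (b 0 2)<|a (b 6 0)<|a (b 2 0)<|a (b 5 2)<|a (b 2 1)<|a (b 6 1)<|c)<|c))<|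
 a (b 10<|b (d 24) (a (a (b 0 0)<|a (b 1 0)<|a (b 4 0)<|a (b 5 0)<|a (b 1 2)<|a (b 6 0)<|a (b 7 0)<|a (b 5 2)<|c)<|a (a (b 0 0)<|a (b 1 0)<|a (b 0 1)<|a (b 0 2)<|a (b 6 0)<|a (b 2 0)<|a (b 7 0)<|a (b 7 2)<|c)<|a (a (b 0 0)<|a (b 4 0)<|a (b 5 0)<|a (b 0 1)<|a (b 0 2)<|a (b 6 0)<|a (b 5 1)<|a (b 7 1)<|c)<|c))<|c))<|
 a (e 19 (a (b 0 0)<|a (b 1 0)<|a (b 2 0)<|a (b 4 0)<|a (b 1 2)<|a (b 0 1)<|a (b 0 2)<|a (b 3 0)<|a (b 4 1)<|a (b 5 0)<|a (b 6 0)<|a (b 7 0)<|a (b 4 2)<|a (b 5 1)<|a (b 6 2)<|a (b 5 2)<|a (b 7 2)<|a (b 3 2)<|a (b 6 1)<|a (b 1 1)<|a (b 7 1)<|a (b 3 1)<|a (b 2 2)<|a (b 2 1)<|c)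
 (a (b 0<|b (a 0<|c) c)<|
 a (b 1<|b (a 19<|c) c)<|
 a (b 2<|b (d 24) c)<|
 a (b 7<|b (d 24) (a (a (b 1 0)<|a (b 2 0)<|a (b 1 2)<|a (b 0 1)<|a (b 0 2)<|a (b 3 0)<|a (b 3 2)<|a (b 2 2)<|c)<|a (a (b 0 0)<|a (b 1 0)<|a (b 2 0)<|a (b 0 2)<|a (b 3 0)<|a (b 1 1)<|a (b 3 1)<|a (b 2 1)<|c)<|c))<|
 a (b 3<|b (d 24) (a (a (b 1 0)<|a (b 2 0)<|a (b 4 0)<|a (b 0 2)<|a (b 4 1)<|a (b 4 2)<|a (b 3 2)<|a (b 3 1)<|c)<|c))<|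
 a (b 9<|b (d 24) (a (a (b 0 0)<|a (b 1 0)<|a (b 2 0)<|a (b 0 1)<|a (b 0 2)<|a (b 4 2)<|a (b 5 1)<|a (b 5 2)<|c)<|a (a (b 0 0)<|a (b 1 0)<|a (b 2 0)<|a (b 3 0)<|a (b 4 1)<|a (b 5 0)<|a (b 5 1)<|a (b 3 2)<|c)<|a (a (b 1 0)<|a (b 4 0)<|a (b 1 2)<|a (b 0 2)<|a (b 3 0)<|a (b 4 1)<|a (b 5 0)<|a (b 1 1)<|c)<|c))<|
 a (b 10<|b (d 24) (a (a (b 0 0)<|a (b 1 0)<|a (b 2 0)<|a (b 4 0)<|a (b 1 2)<|a (b 3 0)<|a (b 6 0)<|a (b 4 2)<|c)<|a (a (b 0 0)<|a (b 1 0)<|a (b 0 1)<|a (b 0 2)<|a (b 3 0)<|a (b 5 0)<|a (b 6 0)<|a (b 6 2)<|c)<|a (a (b 0 0)<|a (b 2 0)<|a (b 4 0)<|a (b 0 1)<|a (b 0 2)<|a (b 3 0)<|a (b 4 1)<|a (b 6 1)<|c)<|c))<|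
 a (b 11<|b (d 24) (a (a (b 1 0)<|a (b 2 0)<|a (b 4 0)<|a (b 1 2)<|a (b 0 1)<|a (b 4 1)<|a (b 7 0)<|a (b 5 1)<|c)<|a (a (b 0 0)<|a (b 1 0)<|a (b 1 2)<|a (b 4 1)<|a (b 5 0)<|a (b 6 0)<|a (b 7 0)<|a (b 7 2)<|c)<|a (a (b 2 0)<|a (b 1 2)<|a (b 0 1)<|a (b 3 0)<|a (b 4 1)<|a (b 5 0)<|a (b 6 0)<|a (b 7 1)<|c)<|c))<|c))<|
 a (e 21 (a (b 0 0)<|a (b 1 0)<|a (b 4 0)<|a (b 2 0)<|a (b 1 2)<|a (b 0 1)<|a (b 0 2)<|a (b 5 0)<|a (b 2 1)<|a (b 6 0)<|a (b 3 0)<|a (b 7 0)<|a (b 2 2)<|a (b 6 1)<|a (b 3 2)<|a (b 6 2)<|a (b 7 2)<|a (b 5 2)<|a (b 3 1)<|a (b 1 1)<|a (b 7 1)<|a (b 5 1)<|a (b 4 2)<|a (b 4 1)<|c)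
 (a (b 0<|b (a 0<|c) c)<|
 a (b 1<|b (a 21<|c) c)<|
 a (b 3<|b (d 24) c)<|
 a (b 10<|b (d 24) (a (a (b 1 0)<|a (b 1 2)<|a (b 0 1)<|a (b 0 2)<|a (b 2 1)<|a (b 3 0)<|a (b 2 2)<|a (b 3 1)<|c)<|a (a (b 0 0)<|a (b 2 0)<|a (b 1 2)<|a (b 0 1)<|a (b 2 1)<|a (b 3 0)<|a (b 3 2)<|a (b 1 1)<|c)<|c))<|
 a (b 2<|b (d 24) (a (a (b 1 0)<|a (b 4 0)<|a (b 0 2)<|a (b 3 0)<|a (b 2 2)<|a (b 3 2)<|a (b 4 2)<|a (b 4 1)<|c)<|c))<|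
 a (b 7<|b (d 24) (a (a (b 0 0)<|a (b 1 0)<|a (b 4 0)<|a (b 2 0)<|a (b 1 2)<|a (b 5 0)<|a (b 3 0)<|a (b 2 2)<|c)<|a (a (b 0 0)<|a (b 1 2)<|a (b 0 2)<|a (b 5 0)<|a (b 2 1)<|a (b 3 0)<|a (b 5 2)<|a (b 5 1)<|c)<|a (a (b 1 0)<|a (b 4 0)<|a (b 1 2)<|a (b 0 1)<|a (b 0 2)<|a (b 5 0)<|a (b 5 2)<|a (b 4 2)<|c)<|c))<|
 a (b 9<|b (d 24) (a (a (b 0 0)<|a (b 1 0)<|a (b 0 1)<|a (b 0 2)<|a (b 5 0)<|a (b 6 0)<|a (b 3 0)<|a (b 3 2)<|c)<|a (a (b 2 0)<|a (b 1 2)<|a (b 0 1)<|a (b 0 2)<|a (b 5 0)<|a (b 3 0)<|a (b 6 1)<|a (b 6 2)<|c)<|a (a (b 0 0)<|a (b 1 0)<|a (b 4 0)<|a (b 5 0)<|a (b 2 1)<|a (b 6 0)<|a (b 6 1)<|a (b 5 2)<|c)<|c))<|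
 a (b 11<|b (d 24) (a (a (b 1 0)<|a (b 4 0)<|a (b 2 0)<|a (b 1 2)<|a (b 0 1)<|a (b 2 1)<|a (b 7 0)<|a (b 6 1)<|c)<|a (a (b 0 0)<|a (b 1 0)<|a (b 1 2)<|a (b 2 1)<|a (b 6 0)<|a (b 3 0)<|a (b 7 0)<|a (b 7 2)<|c)<|a (a (b 4 0)<|a (b 1 2)<|a (b 0 1)<|a (b 5 0)<|a (b 2 1)<|a (b 6 0)<|a (b 3 0)<|a (b 7 1)<|c)<|c))<|c))<|
 a (e 22 (a (b 0 0)<|a (b 1 0)<|a (b 2 0)<|a (b 4 0)<|a (b 1 2)<|a (b 0 1)<|a (b 0 2)<|a (b 3 0)<|a (b 4 1)<|a (b 5 0)<|a (b 6 0)<|a (b 7 0)<|a (b 4 2)<|a (b 5 1)<|a (b 6 2)<|a (b 5 2)<|a (b 7 2)<|a (b 3 2)<|a (b 6 1)<|a (b 1 1)<|a (b 7 1)<|a (b 3 1)<|a (b 2 2)<|a (b 2 1)<|c)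
 (a (b 0<|b (a 0<|c) c)<|
 a (b 1<|b (a 22<|c) c)<|
 a (b 2<|b (d 24) c)<|
 a (b 7<|b (d 24) (a (a (b 1 0)<|a (b 2 0)<|a (b 1 2)<|a (b 0 1)<|a (b 0 2)<|a (b 3 0)<|a (b 3 2)<|a (b 2 2)<|c)<|a (a (b 0 0)<|a (b 1 0)<|a (b 2 0)<|a (b 0 2)<|a (b 3 0)<|a (b 1 1)<|a (b 3 1)<|a (b 2 1)<|c)<|c))<|
 a (b 3<|b (d 24) (a (a (b 1 0)<|a (b 2 0)<|a (b 4 0)<|a (b 0 2)<|a (b 4 1)<|a (b 4 2)<|a (b 3 2)<|a (b 3 1)<|c)<|c))<|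
 a (b 9<|b (d 24) (a (a (b 0 0)<|a (b 1 0)<|a (b 2 0)<|a (b 0 1)<|a (b 0 2)<|a (b 4 2)<|a (b 5 1)<|a (b 5 2)<|c)<|a (a (b 0 0)<|a (b 1 0)<|a (b 2 0)<|a (b 3 0)<|a (b 4 1)<|a (b 5 0)<|a (b 5 1)<|a (b 3 2)<|c)<|a (a (b 1 0)<|a (b 4 0)<|a (b 1 2)<|a (b 0 2)<|a (b 3 0)<|a (b 4 1)<|a (b 5 0)<|a (b 1 1)<|c)<|c))<|
 a (b 10<|b (d 24) (a (a (b 0 0)<|a (b 1 0)<|a (b 2 0)<|a (b 4 0)<|a (b 1 2)<|a (b 3 0)<|a (b 6 0)<|a (b 4 2)<|c)<|a (a (b 0 0)<|a (b 1 0)<|a (b 0 1)<|a (b 0 2)<|a (b 3 0)<|a (b 5 0)<|a (b 6 0)<|a (b 6 2)<|c)<|a (a (b 0 0)<|a (b 2 0)<|a (b 4 0)<|a (b 0 1)<|a (b 0 2)<|a (b 3 0)<|a (b 4 1)<|a (b 6 1)<|c)<|c))<|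
 a (b 11<|b (d 24) (a (a (b 1 0)<|a (b 2 0)<|a (b 4 0)<|a (b 1 2)<|a (b 0 1)<|a (b 4 1)<|a (b 7 0)<|a (b 5 1)<|c)<|a (a (b 0 0)<|a (b 1 0)<|a (b 1 2)<|a (b 4 1)<|a (b 5 0)<|a (b 6 0)<|a (b 7 0)<|a (b 7 2)<|c)<|a (a (b 2 0)<|a (b 1 2)<|a (b 0 1)<|a (b 3 0)<|a (b 4 1)<|a (b 5 0)<|a (b 6 0)<|a (b 7 1)<|c)<|c))<|c))<|
 a (e 23 (a (b 0 0)<|a (b 1 0)<|a (b 4 0)<|a (b 5 0)<|a (b 1 2)<|a (b 0 1)<|a (b 0 2)<|a (b 6 0)<|a (b 5 1)<|a (b 2 0)<|a (b 7 0)<|a (b 3 0)<|a (b 5 2)<|a (b 2 1)<|a (b 7 2)<|a (b 2 2)<|a (b 3 2)<|a (b 6 2)<|a (b 7 1)<|a (b 1 1)<|a (b 3 1)<|a (b 6 1)<|a (b 4 2)<|a (b 4 1)<|c)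
 (a (b 0<|b (a 0<|c) c)<|
 a (b 1<|b (a 23<|c) c)<|
 a (b 9<|b (d 24) c)<|
 a (b 11<|b (d 24) (a (a (b 0 0)<|a (b 1 2)<|a (b 0 1)<|a (b 3 0)<|a (b 2 1)<|a (b 2 2)<|a (b 3 2)<|a (b 1 1)<|c)<|a (a (b 1 0)<|a (b 1 2)<|a (b 0 1)<|a (b 0 2)<|a (b 2 0)<|a (b 3 0)<|a (b 2 2)<|a (b 3 1)<|c)<|c))<|
 a (b 2<|b (d 24) (a (a (b 0 0)<|a (b 1 0)<|a (b 4 0)<|a (b 1 2)<|a (b 2 1)<|a (b 3 2)<|a (b 4 2)<|a (b 4 1)<|c)<|c))<|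
 a (b 3<|b (d 24) (a (a (b 1 0)<|a (b 4 0)<|a (b 5 0)<|a (b 1 2)<|a (b 0 1)<|a (b 5 1)<|a (b 3 0)<|a (b 2 1)<|c)<|a (a (b 0 0)<|a (b 5 0)<|a (b 1 2)<|a (b 0 2)<|a (b 5 1)<|a (b 3 0)<|a (b 5 2)<|a (b 2 2)<|c)<|a (a (b 0 0)<|a (b 1 0)<|a (b 4 0)<|a (b 5 0)<|a (b 0 2)<|a (b 2 0)<|a (b 3 0)<|a (b 4 2)<|c)<|c))<|
 a (b 7<|b (d 24) (a (a (b 4 0)<|a (b 5 0)<|a (b 6 0)<|a (b 5 1)<|a (b 2 0)<|a (b 3 0)<|a (b 5 2)<|a (b 3 2)<|c)<|a (a (b 0 0)<|a (b 5 0)<|a (b 1 2)<|a (b 0 1)<|a (b 6 0)<|a (b 2 0)<|a (b 3 0)<|a (b 6 2)<|c)<|a (a (b 0 0)<|a (b 5 0)<|a (b 0 2)<|a (b 6 0)<|a (b 2 0)<|a (b 5 2)<|a (b 2 1)<|a (b 6 1)<|c)<|c))<|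
 a (b 10<|b (d 24) (a (a (b 0 0)<|a (b 1 0)<|a (b 4 0)<|a (b 5 0)<|a (b 1 2)<|a (b 6 0)<|a (b 7 0)<|a (b 5 2)<|c)<|a (a (b 0 0)<|a (b 1 0)<|a (b 0 1)<|a (b 0 2)<|a (b 6 0)<|a (b 2 0)<|a (b 7 0)<|a (b 7 2)<|c)<|a (a (b 0 0)<|a (b 4 0)<|a (b 5 0)<|a (b 0 1)<|a (b 0 2)<|a (b 6 0)<|a (b 5 1)<|a (b 7 1)<|c)<|c))<|c))<|c))

def r3 : Rec where
  p := 3
  c := 917150455939460404939281612745760357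
  a := 340670547124668978596097019309841123
  b := 345495268953631398292692712137560480
  t := [882331097009847378070907503889565037, 312941897574483570400844489455916553, 984818244535754528103549039458486304, 984818244535754528103549039458486304]
  wd := (beta% delta% lq265cdff330 fun a b c _ _ =>
 (a (b 1 0)<|a (b 0 0)<|a (b 5 0)<|a (b 6 0)<|a (b 0 2)<|a (b 1 1)<|a (b 1 2)<|a (b 4 0)<|a (b 6 1)<|a (b 2 0)<|a (b 7 0)<|a (b 3 0)<|a (b 6 2)<|a (b 2 1)<|a (b 7 2)<|a (b 2 2)<|a (b 3 2)<|a (b 4 2)<|a (b 7 1)<|a (b 0 1)<|a (b 3 1)<|a (b 4 1)<|a (b 5 2)<|a (b 5 1)<|c))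
  sts := (beta% delta% lq265cdff330 fun a b c d _ =>
 (a (b 1<|b (a 1<|c) c)<|
 a (b 0<|b (a 0<|c) c)<|
 a (b 9<|b (d 24) c)<|
 a (b 11<|b (d 24) (a (a (b 1 0)<|a (b 0 2)<|a (b 1 1)<|a (b 3 0)<|a (b 2 1)<|a (b 2 2)<|a (b 3 2)<|a (b 0 1)<|c)<|a (a (b 0 0)<|a (b 0 2)<|a (b 1 1)<|a (b 1 2)<|a (b 2 0)<|a (b 3 0)<|a (b 2 2)<|a (b 3 1)<|c)<|c))<|
 a (b 7<|b (d 24) (a (a (b 0 0)<|a (b 1 2)<|a (b 4 0)<|a (b 2 0)<|a (b 3 0)<|a (b 3 2)<|a (b 4 2)<|a (b 4 1)<|c)<|c))<|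
 a (b 2<|b (d 24) (a (a (b 1 0)<|a (b 5 0)<|a (b 0 2)<|a (b 1 2)<|a (b 4 0)<|a (b 2 0)<|a (b 2 2)<|a (b 3 2)<|c)<|a (a (b 0 0)<|a (b 5 0)<|a (b 0 2)<|a (b 1 1)<|a (b 1 2)<|a (b 4 0)<|a (b 4 2)<|a (b 5 2)<|c)<|a (a (b 5 0)<|a (b 0 2)<|a (b 1 1)<|a (b 2 0)<|a (b 2 1)<|a (b 2 2)<|a (b 4 2)<|a (b 5 1)<|c)<|c))<|
 a (b 3<|b (d 24) (a (a (b 0 0)<|a (b 5 0)<|a (b 6 0)<|a (b 0 2)<|a (b 1 1)<|a (b 6 1)<|a (b 3 0)<|a (b 2 1)<|c)<|a (a (b 1 0)<|a (b 6 0)<|a (b 0 2)<|a (b 1 2)<|a (b 6 1)<|a (b 3 0)<|a (b 6 2)<|a (b 2 2)<|c)<|a (a (b 1 0)<|a (b 6 0)<|a (b 0 2)<|a (b 1 1)<|a (b 4 0)<|a (b 2 0)<|a (b 3 0)<|a (b 4 2)<|c)<|c))<|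
 a (b 10<|b (d 24) (a (a (b 1 0)<|a (b 0 0)<|a (b 5 0)<|a (b 6 0)<|a (b 0 2)<|a (b 4 0)<|a (b 7 0)<|a (b 6 2)<|c)<|a (a (b 1 0)<|a (b 0 0)<|a (b 1 1)<|a (b 1 2)<|a (b 4 0)<|a (b 2 0)<|a (b 7 0)<|a (b 7 2)<|c)<|a (a (b 1 0)<|a (b 5 0)<|a (b 6 0)<|a (b 1 1)<|a (b 1 2)<|a (b 4 0)<|a (b 6 1)<|a (b 7 1)<|c)<|c))<|c))
  fib := [f3_0, f3_1]
  n := 504

def f4_0 : Fib where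
  b := 1
  e := []

def f4_1 : Fib where
  b := 0
  e := []

def r4 : Rec where
  p := 4
  c := 192613887460257670335523932379526859
  a := 563025918997333186122746917238285555
  b := 838666237353604715610800945754494066
  t := [515501029353775094361077550756778144, 875853356779646293452674525622262187, 984818244535754528103549039458486304, 984818244535754528103549039458486304]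
  wd := (beta% delta% lq265cdff330 fun a b c _ _ =>
 (a (b 0 0)<|a (b 1 0)<|a (b 6 0)<|a (b 2 0)<|a (b 3 0)<|a (b 6 2)<|a (b 5 0)<|a (b 4 0)<|a (b 5 1)<|a (b 1 3)<|a (b 5 2)<|a (b 0 1)<|a (b 7 0)<|a (b 6 1)<|a (b 6 3)<|a (b 2 1)<|a (b 4 1)<|a (b 5 3)<|a (b 2 3)<|a (b 2 2)<|a (b 1 2)<|a (b 7 1)<|a (b 1 1)<|a (b 3 1)<|c))
  sts := (beta% delta% lq265cdff330 fun a b c d _ =>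
 (a (b 0<|b (a 0<|c) c)<|
 a (b 1<|b (a 1<|c) c)<|
 a (b 3<|b (d 24) (a (a (b 1 0)<|a (b 2 0)<|a (b 1 3)<|a (b 2 1)<|a (b 2 3)<|a (b 2 2)<|a (b 1 2)<|a (b 1 1)<|c)<|c))<|
 a (b 4<|b (d 24) (a (a (b 0 0)<|a (b 1 0)<|a (b 2 0)<|a (b 3 0)<|a (b 0 1)<|a (b 2 2)<|a (b 1 2)<|a (b 3 1)<|c)<|c))<|
 a (b 7<|b (d 24) (a (a (b 3 0)<|a (b 4 0)<|a (b 1 3)<|a (b 0 1)<|a (b 4 1)<|a (b 2 3)<|a (b 2 2)<|a (b 1 2)<|c)<|c))<|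
 a (b 6<|b (d 24) (a (a (b 0 0)<|a (b 1 0)<|a (b 3 0)<|a (b 5 1)<|a (b 1 3)<|a (b 5 2)<|a (b 0 1)<|a (b 4 1)<|c)<|a (a (b 1 0)<|a (b 3 0)<|a (b 4 0)<|a (b 1 3)<|a (b 5 2)<|a (b 2 1)<|a (b 5 3)<|a (b 2 3)<|c)<|a (a (b 1 0)<|a (b 2 0)<|a (b 3 0)<|a (b 5 0)<|a (b 4 0)<|a (b 5 1)<|a (b 1 3)<|a (b 2 2)<|c)<|c))<|
 a (b 2<|b (d 24) (a (a (b 1 0)<|a (b 6 0)<|a (b 2 0)<|a (b 3 0)<|a (b 6 2)<|a (b 5 1)<|a (b 0 1)<|a (b 6 1)<|c)<|a (a (b 0 0)<|a (b 1 0)<|a (b 6 2)<|a (b 5 0)<|a (b 4 0)<|a (b 1 3)<|a (b 5 2)<|a (b 6 3)<|c)<|a (a (b 1 0)<|a (b 6 0)<|a (b 5 0)<|a (b 4 0)<|a (b 5 1)<|a (b 5 2)<|a (b 0 1)<|a (b 2 1)<|c)<|a (a (b 0 0)<|a (b 2 0)<|a (b 3 0)<|a (b 6 2)<|a (b 4 0)<|a (b 1 3)<|a (b 0 1)<|a (b 5 3)<|c)<|c))<|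
 a (b 12<|b (d 24) (a (a (b 0 0)<|a (b 1 0)<|a (b 6 0)<|a (b 2 0)<|a (b 3 0)<|a (b 4 0)<|a (b 5 2)<|a (b 7 0)<|c)<|a (a (b 2 0)<|a (b 6 2)<|a (b 5 0)<|a (b 5 1)<|a (b 1 3)<|a (b 5 2)<|a (b 0 1)<|a (b 7 1)<|c)<|c))<|c))
  fib := [f4_0, f4_1]
  n := 384

def f5_0 : Fib where
  b := 0
  e := []

def r5 : Rec where
  p := 4
  c := 766078480764522267812074796576527779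
  a := 929514995299590413552915581165514192
  b := 640386274143287331986863164665406642
  t := [894023423856696691000174015117805569, 91237147086434376827419659221491048, 984818244535754528103549039458486304, 984818244535754528103549039458486304]
  wd := (beta% delta% lq265cdff330 fun a b c _ _ =>
 (a (b 0 0)<|a (b 3 0)<|a (b 1 0)<|a (b 0 1)<|a (b 3 2)<|a (b 1 2)<|a (b 5 0)<|a (b 8 0)<|a (b 3 3)<|a (b 2 0)<|a (b 6 0)<|a (b 0 3)<|a (b 1 3)<|a (b 3 1)<|a (b 4 0)<|a (b 7 0)<|a (b 5 1)<|a (b 9 0)<|a (b 2 2)<|a (b 0 2)<|a (b 2 3)<|a (b 1 1)<|a (b 4 1)<|a (b 2 1)<|c))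
  sts := (beta% delta% lq265cdff330 fun a b c d _ =>
 (a (b 0<|b (a 0<|c) c)<|
 a (b 2<|b (d 24) (a (a (b 0 0)<|a (b 1 0)<|a (b 0 1)<|a (b 1 2)<|a (b 0 3)<|a (b 1 3)<|a (b 0 2)<|a (b 1 1)<|c)<|c))<|
 a (b 9<|b (d 24) (a (a (b 1 0)<|a (b 0 1)<|a (b 1 2)<|a (b 2 0)<|a (b 0 3)<|a (b 2 2)<|a (b 2 3)<|a (b 2 1)<|c)<|c))<|
 a (b 1<|b (d 24) (a (a (b 3 0)<|a (b 1 0)<|a (b 0 1)<|a (b 3 2)<|a (b 1 2)<|a (b 3 3)<|a (b 0 3)<|a (b 3 1)<|c)<|a (a (b 0 0)<|a (b 3 0)<|a (b 1 0)<|a (b 3 2)<|a (b 1 2)<|a (b 2 0)<|a (b 2 2)<|a (b 0 2)<|c)<|a (a (b 0 0)<|a (b 3 0)<|a (b 0 1)<|a (b 1 2)<|a (b 3 3)<|a (b 2 0)<|a (b 1 3)<|a (b 2 3)<|c)<|c))<|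
 a (b 14<|b (d 24) (a (a (b 0 0)<|a (b 3 0)<|a (b 3 2)<|a (b 1 2)<|a (b 0 3)<|a (b 1 3)<|a (b 4 0)<|a (b 4 1)<|c)<|c))<|
 a (b 6<|b (d 24) (a (a (b 1 0)<|a (b 0 1)<|a (b 3 2)<|a (b 1 2)<|a (b 5 0)<|a (b 2 0)<|a (b 1 3)<|a (b 4 0)<|c)<|a (a (b 0 0)<|a (b 1 2)<|a (b 5 0)<|a (b 2 0)<|a (b 0 3)<|a (b 1 3)<|a (b 5 1)<|a (b 2 2)<|c)<|c))<|
 a (b 10<|b (d 24) (a (a (b 0 0)<|a (b 3 0)<|a (b 3 2)<|a (b 3 3)<|a (b 2 0)<|a (b 6 0)<|a (b 0 3)<|a (b 5 1)<|c)<|c))<|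
 a (b 15<|b (d 24) (a (a (b 0 0)<|a (b 0 1)<|a (b 3 2)<|a (b 5 0)<|a (b 3 3)<|a (b 0 3)<|a (b 1 3)<|a (b 7 0)<|c)<|c))<|
 a (b 7<|b (d 24) (a (a (b 0 0)<|a (b 3 0)<|a (b 1 0)<|a (b 0 1)<|a (b 3 2)<|a (b 8 0)<|a (b 6 0)<|a (b 1 3)<|c)<|c))<|
 a (b 17<|b (d 24) (a (a (b 0 0)<|a (b 0 1)<|a (b 3 2)<|a (b 1 2)<|a (b 8 0)<|a (b 2 0)<|a (b 0 3)<|a (b 9 0)<|c)<|c))<|c))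
  fib := [f5_0]
  n := 128

def f6_0 : Fib where
  b := 0
  e := []

def r6 : Rec where
  p := 4
  c := 630337107645975966183283128165411569
  a := 433030838196058526560697714132408468
  b := 798866418162995428433870393438276288
  t := [381008218701924633485171803578251409, 818417711753696974483914894103088416, 984818244535754528103549039458486304, 984818244535754528103549039458486304]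
  wd := (beta% delta% lq265cdff330 fun a b c _ _ =>
 (a (b 0 0)<|a (b 4 0)<|a (b 3 0)<|a (b 3 2)<|a (b 5 0)<|a (b 2 0)<|a (b 1 0)<|a (b 2 2)<|a (b 1 2)<|a (b 5 3)<|a (b 3 1)<|a (b 2 1)<|a (b 1 1)<|a (b 1 3)<|a (b 3 3)<|a (b 4 2)<|a (b 4 3)<|a (b 0 1)<|a (b 0 2)<|a (b 5 2)<|a (b 0 3)<|a (b 5 1)<|a (b 2 3)<|a (b 4 1)<|c))
  sts := (beta% delta% lq265cdff330 fun a b c d _ =>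
 (a (b 0<|b (a 0<|c) c)<|
 a (b 6<|b (d 24) (a (a (b 0 0)<|a (b 1 0)<|a (b 1 2)<|a (b 1 1)<|a (b 1 3)<|a (b 0 1)<|a (b 0 2)<|a (b 0 3)<|c)<|c))<|
 a (b 5<|b (d 24) c)<|
 a (b 2<|b (d 24) (a (a (b 0 0)<|a (b 2 0)<|a (b 2 2)<|a (b 1 2)<|a (b 3 1)<|a (b 2 1)<|a (b 1 1)<|a (b 1 3)<|c)<|a (a (b 0 0)<|a (b 3 0)<|a (b 1 0)<|a (b 2 2)<|a (b 2 1)<|a (b 1 1)<|a (b 3 3)<|a (b 0 1)<|c)<|a (a (b 0 0)<|a (b 3 0)<|a (b 3 2)<|a (b 2 0)<|a (b 1 0)<|a (b 2 2)<|a (b 1 2)<|a (b 0 2)<|c)<|a (a (b 3 0)<|a (b 3 2)<|a (b 2 0)<|a (b 2 2)<|a (b 3 1)<|a (b 2 1)<|a (b 3 3)<|a (b 2 3)<|c)<|c))<|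
 a (b 1<|b (d 24) (a (a (b 4 0)<|a (b 3 0)<|a (b 1 0)<|a (b 2 2)<|a (b 1 2)<|a (b 3 1)<|a (b 2 1)<|a (b 4 2)<|c)<|a (a (b 4 0)<|a (b 3 0)<|a (b 3 2)<|a (b 1 0)<|a (b 2 2)<|a (b 1 3)<|a (b 3 3)<|a (b 4 3)<|c)<|a (a (b 4 0)<|a (b 3 2)<|a (b 2 0)<|a (b 1 0)<|a (b 2 2)<|a (b 2 1)<|a (b 1 1)<|a (b 4 1)<|c)<|c))<|
 a (b 4<|b (d 24) (a (a (b 0 0)<|a (b 4 0)<|a (b 3 0)<|a (b 3 2)<|a (b 5 0)<|a (b 2 2)<|a (b 3 1)<|a (b 1 1)<|c)<|a (a (b 0 0)<|a (b 4 0)<|a (b 2 0)<|a (b 1 0)<|a (b 2 2)<|a (b 5 3)<|a (b 3 1)<|a (b 3 3)<|c)<|a (a (b 4 0)<|a (b 3 2)<|a (b 5 0)<|a (b 1 0)<|a (b 2 2)<|a (b 1 2)<|a (b 5 3)<|a (b 5 2)<|c)<|a (a (b 3 2)<|a (b 2 0)<|a (b 1 0)<|a (b 1 2)<|a (b 5 3)<|a (b 3 1)<|a (b 2 1)<|a (b 5 1)<|c)<|c))<|c))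
  fib := [f6_0]
  n := 96

def f7_0 : Fib where
  b := 0
  e := []

def r7 : Rec where
  p := 5
  c := 970531382982415564833320819807602177
  a := 485017634687862308445916566579087689
  b := 843872967134859417197160370849167044
  t := [971836263857004386005188942625883137, 970531342981781179981564350474324160, 984818244535754528103549039458486304, 984818244535754528103549039458486304]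
  wd := (beta% delta% lq265cdff330 fun a b c _ _ =>
 (a (b 0 0)<|a (b 0 1)<|a (b 5 0)<|a (b 2 0)<|a (b 6 0)<|a (b 0 3)<|a (b 0 4)<|a (b 3 0)<|a (b 3 4)<|a (b 4 0)<|a (b 4 4)<|a (b 5 3)<|a (b 5 4)<|a (b 4 1)<|a (b 3 2)<|a (b 4 3)<|a (b 0 2)<|a (b 5 1)<|a (b 4 2)<|a (b 3 3)<|a (b 3 1)<|a (b 7 0)<|a (b 5 2)<|a (b 1 0)<|c))
  sts := (beta% delta% lq265cdff330 fun a b c d _ =>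
 (a (b 0<|b (a 0<|c) c)<|
 a (b 23<|b (d 24) c)<|
 a (b 3<|b (d 24) c)<|
 a (b 7<|b (d 24) (a (a (b 0 0)<|a (b 0 1)<|a (b 2 0)<|a (b 0 3)<|a (b 0 4)<|a (b 3 0)<|a (b 3 4)<|a (b 3 2)<|a (b 0 2)<|a (b 3 3)<|a (b 3 1)<|a (b 1 0)<|c)<|c))<|
 a (b 9<|b (d 24) (a (a (b 0 0)<|a (b 0 1)<|a (b 0 3)<|a (b 0 4)<|a (b 3 0)<|a (b 4 0)<|a (b 4 4)<|a (b 3 2)<|c)<|a (a (b 0 4)<|a (b 3 0)<|a (b 3 4)<|a (b 4 0)<|a (b 4 4)<|a (b 4 1)<|a (b 0 2)<|a (b 4 2)<|c)<|a (a (b 0 1)<|a (b 0 3)<|a (b 3 4)<|a (b 4 0)<|a (b 4 4)<|a (b 4 1)<|a (b 4 3)<|a (b 3 3)<|c)<|a (a (b 0 0)<|a (b 0 3)<|a (b 0 4)<|a (b 3 4)<|a (b 4 4)<|a (b 4 3)<|a (b 0 2)<|a (b 3 1)<|c)<|c))<|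
 a (b 2<|b (d 24) (a (a (b 0 0)<|a (b 0 3)<|a (b 3 0)<|a (b 3 4)<|a (b 4 4)<|a (b 5 3)<|a (b 5 4)<|a (b 4 1)<|c)<|a (a (b 0 1)<|a (b 5 0)<|a (b 0 4)<|a (b 3 0)<|a (b 3 4)<|a (b 4 4)<|a (b 5 3)<|a (b 4 3)<|c)<|a (a (b 5 0)<|a (b 2 0)<|a (b 3 0)<|a (b 3 4)<|a (b 4 0)<|a (b 5 3)<|a (b 5 4)<|a (b 0 2)<|c)<|a (a (b 0 1)<|a (b 5 0)<|a (b 0 3)<|a (b 4 0)<|a (b 4 4)<|a (b 5 3)<|a (b 5 4)<|a (b 5 1)<|c)<|a (a (b 0 0)<|a (b 0 1)<|a (b 5 0)<|a (b 2 0)<|a (b 0 4)<|a (b 4 0)<|a (b 5 3)<|a (b 5 2)<|c)<|c))<|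
 a (b 4<|b (d 24) (a (a (b 0 0)<|a (b 0 1)<|a (b 5 0)<|a (b 2 0)<|a (b 6 0)<|a (b 3 0)<|a (b 4 4)<|a (b 5 4)<|c)<|c))<|
 a (b 21<|b (d 24) (a (a (b 2 0)<|a (b 0 3)<|a (b 0 4)<|a (b 3 4)<|a (b 4 0)<|a (b 4 4)<|a (b 5 3)<|a (b 7 0)<|c)<|c))<|c))
  fib := [f7_0]
  n := 60

def f8_0 : Fib where
  b := 0
  e := []

def r8 : Rec where
  p := 6
  c := 271787644222412330678682982691407336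
  a := 714515385312673756738326051507781042
  b := 920682095242505201370029450842026400
  t := [978975687484598267695364582474554862, 271793938064107129041721664064306216, 984818244535754528103549039458486304, 984818244535754528103549039458486304]
  wd := (beta% delta% lq265cdff330 fun a b c _ _ =>
 (a (b 0 0)<|a (b 1 0)<|a (b 1 5)<|a (b 3 0)<|a (b 5 0)<|a (b 0 5)<|a (b 4 0)<|a (b 1 2)<|a (b 0 1)<|a (b 3 1)<|a (b 7 0)<|a (b 3 2)<|a (b 0 4)<|a (b 5 1)<|a (b 0 2)<|a (b 1 1)<|a (b 6 0)<|a (b 2 0)<|a (b 2 1)<|a (b 1 3)<|a (b 1 4)<|a (b 0 3)<|a (b 2 2)<|a (b 4 1)<|c))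
  sts := (beta% delta% lq265cdff330 fun a b c d _ =>
 (a (b 0<|b (a 0<|c) c)<|
 a (b 1<|b (d 24) (a (a (b 1 0)<|a (b 1 5)<|a (b 0 5)<|a (b 1 2)<|a (b 0 1)<|a (b 0 4)<|a (b 0 2)<|a (b 1 3)<|c)<|a (a (b 0 0)<|a (b 1 5)<|a (b 1 2)<|a (b 0 1)<|a (b 0 4)<|a (b 1 1)<|a (b 1 4)<|a (b 0 3)<|c)<|c))<|
 a (b 17<|b (d 24) (a (a (b 1 0)<|a (b 1 5)<|a (b 0 5)<|a (b 0 1)<|a (b 1 1)<|a (b 2 0)<|a (b 2 1)<|a (b 1 4)<|c)<|a (a (b 0 0)<|a (b 1 0)<|a (b 1 5)<|a (b 1 2)<|a (b 0 2)<|a (b 1 1)<|a (b 2 1)<|a (b 2 2)<|c)<|c))<|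
 a (b 3<|b (d 24) (a (a (b 0 0)<|a (b 1 5)<|a (b 0 5)<|a (b 0 1)<|a (b 3 1)<|a (b 3 2)<|a (b 0 2)<|a (b 1 1)<|c)<|a (a (b 3 0)<|a (b 0 5)<|a (b 0 1)<|a (b 3 2)<|a (b 0 4)<|a (b 0 2)<|a (b 2 0)<|a (b 2 1)<|c)<|c))<|
 a (b 6<|b (d 24) (a (a (b 0 0)<|a (b 1 5)<|a (b 4 0)<|a (b 1 2)<|a (b 3 2)<|a (b 0 4)<|a (b 0 2)<|a (b 2 0)<|c)<|a (a (b 1 0)<|a (b 3 0)<|a (b 0 5)<|a (b 4 0)<|a (b 1 2)<|a (b 3 2)<|a (b 0 4)<|a (b 4 1)<|c)<|c))<|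
 a (b 4<|b (d 24) (a (a (b 1 0)<|a (b 1 5)<|a (b 3 0)<|a (b 5 0)<|a (b 0 5)<|a (b 0 1)<|a (b 3 2)<|a (b 5 1)<|c)<|a (a (b 1 5)<|a (b 3 0)<|a (b 5 0)<|a (b 0 5)<|a (b 4 0)<|a (b 3 1)<|a (b 0 4)<|a (b 0 2)<|c)<|c))<|
 a (b 16<|b (d 24) (a (a (b 1 5)<|a (b 3 0)<|a (b 1 2)<|a (b 0 1)<|a (b 3 1)<|a (b 3 2)<|a (b 0 4)<|a (b 6 0)<|c)<|c))<|
 a (b 10<|b (d 24) (a (a (b 0 0)<|a (b 1 0)<|a (b 1 5)<|a (b 3 0)<|a (b 5 0)<|a (b 1 2)<|a (b 7 0)<|a (b 0 4)<|c)<|c))<|c))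
  fib := [f8_0]
  n := 24

def r9 : Rec where
  p := 6
  c := 441366995423741609312549231512542638
  a := 509237509362114758229455494980142263
  b := 85321925473636664002689322410713376
  t := [707828527147053429565191113023867599, 844385991642047318116928167390856391, 984818244535754528103549039458486304, 984818244535754528103549039458486304]
  wd := (beta% delta% lq265cdff330 fun a b c _ _ =>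
 (a (b 0 0)<|a (b 3 0)<|a (b 3 3)<|a (b 1 0)<|a (b 3 2)<|a (b 0 3)<|a (b 2 0)<|a (b 1 2)<|a (b 1 1)<|a (b 1 4)<|a (b 3 5)<|a (b 2 5)<|a (b 0 4)<|a (b 3 1)<|a (b 0 1)<|a (b 1 3)<|a (b 1 5)<|a (b 2 3)<|a (b 2 4)<|a (b 0 2)<|a (b 2 2)<|a (b 0 5)<|a (b 2 1)<|a (b 3 4)<|c))
  sts := (beta% delta% lq265cdff330 fun a b c d _ =>
 (a (b 0<|b (d 24) c)<|
 a (b 3<|b (d 24) (a (a (b 0 0)<|a (b 1 0)<|a (b 0 3)<|a (b 1 2)<|a (b 0 4)<|a (b 0 1)<|a (b 1 3)<|a (b 1 5)<|c)<|a (a (b 1 0)<|a (b 1 1)<|a (b 1 4)<|a (b 0 4)<|a (b 0 1)<|a (b 1 3)<|a (b 0 2)<|a (b 0 5)<|c)<|c))<|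
 a (b 6<|b (d 24) (a (a (b 0 3)<|a (b 2 0)<|a (b 1 2)<|a (b 1 1)<|a (b 1 4)<|a (b 0 4)<|a (b 1 3)<|a (b 2 3)<|c)<|a (a (b 1 0)<|a (b 2 0)<|a (b 1 2)<|a (b 1 4)<|a (b 2 5)<|a (b 0 1)<|a (b 1 3)<|a (b 2 4)<|c)<|a (a (b 1 0)<|a (b 0 3)<|a (b 1 2)<|a (b 1 1)<|a (b 2 5)<|a (b 1 3)<|a (b 0 2)<|a (b 2 2)<|c)<|a (a (b 2 0)<|a (b 1 1)<|a (b 1 4)<|a (b 2 5)<|a (b 1 3)<|a (b 1 5)<|a (b 0 2)<|a (b 2 1)<|c)<|c))<|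
 a (b 1<|b (d 24) (a (a (b 0 0)<|a (b 3 0)<|a (b 3 3)<|a (b 1 0)<|a (b 3 2)<|a (b 1 2)<|a (b 3 5)<|a (b 0 4)<|c)<|a (a (b 3 0)<|a (b 3 3)<|a (b 1 0)<|a (b 3 2)<|a (b 0 3)<|a (b 1 1)<|a (b 2 5)<|a (b 3 1)<|c)<|a (a (b 0 0)<|a (b 3 0)<|a (b 0 3)<|a (b 2 0)<|a (b 1 2)<|a (b 1 4)<|a (b 3 5)<|a (b 0 1)<|c)<|a (a (b 3 0)<|a (b 3 3)<|a (b 2 0)<|a (b 1 2)<|a (b 1 1)<|a (b 3 5)<|a (b 2 5)<|a (b 1 3)<|c)<|a (a (b 3 0)<|a (b 1 0)<|a (b 3 2)<|a (b 2 0)<|a (b 1 2)<|a (b 1 1)<|a (b 1 4)<|a (b 0 2)<|c)<|a (a (b 0 0)<|a (b 3 3)<|a (b 3 2)<|a (b 0 3)<|a (b 2 0)<|a (b 3 5)<|a (b 2 5)<|a (b 3 4)<|c)<|c))<|c))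
  fib := []
  n := 24

def r10 : Rec where
  p := 7
  c := 352520454927167266887859745207964736
  a := 709381249257452662052380795653794304
  b := 466884124671066950842521637686027744
  t := [303329281815052526621607969465414117, 527856823813478175538958207099868288, 956237791629093035645688885649330230, 48678543479395988511252799195024116]
  wd := (beta% delta% lq265cdff330 fun a b c _ _ =>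
 (a (b 1 0)<|a (b 4 0)<|a (b 4 1)<|a (b 3 0)<|a (b 5 0)<|a (b 2 0)<|a (b 4 5)<|a (b 5 3)<|a (b 3 3)<|a (b 3 6)<|a (b 3 1)<|a (b 4 4)<|a (b 5 1)<|a (b 5 2)<|a (b 4 6)<|a (b 5 6)<|a (b 3 4)<|a (b 5 4)<|a (b 4 3)<|a (b 0 0)<|a (b 3 5)<|a (b 4 2)<|a (b 5 5)<|a (b 3 2)<|c))
  sts := (beta% delta% lq265cdff330 fun a b c d _ =>
 (a (b 19<|b (d 24) c)<|
 a (b 0<|b (d 24) c)<|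
 a (b 5<|b (d 24) c)<|
 a (b 3<|b (d 24) (a (a (b 3 0)<|a (b 3 3)<|a (b 3 6)<|a (b 3 1)<|a (b 3 4)<|a (b 0 0)<|a (b 3 5)<|a (b 3 2)<|c)<|c))<|
 a (b 1<|b (d 24) (a (a (b 4 0)<|a (b 4 1)<|a (b 3 0)<|a (b 3 3)<|a (b 3 6)<|a (b 3 1)<|a (b 4 6)<|a (b 4 3)<|c)<|a (a (b 4 0)<|a (b 3 0)<|a (b 2 0)<|a (b 3 6)<|a (b 4 4)<|a (b 4 6)<|a (b 3 4)<|a (b 0 0)<|c)<|a (a (b 4 1)<|a (b 4 5)<|a (b 3 6)<|a (b 3 1)<|a (b 4 4)<|a (b 4 6)<|a (b 3 4)<|a (b 3 5)<|c)<|a (a (b 3 0)<|a (b 2 0)<|a (b 4 5)<|a (b 3 3)<|a (b 3 6)<|a (b 3 1)<|a (b 4 4)<|a (b 4 2)<|c)<|c))<|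
 a (b 4<|b (d 24) (a (a (b 1 0)<|a (b 4 0)<|a (b 4 1)<|a (b 3 0)<|a (b 5 0)<|a (b 5 3)<|a (b 3 1)<|a (b 5 1)<|c)<|a (a (b 4 0)<|a (b 4 1)<|a (b 3 0)<|a (b 5 0)<|a (b 2 0)<|a (b 3 3)<|a (b 4 4)<|a (b 5 2)<|c)<|a (a (b 1 0)<|a (b 4 0)<|a (b 2 0)<|a (b 4 5)<|a (b 5 3)<|a (b 3 6)<|a (b 3 1)<|a (b 4 6)<|c)<|a (a (b 4 0)<|a (b 4 1)<|a (b 4 5)<|a (b 5 3)<|a (b 3 3)<|a (b 3 1)<|a (b 4 4)<|a (b 5 6)<|c)<|a (a (b 1 0)<|a (b 4 0)<|a (b 5 0)<|a (b 3 3)<|a (b 3 6)<|a (b 3 1)<|a (b 4 4)<|a (b 3 4)<|c)<|a (a (b 1 0)<|a (b 3 0)<|a (b 5 0)<|a (b 2 0)<|a (b 5 3)<|a (b 3 6)<|a (b 4 4)<|a (b 5 4)<|c)<|a (a (b 1 0)<|a (b 4 0)<|a (b 4 1)<|a (b 3 0)<|a (b 4 5)<|a (b 3 6)<|a (b 4 4)<|a (b 5 5)<|c)<|c))<|c))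
  fib := []
  n := 42

def r11 : Rec where
  p := 7
  c := 639394897622536056909024109674466560
  a := 233296461242609331774533678906484871
  b := 186967399071746499731903033298363857
  t := [68380384223414708880136510875377376, 968830635170269449220699549403711939, 710087562216281509967403250585640628, 955546924523204466291697538510949014]
  wd := (beta% delta% lq265cdff330 fun a b c _ _ =>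
 (a (b 1 0)<|a (b 3 0)<|a (b 5 0)<|a (b 5 1)<|a (b 2 0)<|a (b 4 0)<|a (b 4 2)<|a (b 5 5)<|a (b 3 1)<|a (b 5 4)<|a (b 0 0)<|a (b 3 5)<|a (b 4 6)<|a (b 3 4)<|a (b 5 6)<|a (b 4 4)<|a (b 4 1)<|a (b 3 6)<|a (b 3 3)<|a (b 5 2)<|a (b 5 3)<|a (b 3 2)<|a (b 4 5)<|a (b 4 3)<|c))
  sts := (beta% delta% lq265cdff330 fun a b c d _ =>
 (a (b 10<|b (d 24) c)<|
 a (b 0<|b (d 24) c)<|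
 a (b 4<|b (d 24) c)<|
 a (b 1<|b (d 24) (a (a (b 3 0)<|a (b 3 1)<|a (b 0 0)<|a (b 3 5)<|a (b 3 4)<|a (b 3 6)<|a (b 3 3)<|a (b 3 2)<|c)<|c))<|
 a (b 5<|b (d 24) (a (a (b 3 0)<|a (b 2 0)<|a (b 4 2)<|a (b 3 1)<|a (b 3 4)<|a (b 4 4)<|a (b 4 1)<|a (b 3 6)<|c)<|a (a (b 3 0)<|a (b 2 0)<|a (b 4 0)<|a (b 4 2)<|a (b 3 1)<|a (b 0 0)<|a (b 4 6)<|a (b 3 3)<|c)<|a (a (b 3 0)<|a (b 4 0)<|a (b 4 2)<|a (b 0 0)<|a (b 3 5)<|a (b 3 4)<|a (b 4 1)<|a (b 4 5)<|c)<|a (a (b 3 0)<|a (b 2 0)<|a (b 0 0)<|a (b 3 5)<|a (b 4 6)<|a (b 3 4)<|a (b 4 4)<|a (b 4 3)<|c)<|c))<|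
 a (b 2<|b (d 24) (a (a (b 1 0)<|a (b 3 0)<|a (b 5 0)<|a (b 5 1)<|a (b 2 0)<|a (b 5 5)<|a (b 0 0)<|a (b 4 6)<|c)<|a (a (b 3 0)<|a (b 5 0)<|a (b 5 1)<|a (b 2 0)<|a (b 4 0)<|a (b 3 1)<|a (b 3 5)<|a (b 3 4)<|c)<|a (a (b 1 0)<|a (b 3 0)<|a (b 4 0)<|a (b 4 2)<|a (b 5 5)<|a (b 5 4)<|a (b 0 0)<|a (b 5 6)<|c)<|a (a (b 3 0)<|a (b 5 0)<|a (b 4 2)<|a (b 5 5)<|a (b 3 1)<|a (b 0 0)<|a (b 3 5)<|a (b 4 4)<|c)<|a (a (b 1 0)<|a (b 3 0)<|a (b 2 0)<|a (b 3 1)<|a (b 5 4)<|a (b 0 0)<|a (b 3 5)<|a (b 4 1)<|c)<|a (a (b 3 0)<|a (b 5 1)<|a (b 2 0)<|a (b 4 2)<|a (b 5 5)<|a (b 3 1)<|a (b 5 4)<|a (b 5 2)<|c)<|a (a (b 5 0)<|a (b 2 0)<|a (b 4 0)<|a (b 5 5)<|a (b 3 1)<|a (b 5 4)<|a (b 0 0)<|a (b 5 3)<|c)<|c))<|c))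
  fib := []
  n := 42

def r12 : Rec where
  p := 8
  c := 351844052827762829049910944796316010
  a := 925635426791343710264338254026707365
  b := 684492110646439305711357046244563127
  t := [332492695452263575585375045331289174, 980150876343599078291985322429437037, 984818244535754528103549039458486304, 984818244535754528103549039458486304]
  wd := (beta% delta% lq265cdff330 fun a b c _ _ =>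
 (a (b 2 0)<|a (b 3 0)<|a (b 3 3)<|a (b 3 2)<|a (b 3 4)<|a (b 4 0)<|a (b 2 5)<|a (b 4 2)<|a (b 5 0)<|a (b 2 6)<|a (b 2 1)<|a (b 3 1)<|a (b 4 1)<|a (b 2 2)<|a (b 3 6)<|a (b 2 4)<|a (b 4 3)<|a (b 3 5)<|a (b 0 0)<|a (b 2 7)<|a (b 1 0)<|a (b 3 7)<|a (b 2 3)<|a (b 5 1)<|c))
  sts := (beta% delta% lq265cdff330 fun a b c d _ =>
 (a (b 18<|b (d 24) c)<|
 a (b 20<|b (d 24) c)<|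
 a (b 0<|b (d 24) c)<|
 a (b 1<|b (d 24) (a (a (b 2 0)<|a (b 3 0)<|a (b 3 2)<|a (b 3 4)<|a (b 2 6)<|a (b 2 2)<|a (b 3 6)<|a (b 2 4)<|c)<|a (a (b 3 0)<|a (b 3 2)<|a (b 3 4)<|a (b 2 5)<|a (b 2 1)<|a (b 3 1)<|a (b 3 6)<|a (b 3 5)<|c)<|a (a (b 2 0)<|a (b 3 0)<|a (b 3 3)<|a (b 2 1)<|a (b 3 1)<|a (b 2 2)<|a (b 3 6)<|a (b 2 7)<|c)<|a (a (b 2 0)<|a (b 3 2)<|a (b 3 4)<|a (b 2 5)<|a (b 2 6)<|a (b 2 1)<|a (b 0 0)<|a (b 1 0)<|c)<|a (a (b 3 0)<|a (b 3 3)<|a (b 3 4)<|a (b 2 5)<|a (b 2 6)<|a (b 2 1)<|a (b 2 2)<|a (b 3 7)<|c)<|a (a (b 2 0)<|a (b 3 0)<|a (b 3 3)<|a (b 3 2)<|a (b 2 5)<|a (b 2 6)<|a (b 3 1)<|a (b 2 3)<|c)<|c))<|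
 a (b 5<|b (d 24) (a (a (b 2 0)<|a (b 3 0)<|a (b 3 3)<|a (b 3 2)<|a (b 3 4)<|a (b 4 2)<|a (b 2 1)<|a (b 4 1)<|c)<|a (a (b 2 0)<|a (b 3 0)<|a (b 4 0)<|a (b 2 5)<|a (b 4 2)<|a (b 2 6)<|a (b 2 1)<|a (b 3 6)<|c)<|a (a (b 2 0)<|a (b 3 3)<|a (b 3 2)<|a (b 4 0)<|a (b 2 6)<|a (b 2 1)<|a (b 2 2)<|a (b 4 3)<|c)<|a (a (b 2 0)<|a (b 3 0)<|a (b 3 4)<|a (b 2 5)<|a (b 4 2)<|a (b 3 1)<|a (b 2 2)<|a (b 0 0)<|c)<|c))<|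
 a (b 8<|b (d 24) (a (a (b 3 0)<|a (b 3 3)<|a (b 3 2)<|a (b 3 4)<|a (b 4 0)<|a (b 5 0)<|a (b 3 1)<|a (b 2 2)<|c)<|a (a (b 2 0)<|a (b 3 3)<|a (b 3 4)<|a (b 4 0)<|a (b 2 5)<|a (b 2 1)<|a (b 3 1)<|a (b 5 1)<|c)<|c))<|c))
  fib := []
  n := 16

def r13 : Rec where
  p := 10
  c := 59958983596740834366188217924985573
  a := 670579770265700861101774157527831658
  b := 885823504351566254638107071176259883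
  t := [15962506600968255852156458894605495, 218856910157072230930483217781274625, 984818244535754528103549039458486304, 984818244535754528103549039458486304]
  wd := (beta% delta% lq265cdff330 fun a b c _ _ =>
 (a (b 3 0)<|a (b 2 0)<|a (b 0 0)<|a (b 0 5)<|a (b 0 6)<|a (b 3 1)<|a (b 0 9)<|a (b 1 0)<|a (b 0 1)<|a (b 1 7)<|a (b 0 7)<|a (b 1 2)<|a (b 0 2)<|a (b 0 3)<|a (b 1 4)<|a (b 1 5)<|a (b 1 1)<|a (b 1 9)<|a (b 1 8)<|a (b 1 6)<|a (b 0 4)<|a (b 0 8)<|a (b 1 3)<|a (b 2 1)<|c))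
  sts := (beta% delta% lq265cdff330 fun a b c d _ =>
 (a (b 2<|b (d 24) c)<|
 a (b 7<|b (d 24) (a (a (b 0 0)<|a (b 1 0)<|a (b 1 7)<|a (b 0 7)<|a (b 0 2)<|a (b 0 3)<|a (b 1 4)<|a (b 1 5)<|c)<|a (a (b 0 0)<|a (b 0 5)<|a (b 1 0)<|a (b 0 1)<|a (b 1 7)<|a (b 1 2)<|a (b 0 2)<|a (b 1 1)<|c)<|a (a (b 0 5)<|a (b 0 6)<|a (b 0 1)<|a (b 1 7)<|a (b 0 7)<|a (b 0 2)<|a (b 0 3)<|a (b 1 9)<|c)<|a (a (b 0 0)<|a (b 0 5)<|a (b 0 9)<|a (b 0 7)<|a (b 1 2)<|a (b 0 2)<|a (b 0 3)<|a (b 1 8)<|c)<|a (a (b 0 5)<|a (b 0 6)<|a (b 1 0)<|a (b 1 2)<|a (b 0 2)<|a (b 0 3)<|a (b 1 4)<|a (b 1 6)<|c)<|a (a (b 0 5)<|a (b 0 9)<|a (b 1 0)<|a (b 0 1)<|a (b 0 7)<|a (b 0 2)<|a (b 1 4)<|a (b 0 4)<|c)<|a (a (b 0 0)<|a (b 0 6)<|a (b 0 1)<|a (b 0 7)<|a (b 1 2)<|a (b 0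 2)<|a (b 1 4)<|a (b 0 8)<|c)<|a (a (b 0 6)<|a (b 0 9)<|a (b 1 0)<|a (b 1 7)<|a (b 0 7)<|a (b 1 2)<|a (b 0 2)<|a (b 1 3)<|c)<|c))<|
 a (b 1<|b (d 24) (a (a (b 2 0)<|a (b 0 9)<|a (b 0 1)<|a (b 1 7)<|a (b 1 2)<|a (b 0 2)<|a (b 0 3)<|a (b 1 4)<|c)<|a (a (b 0 0)<|a (b 0 6)<|a (b 0 9)<|a (b 1 0)<|a (b 0 1)<|a (b 0 2)<|a (b 0 3)<|a (b 2 1)<|c)<|c))<|
 a (b 0<|b (d 24) (a (a (b 3 0)<|a (b 2 0)<|a (b 0 0)<|a (b 0 5)<|a (b 0 6)<|a (b 1 0)<|a (b 0 7)<|a (b 0 2)<|c)<|a (a (b 2 0)<|a (b 0 0)<|a (b 0 5)<|a (b 0 6)<|a (b 3 1)<|a (b 0 1)<|a (b 1 2)<|a (b 0 3)<|c)<|c))<|c))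
  fib := []
  n := 20

def r14 : Rec where
  p := 11
  c := 20384579791191895985424879750235369
  a := 262440742446300154904084778887712265
  b := 584770435939403734417507007290854049
  t := [750986906162945175395263809584650535, 297344181688718718006828887772386305, 984818244535754528103549039458486304, 984818244535754528103549039458486304]
  wd := (beta% delta% lq265cdff330 fun a b c _ _ =>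
 (a (b 2 0)<|a (b 3 0)<|a (b 2 7)<|a (b 2 3)<|a (b 3 3)<|a (b 2 6)<|a (b 1 0)<|a (b 3 1)<|a (b 2 4)<|a (b 2 1)<|a (b 3 7)<|a (b 2 5)<|a (b 2 2)<|a (b 2 9)<|a (b 3 10)<|a (b 3 6)<|a (b 3 9)<|a (b 2 8)<|a (b 3 2)<|a (b 0 0)<|a (b 3 8)<|a (b 3 4)<|a (b 3 5)<|a (b 2 10)<|c))
  sts := (beta% delta% lq265cdff330 fun a b c d _ =>
 (a (b 19<|b (d 24) c)<|
 a (b 6<|b (d 24) c)<|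
 a (b 0<|b (d 24) (a (a (b 2 0)<|a (b 2 7)<|a (b 2 3)<|a (b 2 6)<|a (b 1 0)<|a (b 2 4)<|a (b 2 1)<|a (b 2 5)<|a (b 2 2)<|a (b 2 9)<|a (b 2 8)<|a (b 2 10)<|c)<|c))<|
 a (b 1<|b (d 24) (a (a (b 2 0)<|a (b 3 0)<|a (b 2 7)<|a (b 2 3)<|a (b 3 3)<|a (b 3 1)<|a (b 3 7)<|a (b 2 2)<|c)<|a (a (b 3 0)<|a (b 2 7)<|a (b 2 3)<|a (b 3 3)<|a (b 2 6)<|a (b 2 4)<|a (b 2 5)<|a (b 2 9)<|c)<|a (a (b 2 0)<|a (b 3 0)<|a (b 2 6)<|a (b 1 0)<|a (b 3 1)<|a (b 2 1)<|a (b 3 7)<|a (b 3 10)<|c)<|a (a (b 3 0)<|a (b 2 7)<|a (b 1 0)<|a (b 3 1)<|a (b 2 4)<|a (b 3 7)<|a (b 2 5)<|a (b 3 6)<|c)<|a (a (b 2 0)<|a (b 3 0)<|a (b 3 3)<|a (b 2 4)<|a (b 2 1)<|a (b 3 7)<|a (b 2 5)<|a (b 3 9)<|c)<|a (a (b 2 0)<|a (b 2 3)<|a (b 3 3)<|a (b 2 6)<|a (b 3 1)<|a (b 2 1)<|a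 (b 2 5)<|a (b 2 8)<|c)<|a (a (b 2 0)<|a (b 2 7)<|a (b 2 3)<|a (b 2 6)<|a (b 1 0)<|a (b 3 1)<|a (b 2 4)<|a (b 3 2)<|c)<|a (a (b 3 0)<|a (b 2 3)<|a (b 3 3)<|a (b 1 0)<|a (b 3 1)<|a (b 2 4)<|a (b 2 1)<|a (b 0 0)<|c)<|a (a (b 2 7)<|a (b 3 3)<|a (b 2 6)<|a (b 3 1)<|a (b 2 4)<|a (b 2 1)<|a (b 3 7)<|a (b 3 8)<|c)<|a (a (b 2 3)<|a (b 2 6)<|a (b 1 0)<|a (b 2 4)<|a (b 2 1)<|a (b 3 7)<|a (b 2 5)<|a (b 3 4)<|c)<|a (a (b 2 0)<|a (b 3 0)<|a (b 2 7)<|a (b 2 3)<|a (b 1 0)<|a (b 2 1)<|a (b 2 5)<|a (b 3 5)<|c)<|c))<|c))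
  fib := []
  n := 11

def r15 : Rec where
  p := 12
  c := 145797950094761687161608633680418285
  a := 271754756597633162810915701078231145
  b := 837668848924628637798323165962159789
  t := [333793457163354454162440027823508160, 138259206308305717546381475188544069, 984818244535754528103549039458486304, 984818244535754528103549039458486304]
  wd := (beta% delta% lq265cdff330 fun a b c _ _ =>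
 (a (b 1 0)<|a (b 0 0)<|a (b 0 9)<|a (b 2 0)<|a (b 0 8)<|a (b 1 5)<|a (b 0 4)<|a (b 2 2)<|a (b 2 1)<|a (b 3 0)<|a (b 0 11)<|a (b 0 2)<|a (b 1 2)<|a (b 1 1)<|a (b 1 3)<|a (b 0 1)<|a (b 0 7)<|a (b 1 4)<|a (b 0 5)<|a (b 3 1)<|a (b 0 3)<|a (b 0 10)<|a (b 0 6)<|a (b 2 3)<|c))
  sts := (beta% delta% lq265cdff330 fun a b c d _ =>
 (a (b 1<|b (d 24) (a (a (b 0 8)<|a (b 0 4)<|a (b 0 11)<|a (b 0 2)<|a (b 0 1)<|a (b 0 7)<|a (b 0 5)<|a (b 0 10)<|c)<|a (a (b 0 0)<|a (b 0 9)<|a (b 0 8)<|a (b 0 11)<|a (b 0 2)<|a (b 0 5)<|a (b 0 3)<|a (b 0 6)<|c)<|c))<|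
 a (b 0<|b (d 24) (a (a (b 1 0)<|a (b 0 0)<|a (b 0 9)<|a (b 1 5)<|a (b 0 4)<|a (b 1 2)<|a (b 1 1)<|a (b 0 1)<|c)<|a (a (b 1 0)<|a (b 0 8)<|a (b 0 4)<|a (b 0 11)<|a (b 1 2)<|a (b 1 1)<|a (b 1 3)<|a (b 0 7)<|c)<|a (a (b 0 0)<|a (b 0 9)<|a (b 0 8)<|a (b 1 2)<|a (b 1 1)<|a (b 1 3)<|a (b 1 4)<|a (b 0 5)<|c)<|a (a (b 1 0)<|a (b 0 0)<|a (b 0 8)<|a (b 1 5)<|a (b 0 11)<|a (b 1 1)<|a (b 1 4)<|a (b 0 3)<|c)<|c))<|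
 a (b 3<|b (d 24) (a (a (b 1 0)<|a (b 0 0)<|a (b 0 9)<|a (b 2 0)<|a (b 0 8)<|a (b 2 2)<|a (b 0 11)<|a (b 1 2)<|c)<|a (a (b 0 0)<|a (b 0 9)<|a (b 2 0)<|a (b 0 8)<|a (b 1 5)<|a (b 2 1)<|a (b 0 2)<|a (b 1 1)<|c)<|a (a (b 0 0)<|a (b 2 0)<|a (b 0 8)<|a (b 0 4)<|a (b 0 11)<|a (b 0 2)<|a (b 1 3)<|a (b 1 4)<|c)<|a (a (b 1 0)<|a (b 0 9)<|a (b 0 8)<|a (b 1 5)<|a (b 0 4)<|a (b 0 11)<|a (b 0 2)<|a (b 2 3)<|c)<|c))<|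
 a (b 9<|b (d 24) (a (a (b 1 0)<|a (b 0 0)<|a (b 1 5)<|a (b 0 4)<|a (b 2 2)<|a (b 3 0)<|a (b 0 11)<|a (b 1 3)<|c)<|a (a (b 0 0)<|a (b 2 0)<|a (b 0 8)<|a (b 0 4)<|a (b 2 2)<|a (b 2 1)<|a (b 3 0)<|a (b 3 1)<|c)<|c))<|c))
  fib := []
  n := 12

def r16 : Rec where
  p := 12
  c := 54061143792467787905420018783885681
  a := 20854333537750847301286007685142869
  b := 608165110088430284819294540194842656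
  t := [309073592094066467684255788573576336, 182072934483469168970506660205827661, 984818244535754528103549039458486304, 984818244535754528103549039458486304]
  wd := (beta% delta% lq265cdff330 fun a b c _ _ =>
 (a (b 0 0)<|a (b 0 5)<|a (b 1 0)<|a (b 0 11)<|a (b 1 10)<|a (b 0 2)<|a (b 1 1)<|a (b 1 11)<|a (b 0 10)<|a (b 1 7)<|a (b 0 7)<|a (b 0 6)<|a (b 0 8)<|a (b 1 2)<|a (b 0 9)<|a (b 1 8)<|a (b 1 3)<|a (b 0 1)<|a (b 1 9)<|a (b 0 3)<|a (b 1 5)<|a (b 1 4)<|a (b 1 6)<|a (b 0 4)<|c))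
  sts := (beta% delta% lq265cdff330 fun a b c d _ =>
 (a (b 0<|b (d 24) c)<|
 a (b 2<|b (d 24) (a (a (b 0 0)<|a (b 0 5)<|a (b 1 0)<|a (b 0 11)<|a (b 1 10)<|a (b 1 11)<|a (b 0 7)<|a (b 0 8)<|c)<|a (a (b 0 5)<|a (b 1 0)<|a (b 0 11)<|a (b 1 10)<|a (b 0 2)<|a (b 0 10)<|a (b 0 6)<|a (b 1 2)<|c)<|a (a (b 0 0)<|a (b 0 5)<|a (b 0 2)<|a (b 1 1)<|a (b 1 11)<|a (b 1 7)<|a (b 0 7)<|a (b 0 9)<|c)<|a (a (b 0 5)<|a (b 1 0)<|a (b 1 1)<|a (b 1 11)<|a (b 0 10)<|a (b 0 7)<|a (b 0 6)<|a (b 1 8)<|c)<|a (a (b 0 0)<|a (b 0 5)<|a (b 1 10)<|a (b 0 10)<|a (b 1 7)<|a (b 0 7)<|a (b 0 6)<|a (b 1 3)<|c)<|a (a (b 0 0)<|a (b 0 11)<|a (b 1 10)<|a (b 0 2)<|a (b 1 11)<|a (b 1 7)<|a (b 0 6)<|a (b 0 1)<|c)<|a (a (b 0 0)<|a (b 1 0)<|a (b 0 11)<|a (b 0 2)<|a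 (b 1 1)<|a (b 1 11)<|a (b 0 10)<|a (b 1 9)<|c)<|a (a (b 0 5)<|a (b 0 11)<|a (b 1 10)<|a (b 1 1)<|a (b 1 11)<|a (b 0 10)<|a (b 1 7)<|a (b 0 3)<|c)<|a (a (b 1 0)<|a (b 1 10)<|a (b 0 2)<|a (b 1 11)<|a (b 0 10)<|a (b 1 7)<|a (b 0 7)<|a (b 1 5)<|c)<|a (a (b 0 11)<|a (b 0 2)<|a (b 1 1)<|a (b 0 10)<|a (b 1 7)<|a (b 0 7)<|a (b 0 6)<|a (b 1 4)<|c)<|a (a (b 0 0)<|a (b 0 5)<|a (b 1 0)<|a (b 0 11)<|a (b 1 1)<|a (b 1 7)<|a (b 0 6)<|a (b 1 6)<|c)<|a (a (b 0 0)<|a (b 1 0)<|a (b 1 10)<|a (b 0 2)<|a (b 1 1)<|a (b 0 7)<|a (b 0 6)<|a (b 0 4)<|c)<|c))<|c))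
  fib := []
  n := 12

def r17 : Rec where
  p := 14
  c := 296418681862333505317491920136189480
  a := 463778431330176364254329482461284392
  b := 305672456959900215608008708490527170
  t := [153670094990692265731148860388771872, 527187491831585709021315029315716171, 984073525450079024230760901273880623, 464936710940400357336323396040113453]
  wd := (beta% delta% lq265cdff330 fun a b c _ _ =>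
 (a (b 1 0)<|a (b 1 4)<|a (b 2 0)<|a (b 2 11)<|a (b 2 7)<|a (b 2 2)<|a (b 2 5)<|a (b 2 4)<|a (b 1 1)<|a (b 2 13)<|a (b 1 6)<|a (b 3 0)<|a (b 0 0)<|a (b 2 1)<|a (b 1 2)<|a (b 1 3)<|a (b 2 9)<|a (b 1 5)<|a (b 2 8)<|a (b 2 10)<|a (b 2 12)<|a (b 3 1)<|a (b 2 6)<|a (b 2 3)<|c))
  sts := (beta% delta% lq265cdff330 fun a b c d _ =>
 (a (b 12<|b (d 24) c)<|
 a (b 0<|b (d 24) (a (a (b 1 0)<|a (b 1 4)<|a (b 1 1)<|a (b 1 6)<|a (b 0 0)<|a (b 1 2)<|a (b 1 3)<|a (b 1 5)<|c)<|c))<|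
 a (b 2<|b (d 24) (a (a (b 1 0)<|a (b 1 4)<|a (b 2 0)<|a (b 2 11)<|a (b 2 7)<|a (b 2 4)<|a (b 1 6)<|a (b 0 0)<|c)<|a (a (b 1 0)<|a (b 1 4)<|a (b 2 2)<|a (b 2 5)<|a (b 2 4)<|a (b 2 13)<|a (b 1 6)<|a (b 1 2)<|c)<|a (a (b 2 11)<|a (b 2 7)<|a (b 2 2)<|a (b 2 5)<|a (b 2 4)<|a (b 1 6)<|a (b 2 1)<|a (b 1 3)<|c)<|a (a (b 1 0)<|a (b 2 0)<|a (b 2 11)<|a (b 2 2)<|a (b 2 13)<|a (b 1 6)<|a (b 2 1)<|a (b 2 9)<|c)<|a (a (b 1 0)<|a (b 2 0)<|a (b 2 11)<|a (b 2 2)<|a (b 2 5)<|a (b 2 4)<|a (b 1 1)<|a (b 2 8)<|c)<|a (a (b 1 4)<|a (b 2 11)<|a (b 2 7)<|a (b 2 5)<|a (b 2 4)<|a (b 1 1)<|a (b 2 13)<|a (b 2 10)<|c)<|a (a (b 2 0)<|a (b 2 7)<|a (b 2 2)<|a (b 2 4)<|a (b 1 1)<|a (b 2 13)<|a (b 1 6)<|a (b 2 12)<|c)<|a (a (b 1 0)<|a (b 2 7)<|a (b 2 2)<|a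 (b 2 5)<|a (b 1 1)<|a (b 2 13)<|a (b 2 1)<|a (b 2 6)<|c)<|a (a (b 1 0)<|a (b 1 4)<|a (b 2 11)<|a (b 2 5)<|a (b 1 1)<|a (b 1 6)<|a (b 2 1)<|a (b 2 3)<|c)<|c))<|
 a (b 11<|b (d 24) (a (a (b 1 4)<|a (b 2 0)<|a (b 2 11)<|a (b 2 7)<|a (b 2 2)<|a (b 1 1)<|a (b 3 0)<|a (b 2 1)<|c)<|a (a (b 2 11)<|a (b 2 2)<|a (b 2 5)<|a (b 1 1)<|a (b 2 13)<|a (b 1 6)<|a (b 3 0)<|a (b 3 1)<|c)<|c))<|c))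
  fib := []
  n := 14

def r18 : Rec where
  p := 14
  c := 692782671643430358498584137066202775
  a := 840322156277576876012564145245717576
  b := 191750195660573457457329988681739587
  t := [983541033092477334639642879912365152, 320178892432022230502278592370676180, 734316369919347688730088774896529611, 235846830393027639217044234336227858]
  wd := (beta% delta% lq265cdff330 fun a b c _ _ =>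
 (a (b 2 0)<|a (b 2 11)<|a (b 2 5)<|a (b 0 0)<|a (b 2 10)<|a (b 1 0)<|a (b 2 4)<|a (b 1 1)<|a (b 2 3)<|a (b 1 5)<|a (b 1 2)<|a (b 2 8)<|a (b 1 3)<|a (b 2 13)<|a (b 2 7)<|a (b 2 9)<|a (b 2 2)<|a (b 2 6)<|a (b 1 4)<|a (b 1 6)<|a (b 2 12)<|a (b 3 0)<|a (b 3 1)<|a (b 2 1)<|c))
  sts := (beta% delta% lq265cdff330 fun a b c d _ =>
 (a (b 3<|b (d 24) c)<|
 a (b 5<|b (d 24) (a (a (b 0 0)<|a (b 1 0)<|a (b 1 1)<|a (b 1 5)<|a (b 1 2)<|a (b 1 3)<|a (b 1 4)<|a (b 1 6)<|c)<|c))<|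
 a (b 0<|b (d 24) (a (a (b 2 0)<|a (b 2 11)<|a (b 2 5)<|a (b 0 0)<|a (b 2 10)<|a (b 1 1)<|a (b 1 2)<|a (b 1 3)<|c)<|a (a (b 2 11)<|a (b 2 5)<|a (b 0 0)<|a (b 2 10)<|a (b 1 0)<|a (b 2 3)<|a (b 2 8)<|a (b 2 13)<|c)<|a (a (b 2 0)<|a (b 2 11)<|a (b 1 0)<|a (b 2 4)<|a (b 1 1)<|a (b 1 5)<|a (b 1 2)<|a (b 2 7)<|c)<|a (a (b 2 11)<|a (b 2 5)<|a (b 2 4)<|a (b 1 1)<|a (b 2 3)<|a (b 1 2)<|a (b 2 8)<|a (b 2 9)<|c)<|a (a (b 2 0)<|a (b 2 11)<|a (b 2 10)<|a (b 2 3)<|a (b 1 5)<|a (b 1 2)<|a (b 2 8)<|a (b 2 2)<|c)<|a (a (b 2 0)<|a (b 0 0)<|a (b 2 10)<|a (b 1 0)<|a (b 1 1)<|a (b 1 5)<|a (b 2 8)<|a (b 2 6)<|c)<|a (a (b 2 0)<|a (b 2 5)<|a (b 0 0)<|a (b 1 0)<|a (b 2 4)<|a (b 1 1)<|a (b 2 3)<|a (b 1 4)<|c)<|a (a (b 2 5)<|a (b 2 10)<|a (b 1 0)<|a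 (b 1 1)<|a (b 2 3)<|a (b 1 5)<|a (b 1 2)<|a (b 2 12)<|c)<|a (a (b 2 0)<|a (b 2 5)<|a (b 2 10)<|a (b 1 0)<|a (b 2 4)<|a (b 1 2)<|a (b 2 8)<|a (b 2 1)<|c)<|c))<|
 a (b 21<|b (d 24) (a (a (b 0 0)<|a (b 1 0)<|a (b 2 4)<|a (b 2 3)<|a (b 1 5)<|a (b 1 2)<|a (b 2 8)<|a (b 3 0)<|c)<|a (a (b 2 0)<|a (b 2 11)<|a (b 2 5)<|a (b 0 0)<|a (b 2 4)<|a (b 1 5)<|a (b 2 8)<|a (b 3 1)<|c)<|c))<|c))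
  fib := []
  n := 14

def r19 : Rec where
  p := 15
  c := 311800539162905419356353909696843884
  a := 583541760887968903696404674821955923
  b := 348334488617819929225136349300556358
  t := [383703471866345648391691286613441044, 443537530837568313646020075618601600, 894013442423456861128116349602181280, 961330782057598839184037241413533730]
  wd := (beta% delta% lq265cdff330 fun a b c _ _ =>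
 (a (b 1 0)<|a (b 1 11)<|a (b 1 7)<|a (b 1 12)<|a (b 1 10)<|a (b 1 14)<|a (b 2 0)<|a (b 3 0)<|a (b 1 6)<|a (b 0 0)<|a (b 3 1)<|a (b 2 2)<|a (b 1 1)<|a (b 2 3)<|a (b 2 1)<|a (b 1 9)<|a (b 1 4)<|a (b 1 2)<|a (b 1 13)<|a (b 1 5)<|a (b 1 8)<|a (b 2 4)<|a (b 1 3)<|a (b 3 2)<|c))
  sts := (beta% delta% lq265cdff330 fun a b c d _ =>
 (a (b 9<|b (d 24) c)<|
 a (b 0<|b (d 24) (a (a (b 1 0)<|a (b 1 7)<|a (b 1 10)<|a (b 1 14)<|a (b 1 6)<|a (b 1 1)<|a (b 1 4)<|a (b 1 2)<|c)<|a (a (b 1 12)<|a (b 1 10)<|a (b 1 14)<|a (b 1 6)<|a (b 0 0)<|a (b 1 9)<|a (b 1 4)<|a (b 1 13)<|c)<|a (a (b 1 0)<|a (b 1 11)<|a (b 1 7)<|a (b 1 12)<|a (b 1 6)<|a (b 1 9)<|a (b 1 4)<|a (b 1 5)<|c)<|a (a (b 1 0)<|a (b 1 11)<|a (b 1 12)<|a (b 1 14)<|a (b 1 6)<|a (b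 0 0)<|a (b 1 1)<|a (b 1 8)<|c)<|a (a (b 1 11)<|a (b 1 7)<|a (b 1 10)<|a (b 1 6)<|a (b 0 0)<|a (b 1 1)<|a (b 1 9)<|a (b 1 3)<|c)<|c))<|
 a (b 6<|b (d 24) (a (a (b 1 11)<|a (b 1 7)<|a (b 1 12)<|a (b 1 10)<|a (b 1 14)<|a (b 1 6)<|a (b 2 2)<|a (b 2 3)<|c)<|a (a (b 1 7)<|a (b 1 12)<|a (b 1 10)<|a (b 1 14)<|a (b 2 0)<|a (b 0 0)<|a (b 1 1)<|a (b 2 1)<|c)<|a (a (b 1 0)<|a (b 1 12)<|a (b 1 10)<|a (b 2 0)<|a (b 1 6)<|a (b 2 2)<|a (b 1 1)<|a (b 1 9)<|c)<|a (a (b 1 0)<|a (b 1 11)<|a (b 1 12)<|a (b 1 10)<|a (b 1 14)<|a (b 2 0)<|a (b 1 4)<|a (b 2 4)<|c)<|c))<|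
 a (b 7<|b (d 24) (a (a (b 1 0)<|a (b 1 11)<|a (b 1 7)<|a (b 1 12)<|a (b 1 10)<|a (b 3 0)<|a (b 3 1)<|a (b 1 1)<|c)<|a (a (b 1 0)<|a (b 1 11)<|a (b 1 10)<|a (b 1 6)<|a (b 0 0)<|a (b 3 1)<|a (b 2 2)<|a (b 1 4)<|c)<|a (a (b 1 0)<|a (b 1 7)<|a (b 1 10)<|a (b 1 14)<|a (b 2 0)<|a (b 3 1)<|a (b 2 2)<|a (b 3 2)<|c)<|c))<|c))
  fib := []
  n := 15

def r20 : Rec where
  p := 15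
  c := 682877364871969722836355392054863185
  a := 212178338028263872408181108088244914
  b := 811475143099040166422578622670546123
  t := [854446485742843924843503575035617477, 682351328493318360230804514442381344, 307183762473332869755460685079426538, 716116640940482686066117815916738561]
  wd := (beta% delta% lq265cdff330 fun a b c _ _ =>
 (a (b 1 0)<|a (b 1 13)<|a (b 2 0)<|a (b 0 0)<|a (b 1 12)<|a (b 1 3)<|a (b 1 7)<|a (b 2 3)<|a (b 1 11)<|a (b 2 1)<|a (b 1 14)<|a (b 1 2)<|a (b 1 9)<|a (b 3 0)<|a (b 1 5)<|a (b 1 8)<|a (b 3 2)<|a (b 1 1)<|a (b 1 6)<|a (b 1 10)<|a (b 2 2)<|a (b 2 4)<|a (b 1 4)<|a (b 3 1)<|c))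
  sts := (beta% delta% lq265cdff330 fun a b c d _ =>
 (a (b 3<|b (d 24) c)<|
 a (b 0<|b (d 24) (a (a (b 1 0)<|a (b 0 0)<|a (b 1 12)<|a (b 1 7)<|a (b 1 11)<|a (b 1 2)<|a (b 1 9)<|a (b 1 8)<|c)<|a (a (b 1 13)<|a (b 0 0)<|a (b 1 12)<|a (b 1 7)<|a (b 1 14)<|a (b 1 2)<|a (b 1 5)<|a (b 1 1)<|c)<|a (a (b 1 13)<|a (b 1 12)<|a (b 1 3)<|a (b 1 7)<|a (b 1 11)<|a (b 1 14)<|a (b 1 9)<|a (b 1 6)<|c)<|a (a (b 1 0)<|a (b 0 0)<|a (b 1 12)<|a (b 1 3)<|a (b 1 11)<|a (b 1 14)<|a (b 1 5)<|a (b 1 10)<|c)<|a (a (b 1 0)<|a (b 1 13)<|a (b 1 12)<|a (b 1 3)<|a (b 1 2)<|a (b 1 9)<|a (b 1 5)<|a (b 1 4)<|c)<|c))<|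
 a (b 2<|b (d 24) (a (a (b 1 0)<|a (b 1 13)<|a (b 2 0)<|a (b 0 0)<|a (b 1 12)<|a (b 2 3)<|a (b 1 14)<|a (b 1 9)<|c)<|a (a (b 1 0)<|a (b 1 13)<|a (b 1 3)<|a (b 1 7)<|a (b 2 3)<|a (b 2 1)<|a (b 1 14)<|a (b 1 5)<|c)<|a (a (b 2 0)<|a (b 1 12)<|a (b 1 3)<|a (b 2 3)<|a (b 1 11)<|a (b 2 1)<|a (b 1 14)<|a (b 2 2)<|c)<|a (a (b 0 0)<|a (b 1 3)<|a (b 1 7)<|a (b 1 11)<|a (b 2 1)<|a (b 1 14)<|a (b 1 2)<|a (b 2 4)<|c)<|c))<|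
 a (b 13<|b (d 24) (a (a (b 1 13)<|a (b 2 0)<|a (b 0 0)<|a (b 1 12)<|a (b 1 3)<|a (b 1 11)<|a (b 1 2)<|a (b 3 0)<|c)<|a (a (b 1 0)<|a (b 1 13)<|a (b 1 12)<|a (b 1 11)<|a (b 2 1)<|a (b 1 14)<|a (b 1 2)<|a (b 3 2)<|c)<|a (a (b 1 0)<|a (b 2 0)<|a (b 1 12)<|a (b 1 3)<|a (b 1 7)<|a (b 1 14)<|a (b 1 2)<|a (b 3 1)<|c)<|c))<|c))
  fib := []
  n := 15

def r21 : Rec where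
  p := 21
  c := 152660159869748298187992742290470223
  a := 436422604625804141473632881699654701
  b := 112008364550046729086990141290304910
  t := [944207303052495189216999303548016751, 87199546305716872405012105485048882, 57402349206485017715177937827943154, 984796692001594788343095819449810272]
  wd := (beta% delta% lq265cdff330 fun a b c _ _ =>
 (a (b 0 0)<|a (b 1 0)<|a (b 0 17)<|a (b 0 7)<|a (b 0 5)<|a (b 0 15)<|a (b 0 13)<|a (b 0 20)<|a (b 0 4)<|a (b 0 3)<|a (b 1 1)<|a (b 0 12)<|a (b 0 14)<|a (b 0 18)<|a (b 1 2)<|a (b 0 1)<|a (b 0 2)<|a (b 0 16)<|a (b 0 19)<|a (b 0 10)<|a (b 0 11)<|a (b 0 9)<|a (b 0 8)<|a (b 0 6)<|c))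
  sts := (beta% delta% lq265cdff330 fun a b c d _ =>
 (a (b 0<|b (d 24) (a (a (b 0 0)<|a (b 0 7)<|a (b 0 5)<|a (b 0 13)<|a (b 0 4)<|a (b 0 12)<|a (b 0 14)<|a (b 0 1)<|c)<|a (a (b 0 17)<|a (b 0 7)<|a (b 0 20)<|a (b 0 4)<|a (b 0 3)<|a (b 0 12)<|a (b 0 14)<|a (b 0 2)<|c)<|a (a (b 0 0)<|a (b 0 7)<|a (b 0 5)<|a (b 0 15)<|a (b 0 20)<|a (b 0 3)<|a (b 0 12)<|a (b 0 16)<|c)<|a (a (b 0 0)<|a (b 0 17)<|a (b 0 7)<|a (b 0 15)<|a (b 0 13)<|a (b 0 20)<|a (b 0 4)<|a (b 0 19)<|c)<|a (a (b 0 17)<|a (b 0 15)<|a (b 0 13)<|a (b 0 20)<|a (b 0 3)<|a (b 0 12)<|a (b 0 18)<|a (b 0 10)<|c)<|a (a (b 0 0)<|a (b 0 17)<|a (b 0 5)<|a (b 0 3)<|a (b 0 12)<|a (b 0 14)<|a (b 0 18)<|a (b 0 11)<|c)<|a (a (b 0 0)<|a (b 0 7)<|a (b 0 13)<|a (b 0 20)<|a (b 0 3)<|a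 (b 0 14)<|a (b 0 18)<|a (b 0 9)<|c)<|a (a (b 0 0)<|a (b 0 5)<|a (b 0 15)<|a (b 0 13)<|a (b 0 4)<|a (b 0 3)<|a (b 0 18)<|a (b 0 8)<|c)<|a (a (b 0 17)<|a (b 0 5)<|a (b 0 13)<|a (b 0 20)<|a (b 0 4)<|a (b 0 14)<|a (b 0 18)<|a (b 0 6)<|c)<|c))<|
 a (b 1<|b (d 24) (a (a (b 0 0)<|a (b 1 0)<|a (b 0 17)<|a (b 0 7)<|a (b 0 5)<|a (b 0 20)<|a (b 1 1)<|a (b 0 14)<|c)<|a (a (b 1 0)<|a (b 0 17)<|a (b 0 7)<|a (b 0 5)<|a (b 0 15)<|a (b 0 4)<|a (b 0 12)<|a (b 0 18)<|c)<|a (a (b 0 0)<|a (b 1 0)<|a (b 0 15)<|a (b 0 13)<|a (b 0 20)<|a (b 0 3)<|a (b 1 1)<|a (b 1 2)<|c)<|c))<|c))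
  fib := []
  n := 21

def r22 : Rec where
  p := 21
  c := 801752737117678585333135729932738209
  a := 774522344323234925943509561120434435
  b := 487443549229519398876832598309667911
  t := [973110185215742794043001181361510676, 478031323623186745181537996017936689, 506273832920142165805363002687635637, 422342651126977408006835094951084128]
  wd := (beta% delta% lq265cdff330 fun a b c _ _ =>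
 (a (b 0 0)<|a (b 0 1)<|a (b 0 15)<|a (b 0 17)<|a (b 1 0)<|a (b 1 2)<|a (b 0 10)<|a (b 0 16)<|a (b 0 7)<|a (b 0 9)<|a (b 0 20)<|a (b 0 18)<|a (b 0 6)<|a (b 0 12)<|a (b 1 1)<|a (b 0 14)<|a (b 0 11)<|a (b 0 19)<|a (b 0 13)<|a (b 0 5)<|a (b 0 3)<|a (b 0 2)<|a (b 0 8)<|a (b 0 4)<|c))
  sts := (beta% delta% lq265cdff330 fun a b c d _ =>
 (a (b 0<|b (d 24) (a (a (b 0 1)<|a (b 0 15)<|a (b 0 10)<|a (b 0 16)<|a (b 0 7)<|a (b 0 20)<|a (b 0 18)<|a (b 0 14)<|c)<|a (a (b 0 15)<|a (b 0 17)<|a (b 0 16)<|a (b 0 7)<|a (b 0 9)<|a (b 0 18)<|a (b 0 6)<|a (b 0 11)<|c)<|a (a (b 0 0)<|a (b 0 1)<|a (b 0 15)<|a (b 0 16)<|a (b 0 7)<|a (b 0 9)<|a (b 0 12)<|a (b 0 19)<|c)<|a (a (b 0 15)<|a (b 0 17)<|a (b 0 10)<|a (b 0 20)<|a (b 0 18)<|a (b 0 6)<|a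 (b 0 12)<|a (b 0 13)<|c)<|a (a (b 0 0)<|a (b 0 15)<|a (b 0 10)<|a (b 0 7)<|a (b 0 9)<|a (b 0 20)<|a (b 0 6)<|a (b 0 5)<|c)<|a (a (b 0 1)<|a (b 0 17)<|a (b 0 16)<|a (b 0 9)<|a (b 0 20)<|a (b 0 18)<|a (b 0 12)<|a (b 0 3)<|c)<|a (a (b 0 0)<|a (b 0 17)<|a (b 0 10)<|a (b 0 16)<|a (b 0 9)<|a (b 0 6)<|a (b 0 12)<|a (b 0 2)<|c)<|a (a (b 0 0)<|a (b 0 1)<|a (b 0 15)<|a (b 0 17)<|a (b 0 10)<|a (b 0 9)<|a (b 0 18)<|a (b 0 8)<|c)<|a (a (b 0 0)<|a (b 0 1)<|a (b 0 17)<|a (b 0 10)<|a (b 0 7)<|a (b 0 20)<|a (b 0 12)<|a (b 0 4)<|c)<|c))<|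
 a (b 4<|b (d 24) (a (a (b 0 0)<|a (b 0 1)<|a (b 0 15)<|a (b 0 17)<|a (b 1 0)<|a (b 0 16)<|a (b 0 20)<|a (b 0 6)<|c)<|a (a (b 0 1)<|a (b 0 15)<|a (b 0 17)<|a (b 1 0)<|a (b 1 2)<|a (b 0 7)<|a (b 0 18)<|a (b 0 12)<|c)<|a (a (b 0 0)<|a (b 0 1)<|a (b 1 2)<|a (b 0 10)<|a (b 0 16)<|a (b 0 9)<|a (b 0 20)<|a (b 1 1)<|c)<|c))<|c))
  fib := []
  n := 21

def r23 : Rec where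
  p := 23
  c := 798750777926542184211457386217854674
  a := 337544081136435300536051494298401456
  b := 64077218252046864031994176416792138
  t := [732993937996320716380316387855411328, 10689520152972537323627906795190775, 978239198764604640668953934463309856, 731654578487116904385084660338007339]
  wd := (beta% delta% lq265cdff330 fun a b c _ _ =>
 (a (b 1 0)<|a (b 1 5)<|a (b 1 11)<|a (b 1 20)<|a (b 1 15)<|a (b 1 4)<|a (b 1 14)<|a (b 1 7)<|a (b 1 19)<|a (b 1 8)<|a (b 1 13)<|a (b 1 21)<|a (b 1 2)<|a (b 1 3)<|a (b 1 9)<|a (b 0 0)<|a (b 1 10)<|a (b 1 22)<|a (b 1 1)<|a (b 1 18)<|a (b 1 16)<|a (b 1 12)<|a (b 1 6)<|a (b 1 17)<|c))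
  sts := (beta% delta% lq265cdff330 fun a b c d _ =>
 (a (b 15<|b (d 24) c)<|
 a (b 0<|b (d 24) (a (a (b 1 0)<|a (b 1 5)<|a (b 1 11)<|a (b 1 20)<|a (b 1 15)<|a (b 1 7)<|a (b 1 13)<|a (b 1 2)<|c)<|a (a (b 1 5)<|a (b 1 11)<|a (b 1 20)<|a (b 1 15)<|a (b 1 4)<|a (b 1 19)<|a (b 1 21)<|a (b 1 3)<|c)<|a (a (b 1 0)<|a (b 1 5)<|a (b 1 4)<|a (b 1 14)<|a (b 1 7)<|a (b 1 8)<|a (b 1 13)<|a (b 1 9)<|c)<|a (a (b 1 5)<|a (b 1 11)<|a (b 1 14)<|a (b 1 7)<|a (b 1 19)<|a (b 1 13)<|a (b 1 21)<|a (b 0 0)<|c)<|a (a (b 1 0)<|a (b 1 5)<|a (b 1 15)<|a (b 1 19)<|a (b 1 8)<|a (b 1 13)<|a (b 1 21)<|a (b 1 10)<|c)<|a (a (b 1 0)<|a (b 1 20)<|a (b 1 15)<|a (b 1 4)<|a (b 1 7)<|a (b 1 8)<|a (b 1 21)<|a (b 1 22)<|c)<|a (a (b 1 0)<|a (b 1 11)<|a (b 1 20)<|a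 (b 1 4)<|a (b 1 14)<|a (b 1 7)<|a (b 1 19)<|a (b 1 1)<|c)<|a (a (b 1 5)<|a (b 1 20)<|a (b 1 15)<|a (b 1 14)<|a (b 1 7)<|a (b 1 19)<|a (b 1 8)<|a (b 1 18)<|c)<|a (a (b 1 11)<|a (b 1 15)<|a (b 1 4)<|a (b 1 7)<|a (b 1 19)<|a (b 1 8)<|a (b 1 13)<|a (b 1 16)<|c)<|a (a (b 1 20)<|a (b 1 4)<|a (b 1 14)<|a (b 1 19)<|a (b 1 8)<|a (b 1 13)<|a (b 1 21)<|a (b 1 12)<|c)<|a (a (b 1 0)<|a (b 1 5)<|a (b 1 11)<|a (b 1 20)<|a (b 1 14)<|a (b 1 8)<|a (b 1 21)<|a (b 1 6)<|c)<|a (a (b 1 0)<|a (b 1 11)<|a (b 1 15)<|a (b 1 4)<|a (b 1 14)<|a (b 1 13)<|a (b 1 21)<|a (b 1 17)<|c)<|c))<|c))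
  fib := []
  n := 23

def r24 : Rec where
  p := 23
  c := 547179429011475480724681305400648085
  a := 149612786828068320871081488285187493
  b := 506540032298527243934442288671939181
  t := [153375631617961069668421869927893620, 569427840398567209661234307758459392, 969240122908570073025834137968740389, 983554386309413812732440819947258065]
  wd := (beta% delta% lq265cdff330 fun a b c _ _ =>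
 (a (b 1 0)<|a (b 1 6)<|a (b 1 10)<|a (b 1 15)<|a (b 1 18)<|a (b 1 21)<|a (b 1 8)<|a (b 0 0)<|a (b 1 11)<|a (b 1 5)<|a (b 1 12)<|a (b 1 16)<|a (b 1 7)<|a (b 1 4)<|a (b 1 14)<|a (b 1 17)<|a (b 1 9)<|a (b 1 2)<|a (b 1 19)<|a (b 1 13)<|a (b 1 22)<|a (b 1 1)<|a (b 1 20)<|a (b 1 3)<|c))
  sts := (beta% delta% lq265cdff330 fun a b c d _ =>
 (a (b 7<|b (d 24) c)<|
 a (b 0<|b (d 24) (a (a (b 1 0)<|a (b 1 6)<|a (b 1 10)<|a (b 1 15)<|a (b 1 18)<|a (b 0 0)<|a (b 1 12)<|a (b 1 7)<|c)<|a (a (b 1 6)<|a (b 1 10)<|a (b 1 15)<|a (b 1 18)<|a (b 1 21)<|a (b 1 11)<|a (b 1 16)<|a (b 1 4)<|c)<|a (a (b 1 0)<|a (b 1 6)<|a (b 1 21)<|a (b 1 8)<|a (b 0 0)<|a (b 1 5)<|a (b 1 12)<|a (b 1 14)<|c)<|a (a (b 1 6)<|a (b 1 10)<|a (b 1 8)<|a (b 0 0)<|a (b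 1 11)<|a (b 1 12)<|a (b 1 16)<|a (b 1 17)<|c)<|a (a (b 1 0)<|a (b 1 6)<|a (b 1 18)<|a (b 1 11)<|a (b 1 5)<|a (b 1 12)<|a (b 1 16)<|a (b 1 9)<|c)<|a (a (b 1 0)<|a (b 1 15)<|a (b 1 18)<|a (b 1 21)<|a (b 0 0)<|a (b 1 5)<|a (b 1 16)<|a (b 1 2)<|c)<|a (a (b 1 0)<|a (b 1 10)<|a (b 1 15)<|a (b 1 21)<|a (b 1 8)<|a (b 0 0)<|a (b 1 11)<|a (b 1 19)<|c)<|a (a (b 1 6)<|a (b 1 15)<|a (b 1 18)<|a (b 1 8)<|a (b 0 0)<|a (b 1 11)<|a (b 1 5)<|a (b 1 13)<|c)<|a (a (b 1 10)<|a (b 1 18)<|a (b 1 21)<|a (b 0 0)<|a (b 1 11)<|a (b 1 5)<|a (b 1 12)<|a (b 1 22)<|c)<|a (a (b 1 15)<|a (b 1 21)<|a (b 1 8)<|a (b 1 11)<|a (b 1 5)<|a (b 1 12)<|a (b 1 16)<|a (b 1 1)<|c)<|a (a (b 1 0)<|a (b 1 6)<|a (b 1 10)<|a (b 1 15)<|a (b 1 8)<|a (b 1 5)<|a (b 1 16)<|a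 (b 1 20)<|c)<|a (a (b 1 0)<|a (b 1 10)<|a (b 1 18)<|a (b 1 21)<|a (b 1 8)<|a (b 1 12)<|a (b 1 16)<|a (b 1 3)<|c)<|c))<|c))
  fib := []
  n := 23

def D : List Rec := (beta% delta% lq265cdff330 fun a _ c _ _ =>
 (a r0<|a r1<|a r2<|a r3<|a r4<|a r5<|a r6<|a r7<|a r8<|a r9<|a r10<|a r11<|a r12<|a r13<|a r14<|a r15<|a r16<|a r17<|a r18<|a r19<|a r20<|a r21<|a r22<|a r23<|a r24<|c))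

end Cfsg.Agent.H334.Ore.M24Data
end

-- part: H334/Ore/M24Chk
section
/-!
# Checks for the classes of `M24`
-/

set_option autoImplicit false
set_option Elab.async false

namespace Cfsg.Agent.H334.Ore.M24Data

open Cfsg.Agent.H334.Ore.Mat Cfsg.Agent.H729.Trans

/-! ### cutting a check into pieces (memory of the kernel) -/

theorem fibOk_cons_of {F : List ℕ} {p c : ℕ} {L : List ℕ} {f : Fib} {fs : List Fib}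
    (h1 : decide (f.b ∈ cA p c L f.b f.ex) = true) (h2 : exOk F p c L f = true)
    (h3 : fibOk F p c (f.b :: L) fs = true) : fibOk F p c L (f :: fs) = true := by
  rw [fibOk, h1, h2, h3]
  rfl

theorem exOk_split {F : List ℕ} {p c : ℕ} {L : List ℕ} {f : Fib} (k : ℕ)
    (h : exOk F p c L ⟨f.b, f.e.take k⟩ = true) (h' : exOk F p c L ⟨f.b, f.e.drop k⟩ = true) : exOk F p c L f = true := by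
  unfold exOk at *
  rw [← List.take_append_drop k f.e, List.all_append, Bool.and_eq_true]
  exact ⟨h, h'⟩

private noncomputable def _root_.Cfsg.Agent.GolayF.f0 : {f // @Cfsg.Agent.H729.Trans.pre = f} :=
  ⟨_, by delta Cfsg.Agent.H729.Trans.mk Cfsg.Agent.H729.Trans.mk._f Cfsg.Agent.H729.Trans.pre Cfsg.Agent.H729.Trans.srcOk Cfsg.Agent.H729.Trans.srcOk._f Cfsg.Agent.H729.Trans.wdOk; rewrite [Cfsg.Agent.GolayF.isCode_eq, Cfsg.Agent.GolayF.ok_eq, Cfsg.Agent.GolayF.pw_eq]; exact rfl⟩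

theorem cC1_a : (pre r1.p r1.c r1.wd r1.sts && stOk (F ++ pts r1.fib []) r1.sts) = true := by (rewrite [Cfsg.Agent.GolayF.f0.2]; decide +kernel)

private noncomputable def _root_.Cfsg.Agent.GolayF.f1 : {f // @Cfsg.Agent.H334.Ore.Mat.fiber = f} :=
  ⟨_, by delta Cfsg.Agent.H334.Ore.Mat.cA Cfsg.Agent.H334.Ore.Mat.fiber Cfsg.Agent.H334.Ore.Mat.fiber._f; rewrite [Cfsg.Agent.GolayF.pw_eq]; exact rfl⟩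

theorem cC1_b : Nat.ble (fiber r1.p r1.c [] r1.fib * (tl r1.p r1.c r1.c r1.wd r1.sts).length) r1.n = true := by
  (rewrite [Cfsg.Agent.GolayF.f1.2, Cfsg.Agent.GolayF.tl_eq]; decide +kernel)

private noncomputable def _root_.Cfsg.Agent.GolayF.f2 : {f // @Cfsg.Agent.H334.Ore.Mat.cA = f} :=
  ⟨_, by delta Cfsg.Agent.H334.Ore.Mat.cA; rewrite [Cfsg.Agent.GolayF.pw_eq]; exact rfl⟩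

private noncomputable def _root_.Cfsg.Agent.GolayF.f3 : {f // @Cfsg.Agent.H334.Ore.Mat.exOk = f} :=
  ⟨_, by delta Cfsg.Agent.H334.Ore.Mat.exOk Cfsg.Agent.H729.Trans.mk Cfsg.Agent.H729.Trans.mk._f Cfsg.Agent.H729.Trans.pre Cfsg.Agent.H729.Trans.srcOk Cfsg.Agent.H729.Trans.srcOk._f Cfsg.Agent.H729.Trans.wdOk; rewrite [Cfsg.Agent.GolayF.isCode_eq, Cfsg.Agent.GolayF.ok_eq, Cfsg.Agent.GolayF.pw_eq, Cfsg.Agent.GolayF.tl_eq]; exact rfl⟩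

theorem cC1_c0 : (decide (f1_0.b ∈ cA r1.p r1.c [] f1_0.b f1_0.ex) && exOk F r1.p r1.c [] f1_0) = true := by
  (rewrite [Cfsg.Agent.GolayF.f2.2, Cfsg.Agent.GolayF.f3.2]; decide +kernel)

theorem cC1_d1 : decide (f1_1.b ∈ cA r1.p r1.c [f1_0.b] f1_1.b f1_1.ex) = true := by (rewrite [Cfsg.Agent.GolayF.f2.2]; decide +kernel)

theorem cC1_e1 : exOk F r1.p r1.c [f1_0.b] ⟨f1_1.b, f1_1.e.take 1⟩ = true := by (rewrite [Cfsg.Agent.GolayF.f3.2]; decide +kernel)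

theorem cC1_e2 : exOk F r1.p r1.c [f1_0.b] ⟨f1_1.b, f1_1.e.drop 1⟩ = true := by (rewrite [Cfsg.Agent.GolayF.f3.2]; decide +kernel)

private noncomputable def _root_.Cfsg.Agent.GolayF.f4 : {f // @Cfsg.Agent.H334.Ore.Mat.fibOk = f} :=
  ⟨_, by delta Cfsg.Agent.H334.Ore.Mat.cA Cfsg.Agent.H334.Ore.Mat.exOk Cfsg.Agent.H334.Ore.Mat.fibOk Cfsg.Agent.H334.Ore.Mat.fibOk._f Cfsg.Agent.H729.Trans.mk Cfsg.Agent.H729.Trans.mk._f Cfsg.Agent.H729.Trans.pre Cfsg.Agent.H729.Trans.srcOk Cfsg.Agent.H729.Trans.srcOk._f Cfsg.Agent.H729.Trans.wdOk; rewrite [Cfsg.Agent.GolayF.isCode_eq, Cfsg.Agent.GolayF.ok_eq, Cfsg.Agent.GolayF.pw_eq, Cfsg.Agent.GolayF.tl_eq]; exact rfl⟩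

theorem cC1_c2 : fibOk F r1.p r1.c [f1_1.b, f1_0.b] [f1_2, f1_3] = true := by (rewrite [Cfsg.Agent.GolayF.f4.2]; decide +kernel)

private noncomputable def _root_.Cfsg.Agent.GolayF.f5 : {f // @Cfsg.Agent.H334.Ore.Mat.chkC = f} :=
  ⟨_, by delta Cfsg.Agent.H334.Ore.Mat.cA Cfsg.Agent.H334.Ore.Mat.chkC Cfsg.Agent.H334.Ore.Mat.exOk Cfsg.Agent.H334.Ore.Mat.fibOk Cfsg.Agent.H334.Ore.Mat.fibOk._f Cfsg.Agent.H334.Ore.Mat.fiber Cfsg.Agent.H334.Ore.Mat.fiber._f Cfsg.Agent.H729.Trans.mk Cfsg.Agent.H729.Trans.mk._f Cfsg.Agent.H729.Trans.pre Cfsg.Agent.H729.Trans.srcOk Cfsg.Agent.H729.Trans.srcOk._f Cfsg.Agent.H729.Trans.wdOk; rewrite [Cfsg.Agent.GolayF.isCode_eq, Cfsg.Agent.GolayF.ok_eq, Cfsg.Agent.GolayF.pw_eq, Cfsg.Agent.GolayF.tl_eq];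 exact rfl⟩

theorem cC0 : chkC F r0 = true := by (rewrite [Cfsg.Agent.GolayF.f5.2]; decide +kernel)

theorem cC1 : chkC F r1 = true := by
  have ha := cC1_a
  have h0 := cC1_c0
  rw [Bool.and_eq_true] at ha h0
  have hf : fibOk F r1.p r1.c [] [f1_0, f1_1, f1_2, f1_3] = true :=
    fibOk_cons_of h0.1 h0.2 (fibOk_cons_of cC1_d1 (exOk_split 1 cC1_e1 cC1_e2) cC1_c2)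
  unfold chkC
  rw [ha.1, ha.2, cC1_b]
  exact (congrArg (fun b => true && (true && (b && true))) hf : _)

theorem cC2 : chkC F r2 = true := by (rewrite [Cfsg.Agent.GolayF.f5.2]; decide +kernel)

theorem cC3 : chkC F r3 = true := by (rewrite [Cfsg.Agent.GolayF.f5.2]; decide +kernel)

theorem cC4 : chkC F r4 = true := by (rewrite [Cfsg.Agent.GolayF.f5.2]; decide +kernel)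

theorem cC5 : chkC F r5 = true := by (rewrite [Cfsg.Agent.GolayF.f5.2]; decide +kernel)

theorem cC6 : chkC F r6 = true := by (rewrite [Cfsg.Agent.GolayF.f5.2]; decide +kernel)

theorem cC7 : chkC F r7 = true := by (rewrite [Cfsg.Agent.GolayF.f5.2]; decide +kernel)

theorem cC8 : chkC F r8 = true := by (rewrite [Cfsg.Agent.GolayF.f5.2]; decide +kernel)

theorem cC9 : chkC F r9 = true := by (rewrite [Cfsg.Agent.GolayF.f5.2]; decide +kernel)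

theorem cC10 : chkC F r10 = true := by (rewrite [Cfsg.Agent.GolayF.f5.2]; decide +kernel)

theorem cC11 : chkC F r11 = true := by (rewrite [Cfsg.Agent.GolayF.f5.2]; decide +kernel)

theorem cC12 : chkC F r12 = true := by (rewrite [Cfsg.Agent.GolayF.f5.2]; decide +kernel)

theorem cC13 : chkC F r13 = true := by (rewrite [Cfsg.Agent.GolayF.f5.2]; decide +kernel)

theorem cC14 : chkC F r14 = true := by (rewrite [Cfsg.Agent.GolayF.f5.2]; decide +kernel)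

theorem cC15 : chkC F r15 = true := by (rewrite [Cfsg.Agent.GolayF.f5.2]; decide +kernel)

theorem cC16 : chkC F r16 = true := by (rewrite [Cfsg.Agent.GolayF.f5.2]; decide +kernel)

theorem cC17 : chkC F r17 = true := by (rewrite [Cfsg.Agent.GolayF.f5.2]; decide +kernel)

theorem cC18 : chkC F r18 = true := by (rewrite [Cfsg.Agent.GolayF.f5.2]; decide +kernel)

theorem cC19 : chkC F r19 = true := by (rewrite [Cfsg.Agent.GolayF.f5.2]; decide +kernel)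

theorem cC20 : chkC F r20 = true := by (rewrite [Cfsg.Agent.GolayF.f5.2]; decide +kernel)

theorem cC21 : chkC F r21 = true := by (rewrite [Cfsg.Agent.GolayF.f5.2]; decide +kernel)

theorem cC22 : chkC F r22 = true := by (rewrite [Cfsg.Agent.GolayF.f5.2]; decide +kernel)

theorem cC23 : chkC F r23 = true := by (rewrite [Cfsg.Agent.GolayF.f5.2]; decide +kernel)

theorem cC24 : chkC F r24 = true := by (rewrite [Cfsg.Agent.GolayF.f5.2]; decide +kernel)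

private noncomputable def _root_.Cfsg.Agent.GolayF.f6 : {f // @Cfsg.Agent.H334.Ore.Mat.chkA = f} :=
  ⟨_, by delta Cfsg.Agent.H334.Ore.Mat.chkA Cfsg.Agent.H334.Ore.Mat.inG; rewrite [Cfsg.Agent.GolayF.papp_eq, Cfsg.Agent.GolayF.pcomp_eq, Cfsg.Agent.GolayF.ok_eq]; exact rfl⟩

theorem hA : D.all (chkA F) = true := by (rewrite [Cfsg.Agent.GolayF.f6.2]; decide +kernel)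

private noncomputable def _root_.Cfsg.Agent.GolayF.f7 : {f // @Cfsg.Agent.H334.Ore.Mat.chkP = f} :=
  ⟨_, by delta Cfsg.Agent.H334.Ore.Mat.chkP Cfsg.Agent.H334.Ore.Mat.fc Cfsg.Agent.H334.Ore.Mat.inv Cfsg.Agent.H729.Trans.mk Cfsg.Agent.H729.Trans.mk._f Cfsg.Agent.H729.Trans.pre Cfsg.Agent.H729.Trans.srcOk Cfsg.Agent.H729.Trans.srcOk._f Cfsg.Agent.H729.Trans.wdOk; rewrite [Cfsg.Agent.GolayF.isCode_eq, Cfsg.Agent.GolayF.ok_eq, Cfsg.Agent.GolayF.pw_eq, Cfsg.Agent.GolayF.tl_eq]; exact rfl⟩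

theorem pP0 : (D.drop 1).all (chkP F r0) = true := by (rewrite [Cfsg.Agent.GolayF.f7.2]; decide +kernel)

theorem pP1 : (D.drop 2).all (chkP F r1) = true := by (rewrite [Cfsg.Agent.GolayF.f7.2]; decide +kernel)

theorem pP2 : (D.drop 3).all (chkP F r2) = true := by (rewrite [Cfsg.Agent.GolayF.f7.2]; decide +kernel)

theorem pP3 : (D.drop 4).all (chkP F r3) = true := by (rewrite [Cfsg.Agent.GolayF.f7.2]; decide +kernel)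

theorem pP4 : (D.drop 5).all (chkP F r4) = true := by (rewrite [Cfsg.Agent.GolayF.f7.2]; decide +kernel)

theorem pP5 : (D.drop 6).all (chkP F r5) = true := by (rewrite [Cfsg.Agent.GolayF.f7.2]; decide +kernel)

theorem pP6 : (D.drop 7).all (chkP F r6) = true := by (rewrite [Cfsg.Agent.GolayF.f7.2]; decide +kernel)

theorem pP7 : (D.drop 8).all (chkP F r7) = true := by (rewrite [Cfsg.Agent.GolayF.f7.2]; decide +kernel)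

theorem pP8 : (D.drop 9).all (chkP F r8) = true := by (rewrite [Cfsg.Agent.GolayF.f7.2]; decide +kernel)

theorem pP9 : (D.drop 10).all (chkP F r9) = true := by (rewrite [Cfsg.Agent.GolayF.f7.2]; decide +kernel)

theorem pP10 : (D.drop 11).all (chkP F r10) = true := by (rewrite [Cfsg.Agent.GolayF.f7.2]; decide +kernel)

theorem pP11 : (D.drop 12).all (chkP F r11) = true := by (rewrite [Cfsg.Agent.GolayF.f7.2]; decide +kernel)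

theorem pP12 : (D.drop 13).all (chkP F r12) = true := by (rewrite [Cfsg.Agent.GolayF.f7.2]; decide +kernel)

theorem pP13 : (D.drop 14).all (chkP F r13) = true := by (rewrite [Cfsg.Agent.GolayF.f7.2]; decide +kernel)

theorem pP14 : (D.drop 15).all (chkP F r14) = true := by (rewrite [Cfsg.Agent.GolayF.f7.2]; decide +kernel)

theorem pP15 : (D.drop 16).all (chkP F r15) = true := by (rewrite [Cfsg.Agent.GolayF.f7.2]; decide +kernel)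

theorem pP16 : (D.drop 17).all (chkP F r16) = true := by (rewrite [Cfsg.Agent.GolayF.f7.2]; decide +kernel)

theorem pP17 : (D.drop 18).all (chkP F r17) = true := by (rewrite [Cfsg.Agent.GolayF.f7.2]; decide +kernel)

theorem pP18 : (D.drop 19).all (chkP F r18) = true := by (rewrite [Cfsg.Agent.GolayF.f7.2]; decide +kernel)

theorem pP19 : (D.drop 20).all (chkP F r19) = true := by (rewrite [Cfsg.Agent.GolayF.f7.2]; decide +kernel)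

theorem pP20 : (D.drop 21).all (chkP F r20) = true := by (rewrite [Cfsg.Agent.GolayF.f7.2]; decide +kernel)

theorem pP21 : (D.drop 22).all (chkP F r21) = true := by (rewrite [Cfsg.Agent.GolayF.f7.2]; decide +kernel)

theorem pP22 : (D.drop 23).all (chkP F r22) = true := by (rewrite [Cfsg.Agent.GolayF.f7.2]; decide +kernel)

theorem pP23 : (D.drop 24).all (chkP F r23) = true := by (rewrite [Cfsg.Agent.GolayF.f7.2]; decide +kernel)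

theorem pP24 : (D.drop 25).all (chkP F r24) = true := by (rewrite [Cfsg.Agent.GolayF.f7.2]; decide +kernel)

theorem hsum : (1 + (D.map fun r => 244823040 / r.n).sum) = 244823040 := by decide +kernel

theorem hC : ∀ r ∈ D, chkC F r = true := by
  intro r hr
  simp only [D, List.mem_cons, List.not_mem_nil, or_false] at hr
  rcases hr with rfl | rfl | rfl | rfl | rfl | rfl | rfl | rfl | rfl | rfl | rfl | rfl | rfl | rfl | rfl | rfl | rfl | rfl | rfl | rfl | rfl | rfl | rfl | rfl | rfl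
  · exact cC0
  · exact cC1
  · exact cC2
  · exact cC3
  · exact cC4
  · exact cC5
  · exact cC6
  · exact cC7
  · exact cC8
  · exact cC9
  · exact cC10
  · exact cC11
  · exact cC12
  · exact cC13
  · exact cC14
  · exact cC15
  · exact cC16
  · exact cC17
  · exact cC18
  · exact cC19
  · exact cC20
  · exact cC21
  · exact cC22
  · exact cC23
  · exact cC24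

theorem hP : ∀ i j : Fin D.length, i < j → chkP F (D.get i) (D.get j) = true := by
  refine hP_of ?_
  intro i hi
  have hi' : i < 25 := hi
  interval_cases i
  · exact pP0
  · exact pP1
  · exact pP2
  · exact pP3
  · exact pP4
  · exact pP5
  · exact pP6
  · exact pP7
  · exact pP8
  · exact pP9
  · exact pP10
  · exact pP11
  · exact pP12
  · exact pP13
  · exact pP14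
  · exact pP15
  · exact pP16
  · exact pP17
  · exact pP18
  · exact pP19
  · exact pP20
  · exact pP21
  · exact pP22
  · exact pP23
  · exact pP24

end Cfsg.Agent.H334.Ore.M24Data
end

-- part: H334/Ore/M24
section
/-!
# The rows `M24`: every element is a commutator, and a product of four involutions
-/

set_option autoImplicit false

namespace Cfsg.Agent.H334.Ore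

open Cfsg Cfsg.Agent.H334.Ore.Mat Cfsg.Agent.H729.Trans
open Cfsg.Agent.SporadicStructure.M24El Cfsg.Agent.SporadicA.GolayPerm Cfsg.Agent.SporadicA.GolayBase

namespace M24R

open Cfsg.Agent.H334.Ore.M24Data

theorem id_injective : Function.Injective (MonoidHom.id M24) := fun _ _ h => h

theorem hF (g : M24) : ∀ b ∈ F, im (MonoidHom.id M24 g) b = b := by
  intro b hb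
  simp only [F, List.not_mem_nil] at hb

theorem hmem (c : ℕ) (_ : ok c = true) (_ : ∀ b ∈ F, papp c b = b) : ∃ x : M24, MonoidHom.id M24 x = el c :=
  ⟨el c, rfl⟩

theorem hA' : ∀ r ∈ D, chkA F r = true := fun r hr => List.all_eq_true.1 hA r hr

theorem cov (g : M24) : g = 1 ∨ ∃ r ∈ D, ∃ x : M24, MonoidHom.id M24 x = el r.c ∧ IsConj x g := by
  refine cover_of_data id_injective hF hmem D hC hA' hP ?_ g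
  rw [Cfsg.Agent.S0364.result]
  have h : ∑ i : Fin D.length, 244823040 / (D.get i).n = (D.map fun r => 244823040 / r.n).sum := by
    rw [← List.sum_ofFn]
    rfl
  rw [h, hsum]

end M24R

/-- **Every element of `M24` is a commutator.** -/
theorem ore_m24 {S : Type*} [Group S] (h : Spor.IsoM24 S) : Cfsg.Agent.H777.Ore.AllC S := by
  obtain ⟨e⟩ := h
  exact Cfsg.Agent.H777.Ore.AllC.congr e.symm (allC_of_data M24R.id_injective M24R.hmem M24Data.D M24R.hA' M24R.cov)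

/-- **Every element of `M24` is a product of four elements with square one.** -/
theorem four_m24 {S : Type*} [Group S] (h : Spor.IsoM24 S) : Cfsg.Agent.H777.Ore.Inv4 S := by
  obtain ⟨e⟩ := h
  exact inv4_congr e.symm (inv4_of_data M24R.id_injective M24R.hmem M24Data.D M24R.hA' M24R.cov)

end Cfsg.Agent.H334.Ore
end

private theorem dce_ccf3b8fa0bc9 : _root_.True := by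
  try have : _root_.True := by simp only [_root_.Cfsg.Agent.H334.Ore.Mat.fibOk.eq_1]
  try have : _root_.True := by simp only [_root_.Cfsg.Agent.H334.Ore.M24Data.D.eq_1]
  try have : _root_.True := by simp only [_root_.Cfsg.Agent.H334.Ore.M24Data.F.eq_1]
  try have : _root_.True := by simp only [_root_.Cfsg.Agent.H334.Ore.Mat.fibOk.eq_2]
  exact _root_.True.intro
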