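import Cfsg.Agent.H134.Sq.Base_m3
import Cfsg.Agent.H729.M22Deg
import Cfsg.Agent.H729.TransFast
import Cfsg.Agent.Prune
set_option linter.all false
prune_inst 0x7f00000000000000000000000000000000000000000000000000000000000000000000000000000000000000000000000000000000000000000000000000000000000000000000000000000000000000003fffffffffffffffffffffffffffbeffbdffffffff
open scoped Cfsg.Agent.FastGrp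
private noncomputable def lq264defae5e {T : Sort _} (f :
    type_of% (@_root_.List.cons.{0}) →
    type_of% (@_root_.Prod.mk.{0, 0}) →
    type_of% (@_root_.List.nil.{0}) →
    type_of% (@_root_.List.range) →
    type_of% (@_root_.Cfsg.Agent.H334.Ore.Mat.Ex.mk) → T) : T :=
  f (@_root_.List.cons.{0}) (@_root_.Prod.mk.{0, 0}) (@_root_.List.nil.{0}) (@_root_.List.range) (@_root_.Cfsg.Agent.H334.Ore.Mat.Ex.mk)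

-- part: H334/Ore/M22Data
section
/-!
# Representatives of the classes of `M22` (data)
-/

set_option autoImplicit false
set_option Elab.async false

namespace Cfsg.Agent.H334.Ore.M22Data

open Cfsg.Agent.H334.Ore.Mat

def F : List ℕ := [23, 0]

def f0_0 : Fib where
  b := 1
  e := []

def f0_1 : Fib where
  b := 5
  e := (beta% delta% lq264defae5e fun a b c d e =>
 (a (e 0 (a (b 1 0)<|a (b 2 0)<|a (b 4 0)<|a (b 5 0)<|a (b 6 0)<|a (b 3 0)<|a (b 4 1)<|a (b 7 0)<|a (b 8 0)<|a (b 9 0)<|a (b 6 1)<|a (b 10 0)<|a (b 11 0)<|a (b 2 1)<|a (b 7 1)<|a (b 12 0)<|a (b 5 1)<|a (b 13 0)<|a (b 14 0)<|a (b 14 1)<|a (b 15 0)<|a (b 9 1)<|a (b 8 1)<|a (b 0 0)<|c)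
 (a (b 23<|b (a 23<|c) c)<|
 a (b 0<|b (a 0<|c) c)<|
 a (b 1<|b (a 1<|c) c)<|
 a (b 5<|b (a 0<|c) c)<|
 a (b 2<|b (d 24) c)<|
 a (b 3<|b (d 24) c)<|
 a (b 4<|b (d 24) c)<|
 a (b 7<|b (d 24) (a (a (b 2 0)<|a (b 4 0)<|a (b 5 0)<|a (b 4 1)<|a (b 7 0)<|a (b 2 1)<|a (b 7 1)<|a (b 5 1)<|c)<|c))<|
 a (b 8<|b (d 24) (a (a (b 2 0)<|a (b 6 0)<|a (b 7 0)<|a (b 8 0)<|a (b 6 1)<|a (b 2 1)<|a (b 7 1)<|a (b 8 1)<|c)<|a (a (b 1 0)<|a (b 2 0)<|a (b 5 0)<|a (b 4 1)<|a (b 8 0)<|a (b 6 1)<|a (b 2 1)<|a (b 0 0)<|c)<|c))<|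
 a (b 9<|b (d 24) (a (a (b 1 0)<|a (b 2 0)<|a (b 3 0)<|a (b 4 1)<|a (b 7 0)<|a (b 9 0)<|a (b 6 1)<|a (b 7 1)<|c)<|a (a (b 2 0)<|a (b 4 0)<|a (b 6 0)<|a (b 4 1)<|a (b 9 0)<|a (b 6 1)<|a (b 2 1)<|a (b 9 1)<|c)<|c))<|
 a (b 11<|b (d 24) (a (a (b 2 0)<|a (b 4 0)<|a (b 5 0)<|a (b 6 0)<|a (b 3 0)<|a (b 8 0)<|a (b 10 0)<|a (b 2 1)<|c)<|c))<|
 a (b 12<|b (d 24) (a (a (b 1 0)<|a (b 2 0)<|a (b 4 0)<|a (b 5 0)<|a (b 6 0)<|a (b 7 0)<|a (b 6 1)<|a (b 11 0)<|c)<|c))<|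
 a (b 15<|b (d 24) (a (a (b 2 0)<|a (b 4 0)<|a (b 4 1)<|a (b 7 0)<|a (b 8 0)<|a (b 6 1)<|a (b 10 0)<|a (b 12 0)<|c)<|c))<|
 a (b 17<|b (d 24) (a (a (b 1 0)<|a (b 5 0)<|a (b 6 0)<|a (b 3 0)<|a (b 7 0)<|a (b 9 0)<|a (b 10 0)<|a (b 13 0)<|c)<|c))<|
 a (b 18<|b (d 24) (a (a (b 1 0)<|a (b 4 0)<|a (b 5 0)<|a (b 3 0)<|a (b 4 1)<|a (b 7 0)<|a (b 8 0)<|a (b 14 0)<|c)<|a (a (b 2 0)<|a (b 5 0)<|a (b 6 0)<|a (b 4 1)<|a (b 7 0)<|a (b 8 0)<|a (b 9 0)<|a (b 14 1)<|c)<|c))<|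
 a (b 20<|b (d 24) (a (a (b 4 0)<|a (b 6 0)<|a (b 3 0)<|a (b 7 0)<|a (b 8 0)<|a (b 9 0)<|a (b 6 1)<|a (b 15 0)<|c)<|c))<|c))<|
 a (e 23 (a (b 1 0)<|a (b 2 0)<|a (b 4 0)<|a (b 5 0)<|a (b 6 0)<|a (b 3 0)<|a (b 4 1)<|a (b 7 0)<|a (b 8 0)<|a (b 9 0)<|a (b 6 1)<|a (b 10 0)<|a (b 11 0)<|a (b 2 1)<|a (b 7 1)<|a (b 12 0)<|a (b 5 1)<|a (b 13 0)<|a (b 14 0)<|a (b 14 1)<|a (b 15 0)<|a (b 9 1)<|a (b 8 1)<|a (b 0 0)<|c)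
 (a (b 23<|b (a 23<|c) c)<|
 a (b 0<|b (a 0<|c) c)<|
 a (b 1<|b (a 1<|c) c)<|
 a (b 5<|b (a 23<|c) c)<|
 a (b 2<|b (d 24) c)<|
 a (b 3<|b (d 24) c)<|
 a (b 4<|b (d 24) c)<|
 a (b 7<|b (d 24) (a (a (b 2 0)<|a (b 4 0)<|a (b 5 0)<|a (b 4 1)<|a (b 7 0)<|a (b 2 1)<|a (b 7 1)<|a (b 5 1)<|c)<|c))<|
 a (b 8<|b (d 24) (a (a (b 2 0)<|a (b 6 0)<|a (b 7 0)<|a (b 8 0)<|a (b 6 1)<|a (b 2 1)<|a (b 7 1)<|a (b 8 1)<|c)<|a (a (b 1 0)<|a (b 2 0)<|a (b 5 0)<|a (b 4 1)<|a (b 8 0)<|a (b 6 1)<|a (b 2 1)<|a (b 0 0)<|c)<|c))<|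
 a (b 9<|b (d 24) (a (a (b 1 0)<|a (b 2 0)<|a (b 3 0)<|a (b 4 1)<|a (b 7 0)<|a (b 9 0)<|a (b 6 1)<|a (b 7 1)<|c)<|a (a (b 2 0)<|a (b 4 0)<|a (b 6 0)<|a (b 4 1)<|a (b 9 0)<|a (b 6 1)<|a (b 2 1)<|a (b 9 1)<|c)<|c))<|
 a (b 11<|b (d 24) (a (a (b 2 0)<|a (b 4 0)<|a (b 5 0)<|a (b 6 0)<|a (b 3 0)<|a (b 8 0)<|a (b 10 0)<|a (b 2 1)<|c)<|c))<|
 a (b 12<|b (d 24) (a (a (b 1 0)<|a (b 2 0)<|a (b 4 0)<|a (b 5 0)<|a (b 6 0)<|a (b 7 0)<|a (b 6 1)<|a (b 11 0)<|c)<|c))<|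
 a (b 15<|b (d 24) (a (a (b 2 0)<|a (b 4 0)<|a (b 4 1)<|a (b 7 0)<|a (b 8 0)<|a (b 6 1)<|a (b 10 0)<|a (b 12 0)<|c)<|c))<|
 a (b 17<|b (d 24) (a (a (b 1 0)<|a (b 5 0)<|a (b 6 0)<|a (b 3 0)<|a (b 7 0)<|a (b 9 0)<|a (b 10 0)<|a (b 13 0)<|c)<|c))<|
 a (b 18<|b (d 24) (a (a (b 1 0)<|a (b 4 0)<|a (b 5 0)<|a (b 3 0)<|a (b 4 1)<|a (b 7 0)<|a (b 8 0)<|a (b 14 0)<|c)<|a (a (b 2 0)<|a (b 5 0)<|a (b 6 0)<|a (b 4 1)<|a (b 7 0)<|a (b 8 0)<|a (b 9 0)<|a (b 14 1)<|c)<|c))<|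
 a (b 20<|b (d 24) (a (a (b 4 0)<|a (b 6 0)<|a (b 3 0)<|a (b 7 0)<|a (b 8 0)<|a (b 9 0)<|a (b 6 1)<|a (b 15 0)<|c)<|c))<|c))<|c))

def f0_2 : Fib where
  b := 12
  e := (beta% delta% lq264defae5e fun a b c d e =>
 (a (e 0 (a (b 1 0)<|a (b 3 0)<|a (b 5 0)<|a (b 6 0)<|a (b 7 0)<|a (b 2 0)<|a (b 5 1)<|a (b 8 0)<|a (b 9 0)<|a (b 10 0)<|a (b 7 1)<|a (b 11 0)<|a (b 4 0)<|a (b 3 1)<|a (b 8 1)<|a (b 12 0)<|a (b 6 1)<|a (b 13 0)<|a (b 14 0)<|a (b 14 1)<|a (b 15 0)<|a (b 10 1)<|a (b 9 1)<|a (b 0 0)<|c)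
 (a (b 23<|b (a 23<|c) c)<|
 a (b 0<|b (a 0<|c) c)<|
 a (b 5<|b (a 5<|c) c)<|
 a (b 1<|b (a 1<|c) c)<|
 a (b 12<|b (a 0<|c) c)<|
 a (b 2<|b (d 24) c)<|
 a (b 3<|b (d 24) c)<|
 a (b 4<|b (d 24) c)<|
 a (b 7<|b (d 24) (a (a (b 1 0)<|a (b 3 0)<|a (b 5 0)<|a (b 6 0)<|a (b 7 0)<|a (b 8 0)<|a (b 7 1)<|a (b 4 0)<|c)<|a (a (b 3 0)<|a (b 5 0)<|a (b 6 0)<|a (b 5 1)<|a (b 8 0)<|a (b 3 1)<|a (b 8 1)<|a (b 6 1)<|c)<|c))<|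
 a (b 8<|b (d 24) (a (a (b 3 0)<|a (b 7 0)<|a (b 8 0)<|a (b 9 0)<|a (b 7 1)<|a (b 3 1)<|a (b 8 1)<|a (b 9 1)<|c)<|a (a (b 1 0)<|a (b 3 0)<|a (b 6 0)<|a (b 5 1)<|a (b 9 0)<|a (b 7 1)<|a (b 3 1)<|a (b 0 0)<|c)<|c))<|
 a (b 9<|b (d 24) (a (a (b 1 0)<|a (b 3 0)<|a (b 2 0)<|a (b 5 1)<|a (b 8 0)<|a (b 10 0)<|a (b 7 1)<|a (b 8 1)<|c)<|a (a (b 3 0)<|a (b 5 0)<|a (b 7 0)<|a (b 5 1)<|a (b 10 0)<|a (b 7 1)<|a (b 3 1)<|a (b 10 1)<|c)<|c))<|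
 a (b 11<|b (d 24) (a (a (b 3 0)<|a (b 5 0)<|a (b 6 0)<|a (b 7 0)<|a (b 2 0)<|a (b 9 0)<|a (b 11 0)<|a (b 3 1)<|c)<|c))<|
 a (b 15<|b (d 24) (a (a (b 3 0)<|a (b 5 0)<|a (b 5 1)<|a (b 8 0)<|a (b 9 0)<|a (b 7 1)<|a (b 11 0)<|a (b 12 0)<|c)<|c))<|
 a (b 17<|b (d 24) (a (a (b 1 0)<|a (b 6 0)<|a (b 7 0)<|a (b 2 0)<|a (b 8 0)<|a (b 10 0)<|a (b 11 0)<|a (b 13 0)<|c)<|c))<|
 a (b 18<|b (d 24) (a (a (b 1 0)<|a (b 5 0)<|a (b 6 0)<|a (b 2 0)<|a (b 5 1)<|a (b 8 0)<|a (b 9 0)<|a (b 14 0)<|c)<|a (a (b 3 0)<|a (b 6 0)<|a (b 7 0)<|a (b 5 1)<|a (b 8 0)<|a (b 9 0)<|a (b 10 0)<|a (b 14 1)<|c)<|c))<|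
 a (b 20<|b (d 24) (a (a (b 5 0)<|a (b 7 0)<|a (b 2 0)<|a (b 8 0)<|a (b 9 0)<|a (b 10 0)<|a (b 7 1)<|a (b 15 0)<|c)<|c))<|c))<|
 a (e 11 (a (b 1 0)<|a (b 3 0)<|a (b 7 0)<|a (b 8 0)<|a (b 9 0)<|a (b 2 0)<|a (b 7 1)<|a (b 10 0)<|a (b 6 0)<|a (b 11 0)<|a (b 9 1)<|a (b 12 0)<|a (b 4 0)<|a (b 3 1)<|a (b 10 1)<|a (b 13 0)<|a (b 8 1)<|a (b 5 0)<|a (b 14 0)<|a (b 14 1)<|a (b 15 0)<|a (b 11 1)<|a (b 6 1)<|a (b 0 0)<|c)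
 (a (b 23<|b (a 23<|c) c)<|
 a (b 0<|b (a 0<|c) c)<|
 a (b 5<|b (a 5<|c) c)<|
 a (b 1<|b (a 1<|c) c)<|
 a (b 12<|b (a 11<|c) c)<|
 a (b 17<|b (d 24) c)<|
 a (b 8<|b (d 24) (a (a (b 3 0)<|a (b 2 0)<|a (b 6 0)<|a (b 4 0)<|a (b 3 1)<|a (b 5 0)<|a (b 6 1)<|a (b 0 0)<|c)<|c))<|
 a (b 2<|b (d 24) c)<|
 a (b 3<|b (d 24) c)<|
 a (b 4<|b (d 24) (a (a (b 1 0)<|a (b 7 0)<|a (b 9 0)<|a (b 2 0)<|a (b 6 0)<|a (b 4 0)<|a (b 8 1)<|a (b 5 0)<|c)<|a (a (b 7 0)<|a (b 8 0)<|a (b 9 0)<|a (b 7 1)<|a (b 6 0)<|a (b 9 1)<|a (b 8 1)<|a (b 6 1)<|c)<|c))<|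
 a (b 7<|b (d 24) (a (a (b 1 0)<|a (b 3 0)<|a (b 7 0)<|a (b 8 0)<|a (b 9 0)<|a (b 10 0)<|a (b 9 1)<|a (b 4 0)<|c)<|a (a (b 3 0)<|a (b 7 0)<|a (b 8 0)<|a (b 7 1)<|a (b 10 0)<|a (b 3 1)<|a (b 10 1)<|a (b 8 1)<|c)<|c))<|
 a (b 9<|b (d 24) (a (a (b 1 0)<|a (b 3 0)<|a (b 2 0)<|a (b 7 1)<|a (b 10 0)<|a (b 11 0)<|a (b 9 1)<|a (b 10 1)<|c)<|a (a (b 3 0)<|a (b 7 0)<|a (b 9 0)<|a (b 7 1)<|a (b 11 0)<|a (b 9 1)<|a (b 3 1)<|a (b 11 1)<|c)<|c))<|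
 a (b 11<|b (d 24) (a (a (b 3 0)<|a (b 7 0)<|a (b 8 0)<|a (b 9 0)<|a (b 2 0)<|a (b 6 0)<|a (b 12 0)<|a (b 3 1)<|c)<|c))<|
 a (b 15<|b (d 24) (a (a (b 3 0)<|a (b 7 0)<|a (b 7 1)<|a (b 10 0)<|a (b 6 0)<|a (b 9 1)<|a (b 12 0)<|a (b 13 0)<|c)<|c))<|
 a (b 18<|b (d 24) (a (a (b 1 0)<|a (b 7 0)<|a (b 8 0)<|a (b 2 0)<|a (b 7 1)<|a (b 10 0)<|a (b 6 0)<|a (b 14 0)<|c)<|a (a (b 3 0)<|a (b 8 0)<|a (b 9 0)<|a (b 7 1)<|a (b 10 0)<|a (b 6 0)<|a (b 11 0)<|a (b 14 1)<|c)<|c))<|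
 a (b 20<|b (d 24) (a (a (b 7 0)<|a (b 9 0)<|a (b 2 0)<|a (b 10 0)<|a (b 6 0)<|a (b 11 0)<|a (b 9 1)<|a (b 15 0)<|c)<|c))<|c))<|
 a (e 23 (a (b 1 0)<|a (b 3 0)<|a (b 5 0)<|a (b 6 0)<|a (b 7 0)<|a (b 2 0)<|a (b 5 1)<|a (b 8 0)<|a (b 9 0)<|a (b 10 0)<|a (b 7 1)<|a (b 11 0)<|a (b 4 0)<|a (b 3 1)<|a (b 8 1)<|a (b 12 0)<|a (b 6 1)<|a (b 13 0)<|a (b 14 0)<|a (b 14 1)<|a (b 15 0)<|a (b 10 1)<|a (b 9 1)<|a (b 0 0)<|c)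
 (a (b 23<|b (a 23<|c) c)<|
 a (b 0<|b (a 0<|c) c)<|
 a (b 5<|b (a 5<|c) c)<|
 a (b 1<|b (a 1<|c) c)<|
 a (b 12<|b (a 23<|c) c)<|
 a (b 2<|b (d 24) c)<|
 a (b 3<|b (d 24) c)<|
 a (b 4<|b (d 24) c)<|
 a (b 7<|b (d 24) (a (a (b 1 0)<|a (b 3 0)<|a (b 5 0)<|a (b 6 0)<|a (b 7 0)<|a (b 8 0)<|a (b 7 1)<|a (b 4 0)<|c)<|a (a (b 3 0)<|a (b 5 0)<|a (b 6 0)<|a (b 5 1)<|a (b 8 0)<|a (b 3 1)<|a (b 8 1)<|a (b 6 1)<|c)<|c))<|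
 a (b 8<|b (d 24) (a (a (b 3 0)<|a (b 7 0)<|a (b 8 0)<|a (b 9 0)<|a (b 7 1)<|a (b 3 1)<|a (b 8 1)<|a (b 9 1)<|c)<|a (a (b 1 0)<|a (b 3 0)<|a (b 6 0)<|a (b 5 1)<|a (b 9 0)<|a (b 7 1)<|a (b 3 1)<|a (b 0 0)<|c)<|c))<|
 a (b 9<|b (d 24) (a (a (b 1 0)<|a (b 3 0)<|a (b 2 0)<|a (b 5 1)<|a (b 8 0)<|a (b 10 0)<|a (b 7 1)<|a (b 8 1)<|c)<|a (a (b 3 0)<|a (b 5 0)<|a (b 7 0)<|a (b 5 1)<|a (b 10 0)<|a (b 7 1)<|a (b 3 1)<|a (b 10 1)<|c)<|c))<|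
 a (b 11<|b (d 24) (a (a (b 3 0)<|a (b 5 0)<|a (b 6 0)<|a (b 7 0)<|a (b 2 0)<|a (b 9 0)<|a (b 11 0)<|a (b 3 1)<|c)<|c))<|
 a (b 15<|b (d 24) (a (a (b 3 0)<|a (b 5 0)<|a (b 5 1)<|a (b 8 0)<|a (b 9 0)<|a (b 7 1)<|a (b 11 0)<|a (b 12 0)<|c)<|c))<|
 a (b 17<|b (d 24) (a (a (b 1 0)<|a (b 6 0)<|a (b 7 0)<|a (b 2 0)<|a (b 8 0)<|a (b 10 0)<|a (b 11 0)<|a (b 13 0)<|c)<|c))<|
 a (b 18<|b (d 24) (a (a (b 1 0)<|a (b 5 0)<|a (b 6 0)<|a (b 2 0)<|a (b 5 1)<|a (b 8 0)<|a (b 9 0)<|a (b 14 0)<|c)<|a (a (b 3 0)<|a (b 6 0)<|a (b 7 0)<|a (b 5 1)<|a (b 8 0)<|a (b 9 0)<|a (b 10 0)<|a (b 14 1)<|c)<|c))<|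
 a (b 20<|b (d 24) (a (a (b 5 0)<|a (b 7 0)<|a (b 2 0)<|a (b 8 0)<|a (b 9 0)<|a (b 10 0)<|a (b 7 1)<|a (b 15 0)<|c)<|c))<|c))<|c))

def r0 : Rec where
  p := 2
  c := 966158389308529030942218518639679904
  a := 963308691966458969401412646073909536
  b := 976704800380817189629205540512213280
  t := [966158389308529030942218518639679904, 984818244535754528103549039458486304, 984818244535754528103549039458486304, 984818244535754528103549039458486304]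
  wd := (beta% delta% lq264defae5e fun a b c _ _ =>
 (a (b 1 0)<|a (b 4 0)<|a (b 12 0)<|a (b 8 0)<|a (b 13 0)<|a (b 3 0)<|a (b 12 1)<|a (b 15 0)<|a (b 6 0)<|a (b 9 0)<|a (b 13 1)<|a (b 7 0)<|a (b 2 0)<|a (b 4 1)<|a (b 15 1)<|a (b 11 0)<|a (b 8 1)<|a (b 5 0)<|a (b 14 0)<|a (b 14 1)<|a (b 10 0)<|a (b 9 1)<|a (b 6 1)<|a (b 0 0)<|c))
  sts := (beta% delta% lq264defae5e fun a b c d _ =>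
 (a (b 23<|b (a 23<|c) c)<|
 a (b 0<|b (a 0<|c) c)<|
 a (b 12<|b (a 12<|c) c)<|
 a (b 5<|b (a 5<|c) c)<|
 a (b 1<|b (a 1<|c) c)<|
 a (b 17<|b (d 24) c)<|
 a (b 8<|b (d 24) (a (a (b 4 0)<|a (b 3 0)<|a (b 6 0)<|a (b 2 0)<|a (b 4 1)<|a (b 5 0)<|a (b 6 1)<|a (b 0 0)<|c)<|c))<|
 a (b 11<|b (d 24) c)<|
 a (b 3<|b (d 24) (a (a (b 1 0)<|a (b 4 0)<|a (b 8 0)<|a (b 7 0)<|a (b 2 0)<|a (b 4 1)<|a (b 8 1)<|a (b 5 0)<|c)<|c))<|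
 a (b 9<|b (d 24) (a (a (b 4 0)<|a (b 8 0)<|a (b 6 0)<|a (b 9 0)<|a (b 4 1)<|a (b 8 1)<|a (b 9 1)<|a (b 6 1)<|c)<|c))<|
 a (b 20<|b (d 24) (a (a (b 1 0)<|a (b 4 0)<|a (b 8 0)<|a (b 3 0)<|a (b 6 0)<|a (b 9 0)<|a (b 2 0)<|a (b 10 0)<|c)<|c))<|
 a (b 15<|b (d 24) (a (a (b 4 0)<|a (b 3 0)<|a (b 6 0)<|a (b 7 0)<|a (b 2 0)<|a (b 11 0)<|a (b 8 1)<|a (b 9 1)<|c)<|c))<|
 a (b 2<|b (d 24) (a (a (b 1 0)<|a (b 4 0)<|a (b 12 0)<|a (b 3 0)<|a (b 12 1)<|a (b 2 0)<|a (b 4 1)<|a (b 11 0)<|c)<|c))<|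
 a (b 4<|b (d 24) (a (a (b 4 0)<|a (b 12 0)<|a (b 8 0)<|a (b 13 0)<|a (b 3 0)<|a (b 6 0)<|a (b 7 0)<|a (b 4 1)<|c)<|a (a (b 1 0)<|a (b 4 0)<|a (b 13 0)<|a (b 6 0)<|a (b 9 0)<|a (b 13 1)<|a (b 7 0)<|a (b 8 1)<|c)<|c))<|
 a (b 18<|b (d 24) (a (a (b 4 0)<|a (b 13 0)<|a (b 3 0)<|a (b 12 1)<|a (b 6 0)<|a (b 13 1)<|a (b 2 0)<|a (b 14 0)<|c)<|a (a (b 1 0)<|a (b 12 0)<|a (b 12 1)<|a (b 6 0)<|a (b 9 0)<|a (b 13 1)<|a (b 2 0)<|a (b 14 1)<|c)<|c))<|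
 a (b 7<|b (d 24) (a (a (b 1 0)<|a (b 4 0)<|a (b 12 0)<|a (b 8 0)<|a (b 13 0)<|a (b 15 0)<|a (b 13 1)<|a (b 2 0)<|c)<|a (a (b 1 0)<|a (b 4 0)<|a (b 3 0)<|a (b 12 1)<|a (b 15 0)<|a (b 9 0)<|a (b 13 1)<|a (b 15 1)<|c)<|c))<|c))
  fib := [f0_0, f0_1, f0_2]
  n := 384

def f1_0 : Fib where
  b := 2
  e := (beta% delta% lq264defae5e fun a b c d e =>
 (a (e 7 (a (b 1 0)<|a (b 5 0)<|a (b 2 0)<|a (b 5 1)<|a (b 6 0)<|a (b 2 1)<|a (b 2 2)<|a (b 7 0)<|a (b 8 0)<|a (b 4 0)<|a (b 9 0)<|a (b 10 0)<|a (b 8 2)<|a (b 11 0)<|a (b 7 1)<|a (b 7 2)<|a (b 11 2)<|a (b 4 2)<|a (b 11 1)<|a (b 5 2)<|a (b 3 0)<|a (b 4 1)<|a (b 8 1)<|a (b 0 0)<|c)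
 (a (b 23<|b (a 23<|c) c)<|
 a (b 0<|b (a 0<|c) c)<|
 a (b 2<|b (a 7<|c) c)<|
 a (b 20<|b (d 24) c)<|
 a (b 9<|b (d 24) (a (a (b 1 0)<|a (b 2 0)<|a (b 2 1)<|a (b 2 2)<|a (b 4 0)<|a (b 4 2)<|a (b 3 0)<|a (b 4 1)<|c)<|c))<|
 a (b 1<|b (d 24) c)<|
 a (b 4<|b (d 24) c)<|
 a (b 7<|b (d 24) (a (a (b 5 0)<|a (b 2 0)<|a (b 2 2)<|a (b 4 0)<|a (b 7 1)<|a (b 7 2)<|a (b 4 2)<|a (b 5 2)<|c)<|a (a (b 1 0)<|a (b 5 0)<|a (b 5 1)<|a (b 2 2)<|a (b 7 0)<|a (b 7 2)<|a (b 4 2)<|a (b 3 0)<|c)<|a (a (b 1 0)<|a (b 5 0)<|a (b 2 0)<|a (b 5 1)<|a (b 2 1)<|a (b 7 1)<|a (b 4 2)<|a (b 0 0)<|c)<|c))<|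
 a (b 8<|b (d 24) (a (a (b 2 0)<|a (b 5 1)<|a (b 6 0)<|a (b 2 1)<|a (b 2 2)<|a (b 4 0)<|a (b 8 2)<|a (b 7 1)<|c)<|a (a (b 2 1)<|a (b 2 2)<|a (b 7 0)<|a (b 8 0)<|a (b 4 0)<|a (b 8 2)<|a (b 7 2)<|a (b 4 2)<|c)<|a (a (b 5 0)<|a (b 2 0)<|a (b 6 0)<|a (b 8 0)<|a (b 4 0)<|a (b 8 2)<|a (b 7 2)<|a (b 8 1)<|c)<|c))<|
 a (b 10<|b (d 24) (a (a (b 1 0)<|a (b 5 0)<|a (b 2 0)<|a (b 5 1)<|a (b 6 0)<|a (b 7 0)<|a (b 9 0)<|a (b 8 2)<|c)<|c))<|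
 a (b 11<|b (d 24) (a (a (b 5 0)<|a (b 2 0)<|a (b 2 2)<|a (b 7 0)<|a (b 8 0)<|a (b 9 0)<|a (b 10 0)<|a (b 7 2)<|c)<|c))<|
 a (b 13<|b (d 24) (a (a (b 5 0)<|a (b 2 0)<|a (b 5 1)<|a (b 6 0)<|a (b 2 1)<|a (b 8 0)<|a (b 10 0)<|a (b 11 0)<|c)<|a (a (b 1 0)<|a (b 5 0)<|a (b 6 0)<|a (b 8 0)<|a (b 4 0)<|a (b 9 0)<|a (b 10 0)<|a (b 11 2)<|c)<|a (a (b 1 0)<|a (b 2 0)<|a (b 5 1)<|a (b 2 1)<|a (b 2 2)<|a (b 7 0)<|a (b 8 0)<|a (b 11 1)<|c)<|c))<|c))<|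
 a (e 9 (a (b 1 0)<|a (b 5 0)<|a (b 2 0)<|a (b 5 1)<|a (b 6 0)<|a (b 2 1)<|a (b 2 2)<|a (b 4 0)<|a (b 7 0)<|a (b 8 0)<|a (b 9 0)<|a (b 10 0)<|a (b 7 2)<|a (b 11 0)<|a (b 4 1)<|a (b 4 2)<|a (b 11 2)<|a (b 8 2)<|a (b 11 1)<|a (b 5 2)<|a (b 3 0)<|a (b 8 1)<|a (b 7 1)<|a (b 0 0)<|c)
 (a (b 23<|b (a 23<|c) c)<|
 a (b 0<|b (a 0<|c) c)<|
 a (b 2<|b (a 9<|c) c)<|
 a (b 20<|b (d 24) c)<|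
 a (b 7<|b (d 24) (a (a (b 2 0)<|a (b 2 1)<|a (b 2 2)<|a (b 4 0)<|a (b 4 1)<|a (b 4 2)<|a (b 3 0)<|a (b 0 0)<|c)<|c))<|
 a (b 1<|b (d 24) c)<|
 a (b 4<|b (d 24) c)<|
 a (b 8<|b (d 24) (a (a (b 5 0)<|a (b 2 0)<|a (b 2 1)<|a (b 4 0)<|a (b 7 0)<|a (b 7 2)<|a (b 4 1)<|a (b 5 2)<|c)<|a (a (b 1 0)<|a (b 5 0)<|a (b 2 0)<|a (b 6 0)<|a (b 2 2)<|a (b 7 0)<|a (b 4 1)<|a (b 3 0)<|c)<|a (a (b 5 0)<|a (b 5 1)<|a (b 2 1)<|a (b 2 2)<|a (b 7 0)<|a (b 4 1)<|a (b 4 2)<|a (b 7 1)<|c)<|c))<|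
 a (b 9<|b (d 24) (a (a (b 2 0)<|a (b 5 1)<|a (b 6 0)<|a (b 2 1)<|a (b 2 2)<|a (b 8 0)<|a (b 7 2)<|a (b 4 1)<|c)<|a (a (b 2 1)<|a (b 2 2)<|a (b 4 0)<|a (b 7 0)<|a (b 8 0)<|a (b 7 2)<|a (b 4 2)<|a (b 8 2)<|c)<|a (a (b 5 0)<|a (b 2 0)<|a (b 5 1)<|a (b 2 1)<|a (b 4 0)<|a (b 8 0)<|a (b 4 2)<|a (b 8 1)<|c)<|c))<|
 a (b 10<|b (d 24) (a (a (b 1 0)<|a (b 5 0)<|a (b 2 0)<|a (b 5 1)<|a (b 6 0)<|a (b 4 0)<|a (b 9 0)<|a (b 7 2)<|c)<|c))<|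
 a (b 11<|b (d 24) (a (a (b 5 0)<|a (b 2 0)<|a (b 2 2)<|a (b 4 0)<|a (b 7 0)<|a (b 9 0)<|a (b 10 0)<|a (b 4 2)<|c)<|c))<|
 a (b 13<|b (d 24) (a (a (b 5 0)<|a (b 2 0)<|a (b 5 1)<|a (b 6 0)<|a (b 2 1)<|a (b 7 0)<|a (b 10 0)<|a (b 11 0)<|c)<|a (a (b 1 0)<|a (b 5 0)<|a (b 6 0)<|a (b 7 0)<|a (b 8 0)<|a (b 9 0)<|a (b 10 0)<|a (b 11 2)<|c)<|a (a (b 1 0)<|a (b 2 0)<|a (b 5 1)<|a (b 2 1)<|a (b 2 2)<|a (b 4 0)<|a (b 7 0)<|a (b 11 1)<|c)<|c))<|c))<|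
 a (e 14 (a (b 1 0)<|a (b 5 0)<|a (b 2 0)<|a (b 5 1)<|a (b 6 0)<|a (b 2 1)<|a (b 2 2)<|a (b 7 0)<|a (b 8 0)<|a (b 4 0)<|a (b 9 0)<|a (b 10 0)<|a (b 8 2)<|a (b 11 0)<|a (b 7 1)<|a (b 7 2)<|a (b 11 2)<|a (b 4 2)<|a (b 11 1)<|a (b 5 2)<|a (b 3 0)<|a (b 4 1)<|a (b 8 1)<|a (b 0 0)<|c)
 (a (b 23<|b (a 23<|c) c)<|
 a (b 0<|b (a 0<|c) c)<|
 a (b 2<|b (a 14<|c) c)<|
 a (b 20<|b (d 24) c)<|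
 a (b 9<|b (d 24) (a (a (b 1 0)<|a (b 2 0)<|a (b 2 1)<|a (b 2 2)<|a (b 4 0)<|a (b 4 2)<|a (b 3 0)<|a (b 4 1)<|c)<|c))<|
 a (b 1<|b (d 24) c)<|
 a (b 4<|b (d 24) c)<|
 a (b 7<|b (d 24) (a (a (b 5 0)<|a (b 2 0)<|a (b 2 2)<|a (b 4 0)<|a (b 7 1)<|a (b 7 2)<|a (b 4 2)<|a (b 5 2)<|c)<|a (a (b 1 0)<|a (b 5 0)<|a (b 5 1)<|a (b 2 2)<|a (b 7 0)<|a (b 7 2)<|a (b 4 2)<|a (b 3 0)<|c)<|a (a (b 1 0)<|a (b 5 0)<|a (b 2 0)<|a (b 5 1)<|a (b 2 1)<|a (b 7 1)<|a (b 4 2)<|a (b 0 0)<|c)<|c))<|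
 a (b 8<|b (d 24) (a (a (b 2 0)<|a (b 5 1)<|a (b 6 0)<|a (b 2 1)<|a (b 2 2)<|a (b 4 0)<|a (b 8 2)<|a (b 7 1)<|c)<|a (a (b 2 1)<|a (b 2 2)<|a (b 7 0)<|a (b 8 0)<|a (b 4 0)<|a (b 8 2)<|a (b 7 2)<|a (b 4 2)<|c)<|a (a (b 5 0)<|a (b 2 0)<|a (b 6 0)<|a (b 8 0)<|a (b 4 0)<|a (b 8 2)<|a (b 7 2)<|a (b 8 1)<|c)<|c))<|
 a (b 10<|b (d 24) (a (a (b 1 0)<|a (b 5 0)<|a (b 2 0)<|a (b 5 1)<|a (b 6 0)<|a (b 7 0)<|a (b 9 0)<|a (b 8 2)<|c)<|c))<|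
 a (b 11<|b (d 24) (a (a (b 5 0)<|a (b 2 0)<|a (b 2 2)<|a (b 7 0)<|a (b 8 0)<|a (b 9 0)<|a (b 10 0)<|a (b 7 2)<|c)<|c))<|
 a (b 13<|b (d 24) (a (a (b 5 0)<|a (b 2 0)<|a (b 5 1)<|a (b 6 0)<|a (b 2 1)<|a (b 8 0)<|a (b 10 0)<|a (b 11 0)<|c)<|a (a (b 1 0)<|a (b 5 0)<|a (b 6 0)<|a (b 8 0)<|a (b 4 0)<|a (b 9 0)<|a (b 10 0)<|a (b 11 2)<|c)<|a (a (b 1 0)<|a (b 2 0)<|a (b 5 1)<|a (b 2 1)<|a (b 2 2)<|a (b 7 0)<|a (b 8 0)<|a (b 11 1)<|c)<|c))<|c))<|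
 a (e 15 (a (b 1 0)<|a (b 5 0)<|a (b 2 0)<|a (b 5 1)<|a (b 6 0)<|a (b 2 1)<|a (b 2 2)<|a (b 7 0)<|a (b 8 0)<|a (b 4 0)<|a (b 9 0)<|a (b 10 0)<|a (b 8 2)<|a (b 11 0)<|a (b 7 1)<|a (b 7 2)<|a (b 11 2)<|a (b 4 2)<|a (b 11 1)<|a (b 5 2)<|a (b 3 0)<|a (b 4 1)<|a (b 8 1)<|a (b 0 0)<|c)
 (a (b 23<|b (a 23<|c) c)<|
 a (b 0<|b (a 0<|c) c)<|
 a (b 2<|b (a 15<|c) c)<|
 a (b 20<|b (d 24) c)<|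
 a (b 9<|b (d 24) (a (a (b 1 0)<|a (b 2 0)<|a (b 2 1)<|a (b 2 2)<|a (b 4 0)<|a (b 4 2)<|a (b 3 0)<|a (b 4 1)<|c)<|c))<|
 a (b 1<|b (d 24) c)<|
 a (b 4<|b (d 24) c)<|
 a (b 7<|b (d 24) (a (a (b 5 0)<|a (b 2 0)<|a (b 2 2)<|a (b 4 0)<|a (b 7 1)<|a (b 7 2)<|a (b 4 2)<|a (b 5 2)<|c)<|a (a (b 1 0)<|a (b 5 0)<|a (b 5 1)<|a (b 2 2)<|a (b 7 0)<|a (b 7 2)<|a (b 4 2)<|a (b 3 0)<|c)<|a (a (b 1 0)<|a (b 5 0)<|a (b 2 0)<|a (b 5 1)<|a (b 2 1)<|a (b 7 1)<|a (b 4 2)<|a (b 0 0)<|c)<|c))<|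
 a (b 8<|b (d 24) (a (a (b 2 0)<|a (b 5 1)<|a (b 6 0)<|a (b 2 1)<|a (b 2 2)<|a (b 4 0)<|a (b 8 2)<|a (b 7 1)<|c)<|a (a (b 2 1)<|a (b 2 2)<|a (b 7 0)<|a (b 8 0)<|a (b 4 0)<|a (b 8 2)<|a (b 7 2)<|a (b 4 2)<|c)<|a (a (b 5 0)<|a (b 2 0)<|a (b 6 0)<|a (b 8 0)<|a (b 4 0)<|a (b 8 2)<|a (b 7 2)<|a (b 8 1)<|c)<|c))<|
 a (b 10<|b (d 24) (a (a (b 1 0)<|a (b 5 0)<|a (b 2 0)<|a (b 5 1)<|a (b 6 0)<|a (b 7 0)<|a (b 9 0)<|a (b 8 2)<|c)<|c))<|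
 a (b 11<|b (d 24) (a (a (b 5 0)<|a (b 2 0)<|a (b 2 2)<|a (b 7 0)<|a (b 8 0)<|a (b 9 0)<|a (b 10 0)<|a (b 7 2)<|c)<|c))<|
 a (b 13<|b (d 24) (a (a (b 5 0)<|a (b 2 0)<|a (b 5 1)<|a (b 6 0)<|a (b 2 1)<|a (b 8 0)<|a (b 10 0)<|a (b 11 0)<|c)<|a (a (b 1 0)<|a (b 5 0)<|a (b 6 0)<|a (b 8 0)<|a (b 4 0)<|a (b 9 0)<|a (b 10 0)<|a (b 11 2)<|c)<|a (a (b 1 0)<|a (b 2 0)<|a (b 5 1)<|a (b 2 1)<|a (b 2 2)<|a (b 7 0)<|a (b 8 0)<|a (b 11 1)<|c)<|c))<|c))<|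
 a (e 17 (a (b 1 0)<|a (b 5 0)<|a (b 2 0)<|a (b 5 1)<|a (b 6 0)<|a (b 2 1)<|a (b 2 2)<|a (b 4 0)<|a (b 7 0)<|a (b 8 0)<|a (b 9 0)<|a (b 10 0)<|a (b 7 2)<|a (b 11 0)<|a (b 4 1)<|a (b 4 2)<|a (b 11 2)<|a (b 8 2)<|a (b 11 1)<|a (b 5 2)<|a (b 3 0)<|a (b 8 1)<|a (b 7 1)<|a (b 0 0)<|c)
 (a (b 23<|b (a 23<|c) c)<|
 a (b 0<|b (a 0<|c) c)<|
 a (b 2<|b (a 17<|c) c)<|
 a (b 20<|b (d 24) c)<|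
 a (b 7<|b (d 24) (a (a (b 2 0)<|a (b 2 1)<|a (b 2 2)<|a (b 4 0)<|a (b 4 1)<|a (b 4 2)<|a (b 3 0)<|a (b 0 0)<|c)<|c))<|
 a (b 1<|b (d 24) c)<|
 a (b 4<|b (d 24) c)<|
 a (b 8<|b (d 24) (a (a (b 5 0)<|a (b 2 0)<|a (b 2 1)<|a (b 4 0)<|a (b 7 0)<|a (b 7 2)<|a (b 4 1)<|a (b 5 2)<|c)<|a (a (b 1 0)<|a (b 5 0)<|a (b 2 0)<|a (b 6 0)<|a (b 2 2)<|a (b 7 0)<|a (b 4 1)<|a (b 3 0)<|c)<|a (a (b 5 0)<|a (b 5 1)<|a (b 2 1)<|a (b 2 2)<|a (b 7 0)<|a (b 4 1)<|a (b 4 2)<|a (b 7 1)<|c)<|c))<|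
 a (b 9<|b (d 24) (a (a (b 2 0)<|a (b 5 1)<|a (b 6 0)<|a (b 2 1)<|a (b 2 2)<|a (b 8 0)<|a (b 7 2)<|a (b 4 1)<|c)<|a (a (b 2 1)<|a (b 2 2)<|a (b 4 0)<|a (b 7 0)<|a (b 8 0)<|a (b 7 2)<|a (b 4 2)<|a (b 8 2)<|c)<|a (a (b 5 0)<|a (b 2 0)<|a (b 5 1)<|a (b 2 1)<|a (b 4 0)<|a (b 8 0)<|a (b 4 2)<|a (b 8 1)<|c)<|c))<|
 a (b 10<|b (d 24) (a (a (b 1 0)<|a (b 5 0)<|a (b 2 0)<|a (b 5 1)<|a (b 6 0)<|a (b 4 0)<|a (b 9 0)<|a (b 7 2)<|c)<|c))<|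
 a (b 11<|b (d 24) (a (a (b 5 0)<|a (b 2 0)<|a (b 2 2)<|a (b 4 0)<|a (b 7 0)<|a (b 9 0)<|a (b 10 0)<|a (b 4 2)<|c)<|c))<|
 a (b 13<|b (d 24) (a (a (b 5 0)<|a (b 2 0)<|a (b 5 1)<|a (b 6 0)<|a (b 2 1)<|a (b 7 0)<|a (b 10 0)<|a (b 11 0)<|c)<|a (a (b 1 0)<|a (b 5 0)<|a (b 6 0)<|a (b 7 0)<|a (b 8 0)<|a (b 9 0)<|a (b 10 0)<|a (b 11 2)<|c)<|a (a (b 1 0)<|a (b 2 0)<|a (b 5 1)<|a (b 2 1)<|a (b 2 2)<|a (b 4 0)<|a (b 7 0)<|a (b 11 1)<|c)<|c))<|c))<|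
 a (e 21 (a (b 1 0)<|a (b 5 0)<|a (b 2 0)<|a (b 5 1)<|a (b 6 0)<|a (b 2 1)<|a (b 2 2)<|a (b 4 0)<|a (b 7 0)<|a (b 8 0)<|a (b 9 0)<|a (b 10 0)<|a (b 7 2)<|a (b 11 0)<|a (b 4 1)<|a (b 4 2)<|a (b 11 2)<|a (b 8 2)<|a (b 11 1)<|a (b 5 2)<|a (b 3 0)<|a (b 8 1)<|a (b 7 1)<|a (b 0 0)<|c)
 (a (b 23<|b (a 23<|c) c)<|
 a (b 0<|b (a 0<|c) c)<|
 a (b 2<|b (a 21<|c) c)<|
 a (b 20<|b (d 24) c)<|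
 a (b 7<|b (d 24) (a (a (b 2 0)<|a (b 2 1)<|a (b 2 2)<|a (b 4 0)<|a (b 4 1)<|a (b 4 2)<|a (b 3 0)<|a (b 0 0)<|c)<|c))<|
 a (b 1<|b (d 24) c)<|
 a (b 4<|b (d 24) c)<|
 a (b 8<|b (d 24) (a (a (b 5 0)<|a (b 2 0)<|a (b 2 1)<|a (b 4 0)<|a (b 7 0)<|a (b 7 2)<|a (b 4 1)<|a (b 5 2)<|c)<|a (a (b 1 0)<|a (b 5 0)<|a (b 2 0)<|a (b 6 0)<|a (b 2 2)<|a (b 7 0)<|a (b 4 1)<|a (b 3 0)<|c)<|a (a (b 5 0)<|a (b 5 1)<|a (b 2 1)<|a (b 2 2)<|a (b 7 0)<|a (b 4 1)<|a (b 4 2)<|a (b 7 1)<|c)<|c))<|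
 a (b 9<|b (d 24) (a (a (b 2 0)<|a (b 5 1)<|a (b 6 0)<|a (b 2 1)<|a (b 2 2)<|a (b 8 0)<|a (b 7 2)<|a (b 4 1)<|c)<|a (a (b 2 1)<|a (b 2 2)<|a (b 4 0)<|a (b 7 0)<|a (b 8 0)<|a (b 7 2)<|a (b 4 2)<|a (b 8 2)<|c)<|a (a (b 5 0)<|a (b 2 0)<|a (b 5 1)<|a (b 2 1)<|a (b 4 0)<|a (b 8 0)<|a (b 4 2)<|a (b 8 1)<|c)<|c))<|
 a (b 10<|b (d 24) (a (a (b 1 0)<|a (b 5 0)<|a (b 2 0)<|a (b 5 1)<|a (b 6 0)<|a (b 4 0)<|a (b 9 0)<|a (b 7 2)<|c)<|c))<|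
 a (b 11<|b (d 24) (a (a (b 5 0)<|a (b 2 0)<|a (b 2 2)<|a (b 4 0)<|a (b 7 0)<|a (b 9 0)<|a (b 10 0)<|a (b 4 2)<|c)<|c))<|
 a (b 13<|b (d 24) (a (a (b 5 0)<|a (b 2 0)<|a (b 5 1)<|a (b 6 0)<|a (b 2 1)<|a (b 7 0)<|a (b 10 0)<|a (b 11 0)<|c)<|a (a (b 1 0)<|a (b 5 0)<|a (b 6 0)<|a (b 7 0)<|a (b 8 0)<|a (b 9 0)<|a (b 10 0)<|a (b 11 2)<|c)<|a (a (b 1 0)<|a (b 2 0)<|a (b 5 1)<|a (b 2 1)<|a (b 2 2)<|a (b 4 0)<|a (b 7 0)<|a (b 11 1)<|c)<|c))<|c))<|c))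

def r1 : Rec where
  p := 3
  c := 971674527269832880431752993353340000
  a := 958024731874762109918187463328088608
  b := 959726450250151003265118002802236928
  t := [966631849086277357753315706047483072, 971337530596106747084300337098591392, 984818244535754528103549039458486304, 984818244535754528103549039458486304]
  wd := (beta% delta% lq264defae5e fun a b c _ _ =>
 (a (b 1 0)<|a (b 7 0)<|a (b 2 0)<|a (b 7 1)<|a (b 9 0)<|a (b 2 1)<|a (b 2 2)<|a (b 5 0)<|a (b 6 0)<|a (b 4 0)<|a (b 10 0)<|a (b 11 0)<|a (b 6 2)<|a (b 8 0)<|a (b 5 1)<|a (b 5 2)<|a (b 8 2)<|a (b 4 2)<|a (b 8 1)<|a (b 7 2)<|a (b 3 0)<|a (b 4 1)<|a (b 6 1)<|a (b 0 0)<|c))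
  sts := (beta% delta% lq264defae5e fun a b c d _ =>
 (a (b 23<|b (a 23<|c) c)<|
 a (b 0<|b (a 0<|c) c)<|
 a (b 2<|b (a 2<|c) c)<|
 a (b 20<|b (d 24) c)<|
 a (b 9<|b (d 24) (a (a (b 1 0)<|a (b 2 0)<|a (b 2 1)<|a (b 2 2)<|a (b 4 0)<|a (b 4 2)<|a (b 3 0)<|a (b 4 1)<|c)<|c))<|
 a (b 7<|b (d 24) (a (a (b 2 0)<|a (b 2 1)<|a (b 2 2)<|a (b 5 0)<|a (b 5 1)<|a (b 5 2)<|a (b 3 0)<|a (b 0 0)<|c)<|c))<|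
 a (b 8<|b (d 24) (a (a (b 2 1)<|a (b 2 2)<|a (b 5 0)<|a (b 6 0)<|a (b 4 0)<|a (b 6 2)<|a (b 5 2)<|a (b 4 2)<|c)<|a (a (b 1 0)<|a (b 2 2)<|a (b 4 0)<|a (b 6 2)<|a (b 5 1)<|a (b 5 2)<|a (b 3 0)<|a (b 6 1)<|c)<|c))<|
 a (b 1<|b (d 24) (a (a (b 7 0)<|a (b 2 0)<|a (b 2 1)<|a (b 5 0)<|a (b 6 0)<|a (b 6 2)<|a (b 5 1)<|a (b 7 2)<|c)<|a (a (b 1 0)<|a (b 7 0)<|a (b 7 1)<|a (b 2 1)<|a (b 6 0)<|a (b 4 0)<|a (b 6 2)<|a (b 3 0)<|c)<|c))<|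
 a (b 13<|b (d 24) (a (a (b 1 0)<|a (b 7 0)<|a (b 2 0)<|a (b 2 1)<|a (b 2 2)<|a (b 6 2)<|a (b 8 0)<|a (b 5 2)<|c)<|a (a (b 7 0)<|a (b 2 0)<|a (b 7 1)<|a (b 2 2)<|a (b 5 0)<|a (b 8 0)<|a (b 5 1)<|a (b 8 2)<|c)<|a (a (b 1 0)<|a (b 2 0)<|a (b 7 1)<|a (b 2 1)<|a (b 2 2)<|a (b 5 0)<|a (b 6 0)<|a (b 8 1)<|c)<|c))<|
 a (b 4<|b (d 24) (a (a (b 2 0)<|a (b 7 1)<|a (b 9 0)<|a (b 2 1)<|a (b 2 2)<|a (b 4 0)<|a (b 6 2)<|a (b 5 1)<|c)<|c))<|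
 a (b 10<|b (d 24) (a (a (b 1 0)<|a (b 7 0)<|a (b 2 0)<|a (b 7 1)<|a (b 9 0)<|a (b 5 0)<|a (b 10 0)<|a (b 6 2)<|c)<|c))<|
 a (b 11<|b (d 24) (a (a (b 7 0)<|a (b 2 0)<|a (b 7 1)<|a (b 9 0)<|a (b 2 1)<|a (b 6 0)<|a (b 11 0)<|a (b 8 0)<|c)<|c))<|c))
  fib := [f1_0]
  n := 36

def r2 : Rec where
  p := 4
  c := 976721369067768948096133406861728160
  a := 964836884573763795133280541652507168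
  b := 982129111478908961202207307898163776
  t := [981940260449521198767676458684353088, 978325340827054090073317635410827488, 984818244535754528103549039458486304, 984818244535754528103549039458486304]
  wd := (beta% delta% lq264defae5e fun a b c _ _ =>
 (a (b 1 0)<|a (b 9 0)<|a (b 7 0)<|a (b 6 0)<|a (b 5 0)<|a (b 5 1)<|a (b 7 1)<|a (b 8 0)<|a (b 4 0)<|a (b 4 3)<|a (b 2 0)<|a (b 3 0)<|a (b 4 1)<|a (b 9 1)<|a (b 6 2)<|a (b 6 3)<|a (b 8 3)<|a (b 9 2)<|a (b 8 1)<|a (b 4 2)<|a (b 9 3)<|a (b 6 1)<|a (b 8 2)<|a (b 0 0)<|c))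
  sts := (beta% delta% lq264defae5e fun a b c d _ =>
 (a (b 23<|b (a 23<|c) c)<|
 a (b 0<|b (a 0<|c) c)<|
 a (b 10<|b (d 24) c)<|
 a (b 11<|b (d 24) c)<|
 a (b 8<|b (d 24) c)<|
 a (b 4<|b (d 24) (a (a (b 5 0)<|a (b 5 1)<|a (b 4 0)<|a (b 4 3)<|a (b 3 0)<|a (b 4 1)<|a (b 4 2)<|a (b 0 0)<|c)<|c))<|
 a (b 3<|b (d 24) (a (a (b 1 0)<|a (b 6 0)<|a (b 5 0)<|a (b 5 1)<|a (b 4 0)<|a (b 2 0)<|a (b 6 2)<|a (b 4 2)<|c)<|a (a (b 1 0)<|a (b 5 0)<|a (b 5 1)<|a (b 4 3)<|a (b 2 0)<|a (b 4 1)<|a (b 6 3)<|a (b 6 1)<|c)<|c))<|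
 a (b 2<|b (d 24) (a (a (b 7 0)<|a (b 6 0)<|a (b 5 0)<|a (b 5 1)<|a (b 7 1)<|a (b 4 3)<|a (b 4 1)<|a (b 6 2)<|c)<|a (a (b 1 0)<|a (b 6 0)<|a (b 5 0)<|a (b 7 1)<|a (b 4 0)<|a (b 3 0)<|a (b 4 1)<|a (b 6 3)<|c)<|c))<|
 a (b 7<|b (d 24) (a (a (b 7 0)<|a (b 6 0)<|a (b 8 0)<|a (b 4 0)<|a (b 4 3)<|a (b 3 0)<|a (b 4 1)<|a (b 8 3)<|c)<|a (a (b 1 0)<|a (b 7 0)<|a (b 6 0)<|a (b 5 1)<|a (b 7 1)<|a (b 8 0)<|a (b 4 0)<|a (b 8 1)<|c)<|a (a (b 5 0)<|a (b 7 1)<|a (b 8 0)<|a (b 4 3)<|a (b 2 0)<|a (b 3 0)<|a (b 4 1)<|a (b 8 2)<|c)<|c))<|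
 a (b 1<|b (d 24) (a (a (b 1 0)<|a (b 9 0)<|a (b 7 0)<|a (b 6 0)<|a (b 5 0)<|a (b 8 0)<|a (b 2 0)<|a (b 4 1)<|c)<|a (a (b 9 0)<|a (b 7 0)<|a (b 6 0)<|a (b 5 0)<|a (b 5 1)<|a (b 4 0)<|a (b 3 0)<|a (b 9 1)<|c)<|a (a (b 1 0)<|a (b 6 0)<|a (b 5 0)<|a (b 5 1)<|a (b 8 0)<|a (b 4 3)<|a (b 3 0)<|a (b 9 2)<|c)<|a (a (b 7 0)<|a (b 5 0)<|a (b 5 1)<|a (b 8 0)<|a (b 4 0)<|a (b 4 3)<|a (b 2 0)<|a (b 9 3)<|c)<|c))<|c))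
  fib := []
  n := 16

def r3 : Rec where
  p := 4
  c := 968617185868928776273660872791459424
  a := 966063913364347907258615288729024896
  b := 967782039983107010455843646109523136
  t := [984194560199829098639614076839364832, 969240639698959892833163127799783008, 984818244535754528103549039458486304, 984818244535754528103549039458486304]
  wd := (beta% delta% lq264defae5e fun a b c _ _ =>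
 (a (b 1 0)<|a (b 5 0)<|a (b 5 3)<|a (b 4 0)<|a (b 6 0)<|a (b 7 0)<|a (b 9 0)<|a (b 5 2)<|a (b 6 3)<|a (b 2 0)<|a (b 8 0)<|a (b 4 3)<|a (b 6 1)<|a (b 7 3)<|a (b 7 2)<|a (b 7 1)<|a (b 3 0)<|a (b 4 1)<|a (b 4 2)<|a (b 5 1)<|a (b 6 2)<|a (b 9 1)<|a (b 8 1)<|a (b 0 0)<|c))
  sts := (beta% delta% lq264defae5e fun a b c d _ =>
 (a (b 23<|b (a 23<|c) c)<|
 a (b 0<|b (a 0<|c) c)<|
 a (b 9<|b (d 24) c)<|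
 a (b 16<|b (d 24) c)<|
 a (b 3<|b (d 24) c)<|
 a (b 1<|b (d 24) (a (a (b 5 0)<|a (b 5 3)<|a (b 4 0)<|a (b 5 2)<|a (b 4 3)<|a (b 4 1)<|a (b 4 2)<|a (b 5 1)<|c)<|a (a (b 1 0)<|a (b 5 0)<|a (b 4 0)<|a (b 5 2)<|a (b 2 0)<|a (b 3 0)<|a (b 4 2)<|a (b 0 0)<|c)<|c))<|
 a (b 4<|b (d 24) (a (a (b 5 3)<|a (b 4 0)<|a (b 5 2)<|a (b 6 3)<|a (b 2 0)<|a (b 4 3)<|a (b 6 1)<|a (b 3 0)<|c)<|a (a (b 5 0)<|a (b 6 0)<|a (b 5 2)<|a (b 6 3)<|a (b 4 3)<|a (b 6 1)<|a (b 4 1)<|a (b 6 2)<|c)<|c))<|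
 a (b 5<|b (d 24) (a (a (b 5 0)<|a (b 5 3)<|a (b 4 0)<|a (b 6 0)<|a (b 7 0)<|a (b 6 3)<|a (b 4 3)<|a (b 7 3)<|c)<|a (a (b 1 0)<|a (b 5 3)<|a (b 7 0)<|a (b 6 3)<|a (b 2 0)<|a (b 4 3)<|a (b 7 2)<|a (b 7 1)<|c)<|a (a (b 1 0)<|a (b 4 0)<|a (b 6 0)<|a (b 7 0)<|a (b 5 2)<|a (b 2 0)<|a (b 4 3)<|a (b 4 1)<|c)<|a (a (b 1 0)<|a (b 6 0)<|a (b 5 2)<|a (b 6 3)<|a (b 2 0)<|a (b 6 1)<|a (b 7 2)<|a (b 4 2)<|c)<|c))<|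
 a (b 10<|b (d 24) (a (a (b 1 0)<|a (b 5 0)<|a (b 5 3)<|a (b 4 0)<|a (b 6 0)<|a (b 5 2)<|a (b 8 0)<|a (b 6 1)<|c)<|a (a (b 5 3)<|a (b 4 0)<|a (b 7 0)<|a (b 5 2)<|a (b 8 0)<|a (b 4 3)<|a (b 7 2)<|a (b 8 1)<|c)<|c))<|
 a (b 6<|b (d 24) (a (a (b 1 0)<|a (b 5 0)<|a (b 7 0)<|a (b 9 0)<|a (b 5 2)<|a (b 2 0)<|a (b 8 0)<|a (b 7 2)<|c)<|a (a (b 4 0)<|a (b 7 0)<|a (b 9 0)<|a (b 6 3)<|a (b 2 0)<|a (b 8 0)<|a (b 4 3)<|a (b 9 1)<|c)<|c))<|c))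
  fib := []
  n := 32

def r4 : Rec where
  p := 5
  c := 963956304443641300529522121529536576
  a := 977533120643199375094181956072869152
  b := 957436664390909697062839374473386464
  t := [984067557695403189637163205127740896, 970196953300861677930843264073707744, 984818244535754528103549039458486304, 984818244535754528103549039458486304]
  wd := (beta% delta% lq264defae5e fun a b c _ _ =>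
 (a (b 1 0)<|a (b 7 0)<|a (b 7 1)<|a (b 5 0)<|a (b 4 0)<|a (b 6 0)<|a (b 4 4)<|a (b 7 3)<|a (b 6 2)<|a (b 6 3)<|a (b 6 1)<|a (b 4 2)<|a (b 7 2)<|a (b 5 4)<|a (b 5 3)<|a (b 7 4)<|a (b 3 0)<|a (b 2 0)<|a (b 6 4)<|a (b 5 2)<|a (b 4 1)<|a (b 5 1)<|a (b 4 3)<|a (b 0 0)<|c))
  sts := (beta% delta% lq264defae5e fun a b c d _ =>
 (a (b 23<|b (a 23<|c) c)<|
 a (b 0<|b (a 0<|c) c)<|
 a (b 17<|b (d 24) c)<|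
 a (b 16<|b (d 24) c)<|
 a (b 4<|b (d 24) (a (a (b 1 0)<|a (b 4 0)<|a (b 4 4)<|a (b 4 2)<|a (b 3 0)<|a (b 2 0)<|a (b 4 1)<|a (b 4 3)<|c)<|c))<|
 a (b 3<|b (d 24) (a (a (b 1 0)<|a (b 5 0)<|a (b 5 4)<|a (b 5 3)<|a (b 3 0)<|a (b 5 2)<|a (b 5 1)<|a (b 0 0)<|c)<|c))<|
 a (b 5<|b (d 24) (a (a (b 1 0)<|a (b 5 0)<|a (b 4 4)<|a (b 6 2)<|a (b 6 3)<|a (b 5 3)<|a (b 3 0)<|a (b 2 0)<|c)<|a (a (b 4 0)<|a (b 6 0)<|a (b 6 3)<|a (b 6 1)<|a (b 4 2)<|a (b 5 4)<|a (b 5 3)<|a (b 6 4)<|c)<|a (a (b 1 0)<|a (b 5 0)<|a (b 4 0)<|a (b 6 0)<|a (b 6 2)<|a (b 6 1)<|a (b 5 3)<|a (b 5 2)<|c)<|a (a (b 1 0)<|a (b 5 0)<|a (b 6 0)<|a (b 4 4)<|a (b 4 2)<|a (b 5 4)<|a (b 5 3)<|a (b 4 1)<|c)<|a (a (b 5 0)<|a (b 6 0)<|a (b 4 4)<|a (b 6 2)<|a (b 6 3)<|a (b 6 1)<|a (b 4 2)<|a (b 5 1)<|c)<|c))<|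
 a (b 1<|b (d 24) (a (a (b 1 0)<|a (b 7 0)<|a (b 7 1)<|a (b 5 0)<|a (b 4 0)<|a (b 7 3)<|a (b 6 1)<|a (b 7 2)<|c)<|a (a (b 7 0)<|a (b 7 1)<|a (b 5 0)<|a (b 4 0)<|a (b 6 0)<|a (b 6 2)<|a (b 4 2)<|a (b 5 4)<|c)<|a (a (b 1 0)<|a (b 7 0)<|a (b 6 0)<|a (b 4 4)<|a (b 7 3)<|a (b 6 3)<|a (b 6 1)<|a (b 5 3)<|c)<|a (a (b 7 0)<|a (b 7 1)<|a (b 4 4)<|a (b 7 3)<|a (b 6 2)<|a (b 6 1)<|a (b 4 2)<|a (b 7 4)<|c)<|a (a (b 1 0)<|a (b 7 0)<|a (b 4 0)<|a (b 6 2)<|a (b 6 3)<|a (b 6 1)<|a (b 4 2)<|a (b 3 0)<|c)<|c))<|c))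
  fib := []
  n := 5

def r5 : Rec where
  p := 6
  c := 974265648109078940214804430252913312
  a := 971095748680487318554151696990353984
  b := 963215800885813202539522981773025728
  t := [973606461760135017242396451293777568, 984650895008759490611503713509263392, 984818244535754528103549039458486304, 984818244535754528103549039458486304]
  wd := (beta% delta% lq264defae5e fun a b c _ _ =>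
 (a (b 1 0)<|a (b 7 0)<|a (b 4 0)<|a (b 2 0)<|a (b 2 4)<|a (b 2 5)<|a (b 3 0)<|a (b 2 2)<|a (b 5 0)<|a (b 4 2)<|a (b 2 3)<|a (b 4 3)<|a (b 4 1)<|a (b 3 1)<|a (b 6 0)<|a (b 2 1)<|a (b 5 2)<|a (b 7 2)<|a (b 4 4)<|a (b 4 5)<|a (b 5 1)<|a (b 7 1)<|a (b 6 1)<|a (b 0 0)<|c))
  sts := (beta% delta% lq264defae5e fun a b c d _ =>
 (a (b 23<|b (a 23<|c) c)<|
 a (b 0<|b (a 0<|c) c)<|
 a (b 3<|b (d 24) c)<|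
 a (b 6<|b (d 24) (a (a (b 2 0)<|a (b 2 4)<|a (b 2 5)<|a (b 3 0)<|a (b 2 2)<|a (b 2 3)<|a (b 3 1)<|a (b 2 1)<|c)<|c))<|
 a (b 2<|b (d 24) (a (a (b 4 0)<|a (b 2 0)<|a (b 3 0)<|a (b 2 3)<|a (b 4 3)<|a (b 4 1)<|a (b 3 1)<|a (b 4 4)<|c)<|a (a (b 4 0)<|a (b 2 5)<|a (b 3 0)<|a (b 2 2)<|a (b 4 2)<|a (b 4 3)<|a (b 3 1)<|a (b 4 5)<|c)<|a (a (b 1 0)<|a (b 4 0)<|a (b 2 4)<|a (b 2 5)<|a (b 3 0)<|a (b 2 3)<|a (b 4 3)<|a (b 0 0)<|c)<|c))<|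
 a (b 8<|b (d 24) (a (a (b 1 0)<|a (b 2 5)<|a (b 2 2)<|a (b 5 0)<|a (b 2 3)<|a (b 4 3)<|a (b 4 1)<|a (b 3 1)<|c)<|a (a (b 4 0)<|a (b 2 0)<|a (b 2 2)<|a (b 5 0)<|a (b 4 2)<|a (b 4 3)<|a (b 4 1)<|a (b 5 2)<|c)<|a (a (b 4 0)<|a (b 2 4)<|a (b 2 5)<|a (b 2 2)<|a (b 5 0)<|a (b 4 2)<|a (b 2 3)<|a (b 5 1)<|c)<|c))<|
 a (b 14<|b (d 24) (a (a (b 4 0)<|a (b 2 0)<|a (b 2 4)<|a (b 2 5)<|a (b 3 0)<|a (b 4 2)<|a (b 4 1)<|a (b 6 0)<|c)<|a (a (b 2 4)<|a (b 3 0)<|a (b 2 2)<|a (b 4 2)<|a (b 2 3)<|a (b 4 3)<|a (b 4 1)<|a (b 6 1)<|c)<|c))<|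
 a (b 1<|b (d 24) (a (a (b 1 0)<|a (b 7 0)<|a (b 4 0)<|a (b 2 0)<|a (b 2 4)<|a (b 2 2)<|a (b 2 3)<|a (b 4 1)<|c)<|a (a (b 1 0)<|a (b 2 0)<|a (b 2 4)<|a (b 2 5)<|a (b 2 2)<|a (b 4 2)<|a (b 4 3)<|a (b 7 2)<|c)<|a (a (b 2 0)<|a (b 2 5)<|a (b 3 0)<|a (b 5 0)<|a (b 4 2)<|a (b 2 3)<|a (b 4 3)<|a (b 7 1)<|c)<|c))<|c))
  fib := []
  n := 12

def r6 : Rec where
  p := 7
  c := 961068877354262454538544732454554656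
  a := 961940324688536376250042232131300960
  b := 973125302396616786144685540391437344
  t := [960884477435128931241433760505432096, 978288180344178655415768347585978720, 984047037291180602505319756197188640, 967924247449819227785617513283564992]
  wd := (beta% delta% lq264defae5e fun a b c _ _ =>
 (a (b 1 0)<|a (b 2 0)<|a (b 5 0)<|a (b 5 1)<|a (b 3 0)<|a (b 3 4)<|a (b 4 0)<|a (b 3 5)<|a (b 5 5)<|a (b 5 2)<|a (b 5 6)<|a (b 3 1)<|a (b 4 6)<|a (b 3 2)<|a (b 5 3)<|a (b 4 1)<|a (b 4 3)<|a (b 4 2)<|a (b 5 4)<|a (b 4 4)<|a (b 3 3)<|a (b 4 5)<|a (b 3 6)<|a (b 0 0)<|c))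
  sts := (beta% delta% lq264defae5e fun a b c d _ =>
 (a (b 23<|b (a 23<|c) c)<|
 a (b 0<|b (a 0<|c) c)<|
 a (b 1<|b (d 24) c)<|
 a (b 4<|b (d 24) (a (a (b 3 0)<|a (b 3 4)<|a (b 3 5)<|a (b 3 1)<|a (b 3 2)<|a (b 3 3)<|a (b 3 6)<|a (b 0 0)<|c)<|c))<|
 a (b 6<|b (d 24) (a (a (b 1 0)<|a (b 3 0)<|a (b 3 4)<|a (b 3 1)<|a (b 3 2)<|a (b 4 1)<|a (b 4 3)<|a (b 4 4)<|c)<|a (a (b 4 0)<|a (b 3 5)<|a (b 3 1)<|a (b 4 6)<|a (b 3 2)<|a (b 4 1)<|a (b 4 3)<|a (b 3 3)<|c)<|a (a (b 3 0)<|a (b 3 4)<|a (b 4 0)<|a (b 3 1)<|a (b 4 6)<|a (b 3 2)<|a (b 4 2)<|a (b 4 5)<|c)<|a (a (b 1 0)<|a (b 3 0)<|a (b 3 5)<|a (b 4 6)<|a (b 3 2)<|a (b 4 1)<|a (b 4 2)<|a (b 3 6)<|c)<|c))<|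
 a (b 2<|b (d 24) (a (a (b 1 0)<|a (b 2 0)<|a (b 5 0)<|a (b 5 1)<|a (b 3 0)<|a (b 3 5)<|a (b 5 6)<|a (b 4 6)<|c)<|a (a (b 2 0)<|a (b 5 0)<|a (b 5 1)<|a (b 3 0)<|a (b 3 4)<|a (b 5 5)<|a (b 3 1)<|a (b 3 2)<|c)<|a (a (b 1 0)<|a (b 2 0)<|a (b 3 4)<|a (b 4 0)<|a (b 3 5)<|a (b 5 2)<|a (b 5 6)<|a (b 5 3)<|c)<|a (a (b 2 0)<|a (b 5 0)<|a (b 4 0)<|a (b 3 5)<|a (b 5 5)<|a (b 5 6)<|a (b 3 1)<|a (b 4 1)<|c)<|a (a (b 1 0)<|a (b 2 0)<|a (b 3 0)<|a (b 5 5)<|a (b 5 2)<|a (b 5 6)<|a (b 3 1)<|a (b 4 3)<|c)<|a (a (b 1 0)<|a (b 5 1)<|a (b 3 0)<|a (b 3 4)<|a (b 3 5)<|a (b 5 2)<|a (b 3 1)<|a (b 4 2)<|c)<|a (a (b 1 0)<|a (b 5 0)<|a (b 5 1)<|a (b 3 4)<|a (b 4 0)<|a (b 3 5)<|a (b 5 5)<|a (b 5 4)<|c)<|c))<|c))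
  fib := []
  n := 7

def r7 : Rec where
  p := 7
  c := 972301492090467176557215791638463008
  a := 970214834983256241005328025581234240
  b := 958202687267880581578388907572450624
  t := [984802378476862084643019760215902752, 973122887587861701392823884636653600, 984511178447253103018526886167072800, 978305709576370163022008173360465952]
  wd := (beta% delta% lq264defae5e fun a b c _ _ =>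
 (a (b 1 0)<|a (b 5 0)<|a (b 3 0)<|a (b 4 0)<|a (b 4 4)<|a (b 3 2)<|a (b 5 5)<|a (b 4 5)<|a (b 4 6)<|a (b 2 0)<|a (b 4 2)<|a (b 4 3)<|a (b 3 3)<|a (b 5 4)<|a (b 5 2)<|a (b 3 4)<|a (b 3 1)<|a (b 5 1)<|a (b 4 1)<|a (b 3 5)<|a (b 3 6)<|a (b 5 6)<|a (b 5 3)<|a (b 0 0)<|c))
  sts := (beta% delta% lq264defae5e fun a b c d _ =>
 (a (b 23<|b (a 23<|c) c)<|
 a (b 0<|b (a 0<|c) c)<|
 a (b 9<|b (d 24) c)<|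
 a (b 2<|b (d 24) (a (a (b 3 0)<|a (b 3 2)<|a (b 2 0)<|a (b 3 3)<|a (b 3 4)<|a (b 3 1)<|a (b 3 5)<|a (b 3 6)<|c)<|c))<|
 a (b 3<|b (d 24) (a (a (b 3 0)<|a (b 4 0)<|a (b 4 5)<|a (b 4 6)<|a (b 2 0)<|a (b 4 3)<|a (b 3 3)<|a (b 3 1)<|c)<|a (a (b 3 0)<|a (b 4 4)<|a (b 3 2)<|a (b 4 5)<|a (b 4 3)<|a (b 3 3)<|a (b 3 4)<|a (b 4 1)<|c)<|a (a (b 3 0)<|a (b 4 0)<|a (b 4 4)<|a (b 2 0)<|a (b 4 2)<|a (b 4 3)<|a (b 3 4)<|a (b 3 5)<|c)<|a (a (b 3 0)<|a (b 4 0)<|a (b 3 2)<|a (b 4 6)<|a (b 4 2)<|a (b 3 3)<|a (b 3 4)<|a (b 0 0)<|c)<|c))<|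
 a (b 1<|b (d 24) (a (a (b 1 0)<|a (b 5 0)<|a (b 3 0)<|a (b 4 0)<|a (b 4 4)<|a (b 4 5)<|a (b 4 2)<|a (b 3 3)<|c)<|a (a (b 5 0)<|a (b 3 0)<|a (b 4 0)<|a (b 4 4)<|a (b 3 2)<|a (b 4 6)<|a (b 4 3)<|a (b 5 4)<|c)<|a (a (b 1 0)<|a (b 5 0)<|a (b 3 2)<|a (b 5 5)<|a (b 4 5)<|a (b 2 0)<|a (b 4 2)<|a (b 5 2)<|c)<|a (a (b 5 0)<|a (b 3 0)<|a (b 5 5)<|a (b 4 5)<|a (b 4 6)<|a (b 4 2)<|a (b 4 3)<|a (b 3 4)<|c)<|a (a (b 1 0)<|a (b 4 0)<|a (b 4 4)<|a (b 3 2)<|a (b 4 5)<|a (b 2 0)<|a (b 4 3)<|a (b 5 1)<|c)<|a (a (b 4 0)<|a (b 3 2)<|a (b 5 5)<|a (b 4 6)<|a (b 2 0)<|a (b 4 2)<|a (b 4 3)<|a (b 5 6)<|c)<|a (a (b 1 0)<|a (b 5 0)<|a (b 3 0)<|a (b 4 0)<|a (b 5 5)<|a (b 2 0)<|a (b 4 3)<|a (b 5 3)<|c)<|c))<|c))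
  fib := []
  n := 7

def r8 : Rec where
  p := 8
  c := 971068790014835402623168903417832896
  a := 958412522476133252206722636352360064
  b := 959948187747593066336673665568548896
  t := [962263927365024076866113962913140928, 973725587531049923986923607544630880, 979605670025608069816178973830392160, 970516589341703275024746955868852800]
  wd := (beta% delta% lq264defae5e fun a b c _ _ =>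
 (a (b 1 0)<|a (b 2 0)<|a (b 4 0)<|a (b 5 0)<|a (b 5 1)<|a (b 2 2)<|a (b 3 0)<|a (b 2 5)<|a (b 4 2)<|a (b 4 1)<|a (b 2 7)<|a (b 2 4)<|a (b 3 5)<|a (b 2 6)<|a (b 2 1)<|a (b 3 6)<|a (b 2 3)<|a (b 3 2)<|a (b 3 1)<|a (b 3 7)<|a (b 3 3)<|a (b 4 3)<|a (b 3 4)<|a (b 0 0)<|c))
  sts := (beta% delta% lq264defae5e fun a b c d _ =>
 (a (b 23<|b (a 23<|c) c)<|
 a (b 0<|b (a 0<|c) c)<|
 a (b 1<|b (d 24) c)<|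
 a (b 6<|b (d 24) (a (a (b 2 0)<|a (b 2 2)<|a (b 2 5)<|a (b 2 4)<|a (b 2 6)<|a (b 2 1)<|a (b 3 6)<|a (b 3 2)<|c)<|a (a (b 2 0)<|a (b 2 5)<|a (b 2 7)<|a (b 2 4)<|a (b 3 5)<|a (b 2 1)<|a (b 2 3)<|a (b 3 1)<|c)<|a (a (b 2 2)<|a (b 3 0)<|a (b 2 7)<|a (b 2 4)<|a (b 3 5)<|a (b 2 1)<|a (b 3 6)<|a (b 3 7)<|c)<|a (a (b 3 0)<|a (b 2 5)<|a (b 2 4)<|a (b 3 5)<|a (b 2 6)<|a (b 3 6)<|a (b 2 3)<|a (b 3 3)<|c)<|a (a (b 2 0)<|a (b 2 2)<|a (b 3 0)<|a (b 2 7)<|a (b 2 4)<|a (b 2 6)<|a (b 2 3)<|a (b 3 4)<|c)<|a (a (b 1 0)<|a (b 2 0)<|a (b 3 0)<|a (b 2 4)<|a (b 2 1)<|a (b 3 6)<|a (b 2 3)<|a (b 0 0)<|c)<|c))<|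
 a (b 2<|b (d 24) (a (a (b 1 0)<|a (b 2 2)<|a (b 2 5)<|a (b 4 2)<|a (b 2 7)<|a (b 2 4)<|a (b 3 5)<|a (b 2 6)<|c)<|a (a (b 1 0)<|a (b 2 0)<|a (b 2 2)<|a (b 3 0)<|a (b 2 5)<|a (b 4 1)<|a (b 2 7)<|a (b 2 1)<|c)<|a (a (b 2 0)<|a (b 4 0)<|a (b 3 0)<|a (b 2 5)<|a (b 4 2)<|a (b 2 7)<|a (b 2 4)<|a (b 3 6)<|c)<|a (a (b 4 0)<|a (b 2 2)<|a (b 3 0)<|a (b 2 5)<|a (b 2 7)<|a (b 3 5)<|a (b 2 3)<|a (b 4 3)<|c)<|c))<|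
 a (b 3<|b (d 24) (a (a (b 1 0)<|a (b 2 0)<|a (b 4 0)<|a (b 5 0)<|a (b 5 1)<|a (b 2 5)<|a (b 2 7)<|a (b 3 5)<|c)<|a (a (b 1 0)<|a (b 2 0)<|a (b 5 1)<|a (b 4 2)<|a (b 4 1)<|a (b 2 7)<|a (b 2 4)<|a (b 2 3)<|c)<|c))<|c))
  fib := []
  n := 8

def r9 : Rec where
  p := 11
  c := 973927421301535459106453854890594400
  a := 979246597933553336670317313738853792
  b := 981752791284690327151456701781714272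
  t := [967943061867697167667550076567734304, 984555825605089698432431076887901216, 984721978136738731986858641841030208, 983559493361839570066624664967418912]
  wd := (beta% delta% lq264defae5e fun a b c _ _ =>
 (a (b 1 0)<|a (b 2 0)<|a (b 2 5)<|a (b 2 1)<|a (b 2 6)<|a (b 2 10)<|a (b 2 4)<|a (b 3 0)<|a (b 3 6)<|a (b 3 2)<|a (b 3 9)<|a (b 2 2)<|a (b 3 8)<|a (b 3 10)<|a (b 2 8)<|a (b 3 7)<|a (b 2 3)<|a (b 3 4)<|a (b 3 3)<|a (b 3 5)<|a (b 2 9)<|a (b 3 1)<|a (b 2 7)<|a (b 0 0)<|c))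
  sts := (beta% delta% lq264defae5e fun a b c d _ =>
 (a (b 23<|b (a 23<|c) c)<|
 a (b 0<|b (a 0<|c) c)<|
 a (b 1<|b (d 24) (a (a (b 2 0)<|a (b 2 5)<|a (b 2 1)<|a (b 2 6)<|a (b 2 10)<|a (b 2 4)<|a (b 2 2)<|a (b 2 8)<|a (b 2 3)<|a (b 2 9)<|a (b 2 7)<|a (b 0 0)<|c)<|c))<|
 a (b 7<|b (d 24) (a (a (b 1 0)<|a (b 2 0)<|a (b 2 5)<|a (b 2 1)<|a (b 2 6)<|a (b 3 0)<|a (b 3 9)<|a (b 3 8)<|c)<|a (a (b 2 0)<|a (b 2 5)<|a (b 2 1)<|a (b 2 6)<|a (b 2 10)<|a (b 3 6)<|a (b 2 2)<|a (b 3 10)<|c)<|a (a (b 1 0)<|a (b 2 0)<|a (b 2 10)<|a (b 2 4)<|a (b 3 0)<|a (b 3 2)<|a (b 3 9)<|a (b 2 8)<|c)<|a (a (b 2 0)<|a (b 2 5)<|a (b 2 4)<|a (b 3 0)<|a (b 3 6)<|a (b 3 9)<|a (b 2 2)<|a (b 3 7)<|c)<|a (a (b 1 0)<|a (b 2 0)<|a (b 2 6)<|a (b 3 6)<|a (b 3 2)<|a (b 3 9)<|a (b 2 2)<|a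 (b 2 3)<|c)<|a (a (b 1 0)<|a (b 2 1)<|a (b 2 6)<|a (b 2 10)<|a (b 3 0)<|a (b 3 2)<|a (b 2 2)<|a (b 3 4)<|c)<|a (a (b 1 0)<|a (b 2 5)<|a (b 2 1)<|a (b 2 10)<|a (b 2 4)<|a (b 3 0)<|a (b 3 6)<|a (b 3 3)<|c)<|a (a (b 2 0)<|a (b 2 1)<|a (b 2 6)<|a (b 2 4)<|a (b 3 0)<|a (b 3 6)<|a (b 3 2)<|a (b 3 5)<|c)<|a (a (b 2 5)<|a (b 2 6)<|a (b 2 10)<|a (b 3 0)<|a (b 3 6)<|a (b 3 2)<|a (b 3 9)<|a (b 2 9)<|c)<|a (a (b 2 1)<|a (b 2 10)<|a (b 2 4)<|a (b 3 6)<|a (b 3 2)<|a (b 3 9)<|a (b 2 2)<|a (b 3 1)<|c)<|a (a (b 1 0)<|a (b 2 0)<|a (b 2 5)<|a (b 2 1)<|a (b 2 4)<|a (b 3 2)<|a (b 2 2)<|a (b 2 7)<|c)<|c))<|c))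
  fib := []
  n := 11

def r10 : Rec where
  p := 11
  c := 968530233104700586423409967985410496
  a := 975310780396649886609434996583421024
  b := 963877470596527958470716610518270624
  t := [970050117505640693923058692703490368, 979034672736082565694602575684522304, 969021416083764133459847312754444672, 984232233431490913630068531325373600]
  wd := (beta% delta% lq264defae5e fun a b c _ _ =>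
 (a (b 1 0)<|a (b 2 0)<|a (b 2 6)<|a (b 3 0)<|a (b 3 5)<|a (b 2 9)<|a (b 3 7)<|a (b 2 8)<|a (b 3 6)<|a (b 3 8)<|a (b 2 4)<|a (b 3 2)<|a (b 2 10)<|a (b 2 5)<|a (b 2 1)<|a (b 3 3)<|a (b 2 7)<|a (b 2 2)<|a (b 3 1)<|a (b 3 9)<|a (b 3 10)<|a (b 3 4)<|a (b 2 3)<|a (b 0 0)<|c))
  sts := (beta% delta% lq264defae5e fun a b c d _ =>
 (a (b 23<|b (a 23<|c) c)<|
 a (b 0<|b (a 0<|c) c)<|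
 a (b 1<|b (d 24) (a (a (b 1 0)<|a (b 2 0)<|a (b 2 6)<|a (b 2 9)<|a (b 2 8)<|a (b 2 4)<|a (b 2 10)<|a (b 2 5)<|a (b 2 1)<|a (b 2 7)<|a (b 2 2)<|a (b 2 3)<|c)<|c))<|
 a (b 3<|b (d 24) (a (a (b 1 0)<|a (b 2 0)<|a (b 2 6)<|a (b 3 0)<|a (b 3 5)<|a (b 2 8)<|a (b 2 4)<|a (b 2 10)<|c)<|a (a (b 2 0)<|a (b 2 6)<|a (b 3 0)<|a (b 3 5)<|a (b 2 9)<|a (b 3 6)<|a (b 3 2)<|a (b 2 5)<|c)<|a (a (b 1 0)<|a (b 2 0)<|a (b 2 9)<|a (b 3 7)<|a (b 2 8)<|a (b 3 8)<|a (b 2 4)<|a (b 2 1)<|c)<|a (a (b 2 0)<|a (b 2 6)<|a (b 3 7)<|a (b 2 8)<|a (b 3 6)<|a (b 2 4)<|a (b 3 2)<|a (b 3 3)<|c)<|a (a (b 1 0)<|a (b 2 0)<|a (b 3 5)<|a (b 3 6)<|a (b 3 8)<|a (b 2 4)<|a (b 3 2)<|a (b 2 7)<|c)<|a (a (b 1 0)<|a (b 3 0)<|a (b 3 5)<|a (b 2 9)<|a (b 2 8)<|a (b 3 8)<|a (b 3 2)<|a (b 2 2)<|c)<|a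 (a (b 1 0)<|a (b 2 6)<|a (b 3 0)<|a (b 2 9)<|a (b 3 7)<|a (b 2 8)<|a (b 3 6)<|a (b 3 1)<|c)<|a (a (b 2 0)<|a (b 3 0)<|a (b 3 5)<|a (b 3 7)<|a (b 2 8)<|a (b 3 6)<|a (b 3 8)<|a (b 3 9)<|c)<|a (a (b 2 6)<|a (b 3 5)<|a (b 2 9)<|a (b 2 8)<|a (b 3 6)<|a (b 3 8)<|a (b 2 4)<|a (b 3 10)<|c)<|a (a (b 3 0)<|a (b 2 9)<|a (b 3 7)<|a (b 3 6)<|a (b 3 8)<|a (b 2 4)<|a (b 3 2)<|a (b 3 4)<|c)<|a (a (b 1 0)<|a (b 2 6)<|a (b 3 5)<|a (b 2 9)<|a (b 3 7)<|a (b 2 4)<|a (b 3 2)<|a (b 0 0)<|c)<|c))<|c))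
  fib := []
  n := 11

def D : List Rec := [r0, r1, r2, r3, r4, r5, r6, r7, r8, r9, r10]

end Cfsg.Agent.H334.Ore.M22Data
end

-- part: H334/Ore/M22Chk
section
/-!
# Checks for the classes of `M22`
-/

set_option autoImplicit false
set_option Elab.async false

namespace Cfsg.Agent.H334.Ore.M22Data

open Cfsg.Agent.H334.Ore.Mat

private noncomputable def _root_.Cfsg.Agent.GolayF.f0 : {f // @Cfsg.Agent.H334.Ore.Mat.chkC = f} :=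
  ⟨_, by delta Cfsg.Agent.H334.Ore.Mat.cA Cfsg.Agent.H334.Ore.Mat.chkC Cfsg.Agent.H334.Ore.Mat.exOk Cfsg.Agent.H334.Ore.Mat.fibOk Cfsg.Agent.H334.Ore.Mat.fibOk._f Cfsg.Agent.H334.Ore.Mat.fiber Cfsg.Agent.H334.Ore.Mat.fiber._f Cfsg.Agent.H729.Trans.mk Cfsg.Agent.H729.Trans.mk._f Cfsg.Agent.H729.Trans.pre Cfsg.Agent.H729.Trans.srcOk Cfsg.Agent.H729.Trans.srcOk._f Cfsg.Agent.H729.Trans.wdOk; rewrite [Cfsg.Agent.GolayF.isCode_eq, Cfsg.Agent.GolayF.ok_eq, Cfsg.Agent.GolayF.pw_eq, Cfsg.Agent.GolayF.tl_eq]; exact rfl⟩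

theorem cC0 : chkC F r0 = true := by (rewrite [Cfsg.Agent.GolayF.f0.2]; decide +kernel)

theorem cC1 : chkC F r1 = true := by (rewrite [Cfsg.Agent.GolayF.f0.2]; decide +kernel)

theorem cC2 : chkC F r2 = true := by (rewrite [Cfsg.Agent.GolayF.f0.2]; decide +kernel)

theorem cC3 : chkC F r3 = true := by (rewrite [Cfsg.Agent.GolayF.f0.2]; decide +kernel)

theorem cC4 : chkC F r4 = true := by (rewrite [Cfsg.Agent.GolayF.f0.2]; decide +kernel)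

theorem cC5 : chkC F r5 = true := by (rewrite [Cfsg.Agent.GolayF.f0.2]; decide +kernel)

theorem cC6 : chkC F r6 = true := by (rewrite [Cfsg.Agent.GolayF.f0.2]; decide +kernel)

theorem cC7 : chkC F r7 = true := by (rewrite [Cfsg.Agent.GolayF.f0.2]; decide +kernel)

theorem cC8 : chkC F r8 = true := by (rewrite [Cfsg.Agent.GolayF.f0.2]; decide +kernel)

theorem cC9 : chkC F r9 = true := by (rewrite [Cfsg.Agent.GolayF.f0.2]; decide +kernel)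

theorem cC10 : chkC F r10 = true := by (rewrite [Cfsg.Agent.GolayF.f0.2]; decide +kernel)

private noncomputable def _root_.Cfsg.Agent.GolayF.f1 : {f // @Cfsg.Agent.H334.Ore.Mat.chkA = f} :=
  ⟨_, by delta Cfsg.Agent.H334.Ore.Mat.chkA Cfsg.Agent.H334.Ore.Mat.inG; rewrite [Cfsg.Agent.GolayF.papp_eq, Cfsg.Agent.GolayF.pcomp_eq, Cfsg.Agent.GolayF.ok_eq]; exact rfl⟩

theorem hA : D.all (chkA F) = true := by (rewrite [Cfsg.Agent.GolayF.f1.2]; decide +kernel)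

private noncomputable def _root_.Cfsg.Agent.GolayF.f2 : {f // @Cfsg.Agent.H334.Ore.Mat.chkP = f} :=
  ⟨_, by delta Cfsg.Agent.H334.Ore.Mat.chkP Cfsg.Agent.H334.Ore.Mat.fc Cfsg.Agent.H334.Ore.Mat.inv Cfsg.Agent.H729.Trans.mk Cfsg.Agent.H729.Trans.mk._f Cfsg.Agent.H729.Trans.pre Cfsg.Agent.H729.Trans.srcOk Cfsg.Agent.H729.Trans.srcOk._f Cfsg.Agent.H729.Trans.wdOk; rewrite [Cfsg.Agent.GolayF.isCode_eq, Cfsg.Agent.GolayF.ok_eq, Cfsg.Agent.GolayF.pw_eq, Cfsg.Agent.GolayF.tl_eq]; exact rfl⟩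

theorem pP0 : (D.drop 1).all (chkP F r0) = true := by (rewrite [Cfsg.Agent.GolayF.f2.2]; decide +kernel)

theorem pP1 : (D.drop 2).all (chkP F r1) = true := by (rewrite [Cfsg.Agent.GolayF.f2.2]; decide +kernel)

theorem pP2 : (D.drop 3).all (chkP F r2) = true := by (rewrite [Cfsg.Agent.GolayF.f2.2]; decide +kernel)

theorem pP3 : (D.drop 4).all (chkP F r3) = true := by (rewrite [Cfsg.Agent.GolayF.f2.2]; decide +kernel)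

theorem pP4 : (D.drop 5).all (chkP F r4) = true := by (rewrite [Cfsg.Agent.GolayF.f2.2]; decide +kernel)

theorem pP5 : (D.drop 6).all (chkP F r5) = true := by (rewrite [Cfsg.Agent.GolayF.f2.2]; decide +kernel)

theorem pP6 : (D.drop 7).all (chkP F r6) = true := by (rewrite [Cfsg.Agent.GolayF.f2.2]; decide +kernel)

theorem pP7 : (D.drop 8).all (chkP F r7) = true := by (rewrite [Cfsg.Agent.GolayF.f2.2]; decide +kernel)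

theorem pP8 : (D.drop 9).all (chkP F r8) = true := by (rewrite [Cfsg.Agent.GolayF.f2.2]; decide +kernel)

theorem pP9 : (D.drop 10).all (chkP F r9) = true := by (rewrite [Cfsg.Agent.GolayF.f2.2]; decide +kernel)

theorem pP10 : (D.drop 11).all (chkP F r10) = true := by (rewrite [Cfsg.Agent.GolayF.f2.2]; decide +kernel)

theorem hsum : (1 + (D.map fun r => 443520 / r.n).sum) = 443520 := by decide +kernel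

theorem hC : ∀ r ∈ D, chkC F r = true := by
  intro r hr
  simp only [D, List.mem_cons, List.not_mem_nil, or_false] at hr
  rcases hr with rfl | rfl | rfl | rfl | rfl | rfl | rfl | rfl | rfl | rfl | rfl
  · exact cC0
  · exact cC1
  · exact cC2
  · exact cC3
  · exact cC4
  · exact cC5
  · exact cC6
  · exact cC7
  · exact cC8
  · exact cC9
  · exact cC10

theorem hP : ∀ i j : Fin D.length, i < j → chkP F (D.get i) (D.get j) = true := by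
  refine hP_of ?_
  intro i hi
  have hi' : i < 11 := hi
  interval_cases i
  · exact pP0
  · exact pP1
  · exact pP2
  · exact pP3
  · exact pP4
  · exact pP5
  · exact pP6
  · exact pP7
  · exact pP8
  · exact pP9
  · exact pP10

end Cfsg.Agent.H334.Ore.M22Data
end

-- part: H334/Ore/M22
section
/-!
# The rows `M22`: every element is a commutator, and a product of four involutions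
-/

set_option autoImplicit false

namespace Cfsg.Agent.H334.Ore

open Cfsg Cfsg.Agent.H334.Ore.Mat Cfsg.Agent.H729.Trans
open Cfsg.Agent.SporadicStructure.M24El Cfsg.Agent.SporadicA.GolayPerm

namespace M22

open Cfsg.Agent.H334.Ore.M22Data Cfsg.Agent.H729.M22Deg

theorem hF (g : Spor.M22) : ∀ b ∈ F, im (inc g) b = b := by
  intro b hb
  simp only [F, List.mem_cons, List.not_mem_nil, or_false] at hb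
  rcases hb with rfl | rfl
  · exact im_none g
  · exact im_zero g

theorem hmem (c : ℕ) (hc : ok c = true) (h : ∀ b ∈ F, papp c b = b) : ∃ x : Spor.M22, inc x = el c :=
  exists_el hc (h 23 (by simp [F])) (h 0 (by simp [F]))

theorem hA' : ∀ r ∈ D, chkA F r = true := fun r hr => List.all_eq_true.1 hA r hr

theorem cov (g : Spor.M22) : g = 1 ∨ ∃ r ∈ D, ∃ x : Spor.M22, inc x = el r.c ∧ IsConj x g := by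
  refine cover_of_data inc_injective hF hmem D hC hA' hP ?_ g
  rw [card_M22]
  have h : ∑ i : Fin D.length, 443520 / (D.get i).n = (D.map fun r => 443520 / r.n).sum := by
    rw [← List.sum_ofFn]
    rfl
  rw [h, hsum]

end M22

/-- **Every element of `M22` is a commutator.** -/
theorem ore_m22 {S : Type*} [Group S] (h : Spor.IsoM22 S) : Cfsg.Agent.H777.Ore.AllC S := by
  obtain ⟨e⟩ := h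
  exact Cfsg.Agent.H777.Ore.AllC.congr e.symm
    (allC_of_data Cfsg.Agent.H729.M22Deg.inc_injective M22.hmem M22Data.D M22.hA' M22.cov)

/-- **Every element of `M22` is a product of four elements with square one.** -/
theorem four_m22 {S : Type*} [Group S] (h : Spor.IsoM22 S) : Cfsg.Agent.H777.Ore.Inv4 S := by
  obtain ⟨e⟩ := h
  exact inv4_congr e.symm
    (inv4_of_data Cfsg.Agent.H729.M22Deg.inc_injective M22.hmem M22Data.D M22.hA' M22.cov)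

end Cfsg.Agent.H334.Ore
end

private theorem dce_944ec8e0138a : _root_.True := by
  try have : _root_.True := by simp only [_root_.Cfsg.Agent.H334.Ore.M22Data.D.eq_1]
  try have : _root_.True := by simp only [_root_.Cfsg.Agent.H334.Ore.M22Data.F.eq_1]
  exact _root_.True.intro
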