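import Cfsg.Agent.H134.Sq.Base_m3
import Cfsg.Agent.S0376
import Cfsg.Prelude.Def_Spor_Mathieu
import Cfsg.Agent.H729.TransFast
import Cfsg.Agent.Prune
set_option linter.all false
open scoped Cfsg.Agent.FastGrp
private noncomputable def lq26b7f1268b {T : Sort _} (f :
    type_of% (@_root_.List.cons.{0}) →
    type_of% (@_root_.Prod.mk.{0, 0}) →
    type_of% (@_root_.List.nil.{0}) →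
    type_of% (@_root_.List.range) →
    type_of% (@_root_.Cfsg.Agent.H334.Ore.Mat.Ex.mk) → T) : T :=
  f (@_root_.List.cons.{0}) (@_root_.Prod.mk.{0, 0}) (@_root_.List.nil.{0}) (@_root_.List.range) (@_root_.Cfsg.Agent.H334.Ore.Mat.Ex.mk)

-- part: H334/Ore/M23Data
section
/-!
# Representatives of the classes of `M23` (data)
-/

set_option autoImplicit false
set_option Elab.async false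

namespace Cfsg.Agent.H334.Ore.M23Data

open Cfsg.Agent.H334.Ore.Mat

def F : List ℕ := [23]

def f0_0 : Fib where
  b := 0
  e := []

def f0_1 : Fib where
  b := 1
  e := []

def f0_2 : Fib where
  b := 4
  e := []

def r0 : Rec where
  p := 2
  c := 980300456624277555258171200517441699
  a := 975393859852248717195392948855445088
  b := 980599620966186387815863212268993577
  t := [980300456624277555258171200517441699, 984818244535754528103549039458486304, 984818244535754528103549039458486304, 984818244535754528103549039458486304]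
  wd := (beta% delta% lq26b7f1268b fun a b c _ _ =>
 (a (b 3 0)<|a (b 2 0)<|a (b 15 0)<|a (b 3 1)<|a (b 1 0)<|a (b 2 1)<|a (b 4 0)<|a (b 11 0)<|a (b 5 0)<|a (b 10 0)<|a (b 13 0)<|a (b 9 0)<|a (b 10 1)<|a (b 11 1)<|a (b 12 0)<|a (b 14 0)<|a (b 1 1)<|a (b 6 0)<|a (b 8 0)<|a (b 7 0)<|a (b 5 1)<|a (b 4 1)<|a (b 7 1)<|a (b 0 0)<|c))
  sts := (beta% delta% lq26b7f1268b fun a b c d _ =>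
 (a (b 23<|b (a 23<|c) c)<|
 a (b 4<|b (a 4<|c) c)<|
 a (b 1<|b (a 1<|c) c)<|
 a (b 0<|b (a 0<|c) c)<|
 a (b 6<|b (d 24) (a (a (b 3 0)<|a (b 2 0)<|a (b 3 1)<|a (b 1 0)<|a (b 2 1)<|a (b 4 0)<|a (b 1 1)<|a (b 4 1)<|c)<|c))<|
 a (b 8<|b (d 24) c)<|
 a (b 17<|b (d 24) (a (a (b 3 1)<|a (b 1 0)<|a (b 2 1)<|a (b 4 0)<|a (b 5 0)<|a (b 6 0)<|a (b 5 1)<|a (b 0 0)<|c)<|c))<|
 a (b 19<|b (d 24) (a (a (b 2 0)<|a (b 1 0)<|a (b 2 1)<|a (b 5 0)<|a (b 1 1)<|a (b 7 0)<|a (b 5 1)<|a (b 7 1)<|c)<|c))<|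
 a (b 18<|b (d 24) (a (a (b 3 0)<|a (b 3 1)<|a (b 2 1)<|a (b 1 1)<|a (b 6 0)<|a (b 8 0)<|a (b 7 0)<|a (b 5 1)<|c)<|c))<|
 a (b 11<|b (d 24) (a (a (b 3 0)<|a (b 2 0)<|a (b 2 1)<|a (b 4 0)<|a (b 5 0)<|a (b 9 0)<|a (b 6 0)<|a (b 7 0)<|c)<|c))<|
 a (b 9<|b (d 24) (a (a (b 3 0)<|a (b 2 1)<|a (b 4 0)<|a (b 10 0)<|a (b 9 0)<|a (b 10 1)<|a (b 1 1)<|a (b 8 0)<|c)<|c))<|
 a (b 7<|b (d 24) (a (a (b 2 0)<|a (b 1 0)<|a (b 2 1)<|a (b 11 0)<|a (b 10 0)<|a (b 10 1)<|a (b 11 1)<|a (b 1 1)<|c)<|a (a (b 3 0)<|a (b 3 1)<|a (b 1 0)<|a (b 2 1)<|a (b 11 0)<|a (b 10 0)<|a (b 9 0)<|a (b 6 0)<|c)<|c))<|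
 a (b 14<|b (d 24) (a (a (b 2 0)<|a (b 4 0)<|a (b 5 0)<|a (b 10 0)<|a (b 9 0)<|a (b 10 1)<|a (b 11 1)<|a (b 12 0)<|c)<|c))<|
 a (b 10<|b (d 24) (a (a (b 3 0)<|a (b 2 1)<|a (b 11 0)<|a (b 5 0)<|a (b 13 0)<|a (b 9 0)<|a (b 10 1)<|a (b 11 1)<|c)<|c))<|
 a (b 15<|b (d 24) (a (a (b 3 0)<|a (b 3 1)<|a (b 1 0)<|a (b 4 0)<|a (b 5 0)<|a (b 9 0)<|a (b 10 1)<|a (b 14 0)<|c)<|c))<|
 a (b 2<|b (d 24) (a (a (b 3 0)<|a (b 2 0)<|a (b 15 0)<|a (b 3 1)<|a (b 1 0)<|a (b 11 0)<|a (b 13 0)<|a (b 10 1)<|c)<|c))<|c))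
  fib := [f0_0, f0_1, f0_2]
  n := 2688

def f1_0 : Fib where
  b := 6
  e := (beta% delta% lq26b7f1268b fun a b c d e =>
 (a (e 0 (a (b 3 0)<|a (b 5 0)<|a (b 6 0)<|a (b 6 1)<|a (b 7 0)<|a (b 4 0)<|a (b 1 0)<|a (b 6 2)<|a (b 8 0)<|a (b 5 1)<|a (b 9 0)<|a (b 3 2)<|a (b 1 1)<|a (b 3 1)<|a (b 8 2)<|a (b 10 0)<|a (b 11 0)<|a (b 8 1)<|a (b 9 1)<|a (b 2 0)<|a (b 9 2)<|a (b 5 2)<|a (b 1 2)<|a (b 0 0)<|c)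
 (a (b 23<|b (a 23<|c) c)<|
 a (b 6<|b (a 0<|c) c)<|
 a (b 19<|b (d 24) c)<|
 a (b 0<|b (d 24) (a (a (b 3 0)<|a (b 1 0)<|a (b 3 2)<|a (b 1 1)<|a (b 3 1)<|a (b 2 0)<|a (b 1 2)<|a (b 0 0)<|c)<|c))<|
 a (b 5<|b (d 24) c)<|
 a (b 1<|b (d 24) (a (a (b 5 0)<|a (b 4 0)<|a (b 1 0)<|a (b 5 1)<|a (b 1 1)<|a (b 2 0)<|a (b 5 2)<|a (b 1 2)<|c)<|c))<|
 a (b 2<|b (d 24) (a (a (b 6 0)<|a (b 4 0)<|a (b 1 0)<|a (b 6 2)<|a (b 5 1)<|a (b 3 2)<|a (b 3 1)<|a (b 2 0)<|c)<|a (a (b 3 0)<|a (b 6 1)<|a (b 1 0)<|a (b 6 2)<|a (b 5 1)<|a (b 1 1)<|a (b 3 1)<|a (b 5 2)<|c)<|c))<|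
 a (b 4<|b (d 24) c)<|
 a (b 8<|b (d 24) (a (a (b 5 0)<|a (b 6 0)<|a (b 6 1)<|a (b 7 0)<|a (b 4 0)<|a (b 8 0)<|a (b 3 2)<|a (b 3 1)<|c)<|a (a (b 6 0)<|a (b 6 1)<|a (b 7 0)<|a (b 4 0)<|a (b 1 0)<|a (b 5 1)<|a (b 1 1)<|a (b 8 2)<|c)<|a (a (b 3 0)<|a (b 6 1)<|a (b 7 0)<|a (b 4 0)<|a (b 6 2)<|a (b 5 1)<|a (b 3 2)<|a (b 8 1)<|c)<|c))<|
 a (b 10<|b (d 24) (a (a (b 3 0)<|a (b 5 0)<|a (b 6 0)<|a (b 6 1)<|a (b 7 0)<|a (b 6 2)<|a (b 9 0)<|a (b 1 1)<|c)<|a (a (b 3 0)<|a (b 6 0)<|a (b 6 1)<|a (b 4 0)<|a (b 1 0)<|a (b 6 2)<|a (b 8 0)<|a (b 9 1)<|c)<|a (a (b 6 0)<|a (b 7 0)<|a (b 4 0)<|a (b 6 2)<|a (b 8 0)<|a (b 5 1)<|a (b 9 0)<|a (b 9 2)<|c)<|c))<|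
 a (b 15<|b (d 24) (a (a (b 5 0)<|a (b 6 0)<|a (b 1 0)<|a (b 6 2)<|a (b 8 0)<|a (b 9 0)<|a (b 3 2)<|a (b 10 0)<|c)<|c))<|
 a (b 16<|b (d 24) (a (a (b 3 0)<|a (b 5 0)<|a (b 7 0)<|a (b 8 0)<|a (b 5 1)<|a (b 9 0)<|a (b 3 2)<|a (b 11 0)<|c)<|c))<|c))<|
 a (e 11 (a (b 5 0)<|a (b 6 0)<|a (b 4 0)<|a (b 4 1)<|a (b 7 0)<|a (b 8 0)<|a (b 1 0)<|a (b 4 2)<|a (b 9 0)<|a (b 6 1)<|a (b 10 0)<|a (b 5 2)<|a (b 1 1)<|a (b 5 1)<|a (b 9 2)<|a (b 2 0)<|a (b 11 0)<|a (b 9 1)<|a (b 10 1)<|a (b 3 0)<|a (b 10 2)<|a (b 6 2)<|a (b 1 2)<|a (b 0 0)<|c)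
 (a (b 23<|b (a 23<|c) c)<|
 a (b 6<|b (a 11<|c) c)<|
 a (b 15<|b (d 24) c)<|
 a (b 19<|b (d 24) c)<|
 a (b 2<|b (d 24) (a (a (b 4 0)<|a (b 4 1)<|a (b 1 0)<|a (b 4 2)<|a (b 1 1)<|a (b 2 0)<|a (b 3 0)<|a (b 1 2)<|c)<|c))<|
 a (b 0<|b (d 24) (a (a (b 5 0)<|a (b 4 0)<|a (b 4 1)<|a (b 4 2)<|a (b 5 2)<|a (b 5 1)<|a (b 2 0)<|a (b 0 0)<|c)<|c))<|
 a (b 1<|b (d 24) (a (a (b 5 0)<|a (b 6 0)<|a (b 4 2)<|a (b 6 1)<|a (b 5 2)<|a (b 1 1)<|a (b 2 0)<|a (b 3 0)<|c)<|a (a (b 5 0)<|a (b 4 1)<|a (b 1 0)<|a (b 4 2)<|a (b 6 1)<|a (b 1 1)<|a (b 5 1)<|a (b 6 2)<|c)<|c))<|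
 a (b 4<|b (d 24) c)<|
 a (b 5<|b (d 24) (a (a (b 5 0)<|a (b 6 0)<|a (b 4 0)<|a (b 8 0)<|a (b 1 0)<|a (b 1 1)<|a (b 5 1)<|a (b 2 0)<|c)<|c))<|
 a (b 8<|b (d 24) (a (a (b 6 0)<|a (b 4 0)<|a (b 4 1)<|a (b 7 0)<|a (b 8 0)<|a (b 9 0)<|a (b 5 2)<|a (b 5 1)<|c)<|a (a (b 4 0)<|a (b 4 1)<|a (b 7 0)<|a (b 8 0)<|a (b 1 0)<|a (b 6 1)<|a (b 1 1)<|a (b 9 2)<|c)<|a (a (b 5 0)<|a (b 4 1)<|a (b 7 0)<|a (b 8 0)<|a (b 4 2)<|a (b 6 1)<|a (b 5 2)<|a (b 9 1)<|c)<|c))<|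
 a (b 10<|b (d 24) (a (a (b 5 0)<|a (b 6 0)<|a (b 4 0)<|a (b 4 1)<|a (b 7 0)<|a (b 4 2)<|a (b 10 0)<|a (b 1 1)<|c)<|a (a (b 5 0)<|a (b 4 0)<|a (b 4 1)<|a (b 8 0)<|a (b 1 0)<|a (b 4 2)<|a (b 9 0)<|a (b 10 1)<|c)<|a (a (b 4 0)<|a (b 7 0)<|a (b 8 0)<|a (b 4 2)<|a (b 9 0)<|a (b 6 1)<|a (b 10 0)<|a (b 10 2)<|c)<|c))<|
 a (b 16<|b (d 24) (a (a (b 5 0)<|a (b 6 0)<|a (b 7 0)<|a (b 9 0)<|a (b 6 1)<|a (b 10 0)<|a (b 5 2)<|a (b 11 0)<|c)<|c))<|c))<|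
 a (e 13 (a (b 5 0)<|a (b 4 0)<|a (b 6 0)<|a (b 6 1)<|a (b 7 0)<|a (b 2 0)<|a (b 1 0)<|a (b 6 2)<|a (b 8 0)<|a (b 4 1)<|a (b 9 0)<|a (b 5 2)<|a (b 1 1)<|a (b 5 1)<|a (b 8 2)<|a (b 10 0)<|a (b 11 0)<|a (b 8 1)<|a (b 9 1)<|a (b 3 0)<|a (b 9 2)<|a (b 4 2)<|a (b 1 2)<|a (b 0 0)<|c)
 (a (b 23<|b (a 23<|c) c)<|
 a (b 6<|b (a 13<|c) c)<|
 a (b 5<|b (d 24) c)<|
 a (b 19<|b (d 24) c)<|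
 a (b 1<|b (d 24) (a (a (b 4 0)<|a (b 2 0)<|a (b 1 0)<|a (b 4 1)<|a (b 1 1)<|a (b 3 0)<|a (b 4 2)<|a (b 1 2)<|c)<|c))<|
 a (b 0<|b (d 24) (a (a (b 5 0)<|a (b 4 0)<|a (b 2 0)<|a (b 4 1)<|a (b 5 2)<|a (b 5 1)<|a (b 4 2)<|a (b 0 0)<|c)<|c))<|
 a (b 2<|b (d 24) (a (a (b 6 0)<|a (b 2 0)<|a (b 1 0)<|a (b 6 2)<|a (b 4 1)<|a (b 5 2)<|a (b 5 1)<|a (b 3 0)<|c)<|a (a (b 5 0)<|a (b 6 1)<|a (b 1 0)<|a (b 6 2)<|a (b 4 1)<|a (b 1 1)<|a (b 5 1)<|a (b 4 2)<|c)<|c))<|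
 a (b 4<|b (d 24) c)<|
 a (b 8<|b (d 24) (a (a (b 4 0)<|a (b 6 0)<|a (b 6 1)<|a (b 7 0)<|a (b 2 0)<|a (b 8 0)<|a (b 5 2)<|a (b 5 1)<|c)<|a (a (b 6 0)<|a (b 6 1)<|a (b 7 0)<|a (b 2 0)<|a (b 1 0)<|a (b 4 1)<|a (b 1 1)<|a (b 8 2)<|c)<|a (a (b 5 0)<|a (b 6 1)<|a (b 7 0)<|a (b 2 0)<|a (b 6 2)<|a (b 4 1)<|a (b 5 2)<|a (b 8 1)<|c)<|c))<|
 a (b 10<|b (d 24) (a (a (b 5 0)<|a (b 4 0)<|a (b 6 0)<|a (b 6 1)<|a (b 7 0)<|a (b 6 2)<|a (b 9 0)<|a (b 1 1)<|c)<|a (a (b 5 0)<|a (b 6 0)<|a (b 6 1)<|a (b 2 0)<|a (b 1 0)<|a (b 6 2)<|a (b 8 0)<|a (b 9 1)<|c)<|a (a (b 6 0)<|a (b 7 0)<|a (b 2 0)<|a (b 6 2)<|a (b 8 0)<|a (b 4 1)<|a (b 9 0)<|a (b 9 2)<|c)<|c))<|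
 a (b 15<|b (d 24) (a (a (b 4 0)<|a (b 6 0)<|a (b 1 0)<|a (b 6 2)<|a (b 8 0)<|a (b 9 0)<|a (b 5 2)<|a (b 10 0)<|c)<|c))<|
 a (b 16<|b (d 24) (a (a (b 5 0)<|a (b 4 0)<|a (b 7 0)<|a (b 8 0)<|a (b 4 1)<|a (b 9 0)<|a (b 5 2)<|a (b 11 0)<|c)<|c))<|c))<|c))

def f1_1 : Fib where
  b := 1
  e := (beta% delta% lq26b7f1268b fun a b c d e =>
 (a (e 0 (a (b 4 0)<|a (b 2 0)<|a (b 5 0)<|a (b 5 1)<|a (b 6 0)<|a (b 7 0)<|a (b 1 0)<|a (b 5 2)<|a (b 8 0)<|a (b 2 1)<|a (b 9 0)<|a (b 4 2)<|a (b 1 1)<|a (b 4 1)<|a (b 8 2)<|a (b 10 0)<|a (b 11 0)<|a (b 8 1)<|a (b 9 1)<|a (b 3 0)<|a (b 9 2)<|a (b 2 2)<|a (b 1 2)<|a (b 0 0)<|c)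
 (a (b 23<|b (a 23<|c) c)<|
 a (b 6<|b (a 6<|c) c)<|
 a (b 1<|b (a 0<|c) c)<|
 a (b 19<|b (d 24) c)<|
 a (b 0<|b (d 24) (a (a (b 4 0)<|a (b 1 0)<|a (b 4 2)<|a (b 1 1)<|a (b 4 1)<|a (b 3 0)<|a (b 1 2)<|a (b 0 0)<|c)<|c))<|
 a (b 2<|b (d 24) (a (a (b 4 0)<|a (b 5 1)<|a (b 1 0)<|a (b 5 2)<|a (b 2 1)<|a (b 1 1)<|a (b 4 1)<|a (b 2 2)<|c)<|a (a (b 4 0)<|a (b 2 0)<|a (b 5 0)<|a (b 5 1)<|a (b 1 0)<|a (b 2 1)<|a (b 4 2)<|a (b 1 2)<|c)<|c))<|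
 a (b 4<|b (d 24) c)<|
 a (b 5<|b (d 24) (a (a (b 5 0)<|a (b 7 0)<|a (b 1 0)<|a (b 5 2)<|a (b 2 1)<|a (b 4 2)<|a (b 4 1)<|a (b 3 0)<|c)<|c))<|
 a (b 8<|b (d 24) (a (a (b 2 0)<|a (b 5 0)<|a (b 5 1)<|a (b 6 0)<|a (b 7 0)<|a (b 8 0)<|a (b 4 2)<|a (b 4 1)<|c)<|a (a (b 5 0)<|a (b 5 1)<|a (b 6 0)<|a (b 7 0)<|a (b 1 0)<|a (b 2 1)<|a (b 1 1)<|a (b 8 2)<|c)<|a (a (b 4 0)<|a (b 5 1)<|a (b 6 0)<|a (b 7 0)<|a (b 5 2)<|a (b 2 1)<|a (b 4 2)<|a (b 8 1)<|c)<|c))<|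
 a (b 10<|b (d 24) (a (a (b 4 0)<|a (b 2 0)<|a (b 5 0)<|a (b 5 1)<|a (b 6 0)<|a (b 5 2)<|a (b 9 0)<|a (b 1 1)<|c)<|a (a (b 4 0)<|a (b 5 0)<|a (b 5 1)<|a (b 7 0)<|a (b 1 0)<|a (b 5 2)<|a (b 8 0)<|a (b 9 1)<|c)<|a (a (b 5 0)<|a (b 6 0)<|a (b 7 0)<|a (b 5 2)<|a (b 8 0)<|a (b 2 1)<|a (b 9 0)<|a (b 9 2)<|c)<|c))<|
 a (b 15<|b (d 24) (a (a (b 2 0)<|a (b 5 0)<|a (b 1 0)<|a (b 5 2)<|a (b 8 0)<|a (b 9 0)<|a (b 4 2)<|a (b 10 0)<|c)<|c))<|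
 a (b 16<|b (d 24) (a (a (b 4 0)<|a (b 2 0)<|a (b 6 0)<|a (b 8 0)<|a (b 2 1)<|a (b 9 0)<|a (b 4 2)<|a (b 11 0)<|c)<|c))<|c))<|
 a (e 11 (a (b 4 0)<|a (b 2 0)<|a (b 5 0)<|a (b 5 1)<|a (b 6 0)<|a (b 7 0)<|a (b 1 0)<|a (b 5 2)<|a (b 8 0)<|a (b 2 1)<|a (b 9 0)<|a (b 4 2)<|a (b 1 1)<|a (b 4 1)<|a (b 8 2)<|a (b 10 0)<|a (b 11 0)<|a (b 8 1)<|a (b 9 1)<|a (b 3 0)<|a (b 9 2)<|a (b 2 2)<|a (b 1 2)<|a (b 0 0)<|c)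
 (a (b 23<|b (a 23<|c) c)<|
 a (b 6<|b (a 6<|c) c)<|
 a (b 1<|b (a 11<|c) c)<|
 a (b 19<|b (d 24) c)<|
 a (b 0<|b (d 24) (a (a (b 4 0)<|a (b 1 0)<|a (b 4 2)<|a (b 1 1)<|a (b 4 1)<|a (b 3 0)<|a (b 1 2)<|a (b 0 0)<|c)<|c))<|
 a (b 2<|b (d 24) (a (a (b 4 0)<|a (b 5 1)<|a (b 1 0)<|a (b 5 2)<|a (b 2 1)<|a (b 1 1)<|a (b 4 1)<|a (b 2 2)<|c)<|a (a (b 4 0)<|a (b 2 0)<|a (b 5 0)<|a (b 5 1)<|a (b 1 0)<|a (b 2 1)<|a (b 4 2)<|a (b 1 2)<|c)<|c))<|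
 a (b 4<|b (d 24) c)<|
 a (b 5<|b (d 24) (a (a (b 5 0)<|a (b 7 0)<|a (b 1 0)<|a (b 5 2)<|a (b 2 1)<|a (b 4 2)<|a (b 4 1)<|a (b 3 0)<|c)<|c))<|
 a (b 8<|b (d 24) (a (a (b 2 0)<|a (b 5 0)<|a (b 5 1)<|a (b 6 0)<|a (b 7 0)<|a (b 8 0)<|a (b 4 2)<|a (b 4 1)<|c)<|a (a (b 5 0)<|a (b 5 1)<|a (b 6 0)<|a (b 7 0)<|a (b 1 0)<|a (b 2 1)<|a (b 1 1)<|a (b 8 2)<|c)<|a (a (b 4 0)<|a (b 5 1)<|a (b 6 0)<|a (b 7 0)<|a (b 5 2)<|a (b 2 1)<|a (b 4 2)<|a (b 8 1)<|c)<|c))<|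
 a (b 10<|b (d 24) (a (a (b 4 0)<|a (b 2 0)<|a (b 5 0)<|a (b 5 1)<|a (b 6 0)<|a (b 5 2)<|a (b 9 0)<|a (b 1 1)<|c)<|a (a (b 4 0)<|a (b 5 0)<|a (b 5 1)<|a (b 7 0)<|a (b 1 0)<|a (b 5 2)<|a (b 8 0)<|a (b 9 1)<|c)<|a (a (b 5 0)<|a (b 6 0)<|a (b 7 0)<|a (b 5 2)<|a (b 8 0)<|a (b 2 1)<|a (b 9 0)<|a (b 9 2)<|c)<|c))<|
 a (b 15<|b (d 24) (a (a (b 2 0)<|a (b 5 0)<|a (b 1 0)<|a (b 5 2)<|a (b 8 0)<|a (b 9 0)<|a (b 4 2)<|a (b 10 0)<|c)<|c))<|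
 a (b 16<|b (d 24) (a (a (b 4 0)<|a (b 2 0)<|a (b 6 0)<|a (b 8 0)<|a (b 2 1)<|a (b 9 0)<|a (b 4 2)<|a (b 11 0)<|c)<|c))<|c))<|
 a (e 13 (a (b 4 0)<|a (b 2 0)<|a (b 5 0)<|a (b 5 1)<|a (b 6 0)<|a (b 7 0)<|a (b 1 0)<|a (b 5 2)<|a (b 8 0)<|a (b 2 1)<|a (b 9 0)<|a (b 4 2)<|a (b 1 1)<|a (b 4 1)<|a (b 8 2)<|a (b 10 0)<|a (b 11 0)<|a (b 8 1)<|a (b 9 1)<|a (b 3 0)<|a (b 9 2)<|a (b 2 2)<|a (b 1 2)<|a (b 0 0)<|c)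
 (a (b 23<|b (a 23<|c) c)<|
 a (b 6<|b (a 6<|c) c)<|
 a (b 1<|b (a 13<|c) c)<|
 a (b 19<|b (d 24) c)<|
 a (b 0<|b (d 24) (a (a (b 4 0)<|a (b 1 0)<|a (b 4 2)<|a (b 1 1)<|a (b 4 1)<|a (b 3 0)<|a (b 1 2)<|a (b 0 0)<|c)<|c))<|
 a (b 2<|b (d 24) (a (a (b 4 0)<|a (b 5 1)<|a (b 1 0)<|a (b 5 2)<|a (b 2 1)<|a (b 1 1)<|a (b 4 1)<|a (b 2 2)<|c)<|a (a (b 4 0)<|a (b 2 0)<|a (b 5 0)<|a (b 5 1)<|a (b 1 0)<|a (b 2 1)<|a (b 4 2)<|a (b 1 2)<|c)<|c))<|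
 a (b 4<|b (d 24) c)<|
 a (b 5<|b (d 24) (a (a (b 5 0)<|a (b 7 0)<|a (b 1 0)<|a (b 5 2)<|a (b 2 1)<|a (b 4 2)<|a (b 4 1)<|a (b 3 0)<|c)<|c))<|
 a (b 8<|b (d 24) (a (a (b 2 0)<|a (b 5 0)<|a (b 5 1)<|a (b 6 0)<|a (b 7 0)<|a (b 8 0)<|a (b 4 2)<|a (b 4 1)<|c)<|a (a (b 5 0)<|a (b 5 1)<|a (b 6 0)<|a (b 7 0)<|a (b 1 0)<|a (b 2 1)<|a (b 1 1)<|a (b 8 2)<|c)<|a (a (b 4 0)<|a (b 5 1)<|a (b 6 0)<|a (b 7 0)<|a (b 5 2)<|a (b 2 1)<|a (b 4 2)<|a (b 8 1)<|c)<|c))<|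
 a (b 10<|b (d 24) (a (a (b 4 0)<|a (b 2 0)<|a (b 5 0)<|a (b 5 1)<|a (b 6 0)<|a (b 5 2)<|a (b 9 0)<|a (b 1 1)<|c)<|a (a (b 4 0)<|a (b 5 0)<|a (b 5 1)<|a (b 7 0)<|a (b 1 0)<|a (b 5 2)<|a (b 8 0)<|a (b 9 1)<|c)<|a (a (b 5 0)<|a (b 6 0)<|a (b 7 0)<|a (b 5 2)<|a (b 8 0)<|a (b 2 1)<|a (b 9 0)<|a (b 9 2)<|c)<|c))<|
 a (b 15<|b (d 24) (a (a (b 2 0)<|a (b 5 0)<|a (b 1 0)<|a (b 5 2)<|a (b 8 0)<|a (b 9 0)<|a (b 4 2)<|a (b 10 0)<|c)<|c))<|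
 a (b 16<|b (d 24) (a (a (b 4 0)<|a (b 2 0)<|a (b 6 0)<|a (b 8 0)<|a (b 2 1)<|a (b 9 0)<|a (b 4 2)<|a (b 11 0)<|c)<|c))<|c))<|c))

def r1 : Rec where
  p := 3
  c := 963225086571282922171847167606754605
  a := 978099487047851927231643476464867909
  b := 980779190316750372479551764244671158
  t := [963481139728807783278611692890661995, 984085544616153778179666379140662349, 984818244535754528103549039458486304, 984818244535754528103549039458486304]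
  wd := (beta% delta% lq26b7f1268b fun a b c _ _ =>
 (a (b 4 0)<|a (b 1 0)<|a (b 5 0)<|a (b 5 1)<|a (b 9 0)<|a (b 8 0)<|a (b 2 0)<|a (b 5 2)<|a (b 7 0)<|a (b 1 1)<|a (b 6 0)<|a (b 4 2)<|a (b 2 1)<|a (b 4 1)<|a (b 7 2)<|a (b 11 0)<|a (b 10 0)<|a (b 7 1)<|a (b 6 1)<|a (b 3 0)<|a (b 6 2)<|a (b 1 2)<|a (b 2 2)<|a (b 0 0)<|c))
  sts := (beta% delta% lq26b7f1268b fun a b c d _ =>
 (a (b 23<|b (a 23<|c) c)<|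
 a (b 1<|b (a 1<|c) c)<|
 a (b 6<|b (a 6<|c) c)<|
 a (b 19<|b (d 24) c)<|
 a (b 0<|b (d 24) (a (a (b 4 0)<|a (b 2 0)<|a (b 4 2)<|a (b 2 1)<|a (b 4 1)<|a (b 3 0)<|a (b 2 2)<|a (b 0 0)<|c)<|c))<|
 a (b 2<|b (d 24) (a (a (b 4 0)<|a (b 5 1)<|a (b 2 0)<|a (b 5 2)<|a (b 1 1)<|a (b 2 1)<|a (b 4 1)<|a (b 1 2)<|c)<|a (a (b 4 0)<|a (b 1 0)<|a (b 5 0)<|a (b 5 1)<|a (b 2 0)<|a (b 1 1)<|a (b 4 2)<|a (b 2 2)<|c)<|c))<|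
 a (b 10<|b (d 24) (a (a (b 5 0)<|a (b 5 1)<|a (b 2 0)<|a (b 6 0)<|a (b 4 2)<|a (b 2 1)<|a (b 4 1)<|a (b 6 1)<|c)<|a (a (b 1 0)<|a (b 5 1)<|a (b 5 2)<|a (b 1 1)<|a (b 6 0)<|a (b 4 2)<|a (b 4 1)<|a (b 6 2)<|c)<|c))<|
 a (b 8<|b (d 24) (a (a (b 1 0)<|a (b 2 0)<|a (b 7 0)<|a (b 1 1)<|a (b 4 2)<|a (b 2 1)<|a (b 4 1)<|a (b 7 2)<|c)<|a (a (b 4 0)<|a (b 1 0)<|a (b 5 0)<|a (b 5 2)<|a (b 7 0)<|a (b 1 1)<|a (b 4 1)<|a (b 7 1)<|c)<|a (a (b 4 0)<|a (b 5 0)<|a (b 2 0)<|a (b 7 0)<|a (b 1 1)<|a (b 6 0)<|a (b 2 1)<|a (b 3 0)<|c)<|c))<|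
 a (b 5<|b (d 24) (a (a (b 4 0)<|a (b 8 0)<|a (b 5 2)<|a (b 7 0)<|a (b 6 0)<|a (b 4 2)<|a (b 2 1)<|a (b 4 1)<|c)<|c))<|
 a (b 4<|b (d 24) (a (a (b 4 0)<|a (b 1 0)<|a (b 5 0)<|a (b 5 1)<|a (b 9 0)<|a (b 5 2)<|a (b 6 0)<|a (b 2 1)<|c)<|c))<|
 a (b 16<|b (d 24) (a (a (b 4 0)<|a (b 1 0)<|a (b 9 0)<|a (b 7 0)<|a (b 1 1)<|a (b 6 0)<|a (b 4 2)<|a (b 10 0)<|c)<|c))<|
 a (b 15<|b (d 24) (a (a (b 1 0)<|a (b 5 0)<|a (b 2 0)<|a (b 5 2)<|a (b 7 0)<|a (b 6 0)<|a (b 4 2)<|a (b 11 0)<|c)<|c))<|c))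
  fib := [f1_0, f1_1]
  n := 180

def f2_0 : Fib where
  b := 0
  e := []

def r2 : Rec where
  p := 4
  c := 969690129507075176546547461736478156
  a := 963375491356705849993171907835564557
  b := 974216114877594775520782205484147349
  t := [957185469389529535991130241363982016, 964470986680713043474844892638841493, 984818244535754528103549039458486304, 984818244535754528103549039458486304]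
  wd := (beta% delta% lq26b7f1268b fun a b c _ _ =>
 (a (b 1 0)<|a (b 3 0)<|a (b 6 0)<|a (b 7 0)<|a (b 2 0)<|a (b 2 1)<|a (b 3 2)<|a (b 3 3)<|a (b 4 0)<|a (b 2 3)<|a (b 1 2)<|a (b 5 0)<|a (b 1 1)<|a (b 6 1)<|a (b 3 1)<|a (b 2 2)<|a (b 9 0)<|a (b 8 0)<|a (b 4 1)<|a (b 5 1)<|a (b 5 2)<|a (b 1 3)<|a (b 5 3)<|a (b 0 0)<|c))
  sts := (beta% delta% lq26b7f1268b fun a b c d _ =>
 (a (b 23<|b (a 23<|c) c)<|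
 a (b 0<|b (a 0<|c) c)<|
 a (b 4<|b (d 24) (a (a (b 1 0)<|a (b 2 0)<|a (b 2 1)<|a (b 2 3)<|a (b 1 2)<|a (b 1 1)<|a (b 2 2)<|a (b 1 3)<|c)<|c))<|
 a (b 1<|b (d 24) (a (a (b 1 0)<|a (b 3 0)<|a (b 2 1)<|a (b 3 2)<|a (b 3 3)<|a (b 2 3)<|a (b 1 2)<|a (b 3 1)<|c)<|c))<|
 a (b 8<|b (d 24) (a (a (b 3 0)<|a (b 2 0)<|a (b 2 1)<|a (b 3 2)<|a (b 4 0)<|a (b 1 2)<|a (b 1 1)<|a (b 4 1)<|c)<|a (a (b 1 0)<|a (b 3 0)<|a (b 2 0)<|a (b 2 1)<|a (b 3 3)<|a (b 4 0)<|a (b 2 2)<|a (b 0 0)<|c)<|c))<|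
 a (b 11<|b (d 24) (a (a (b 1 0)<|a (b 3 0)<|a (b 3 3)<|a (b 2 3)<|a (b 5 0)<|a (b 1 1)<|a (b 2 2)<|a (b 5 1)<|c)<|a (a (b 3 0)<|a (b 2 0)<|a (b 2 1)<|a (b 3 2)<|a (b 2 3)<|a (b 5 0)<|a (b 2 2)<|a (b 5 2)<|c)<|a (a (b 2 0)<|a (b 3 2)<|a (b 3 3)<|a (b 2 3)<|a (b 1 2)<|a (b 5 0)<|a (b 1 1)<|a (b 5 3)<|c)<|c))<|
 a (b 2<|b (d 24) (a (a (b 1 0)<|a (b 2 1)<|a (b 3 3)<|a (b 4 0)<|a (b 1 2)<|a (b 5 0)<|a (b 1 1)<|a (b 6 1)<|c)<|a (a (b 3 0)<|a (b 6 0)<|a (b 3 2)<|a (b 3 3)<|a (b 4 0)<|a (b 1 2)<|a (b 5 0)<|a (b 2 2)<|c)<|c))<|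
 a (b 3<|b (d 24) (a (a (b 1 0)<|a (b 3 0)<|a (b 6 0)<|a (b 7 0)<|a (b 2 0)<|a (b 3 3)<|a (b 1 2)<|a (b 1 1)<|c)<|c))<|
 a (b 17<|b (d 24) (a (a (b 1 0)<|a (b 7 0)<|a (b 2 0)<|a (b 2 1)<|a (b 3 3)<|a (b 2 3)<|a (b 5 0)<|a (b 8 0)<|c)<|c))<|
 a (b 16<|b (d 24) (a (a (b 1 0)<|a (b 3 0)<|a (b 2 0)<|a (b 4 0)<|a (b 2 3)<|a (b 1 2)<|a (b 5 0)<|a (b 9 0)<|c)<|c))<|c))
  fib := [f2_0]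
  n := 32

def f3_0 : Fib where
  b := 0
  e := (beta% delta% lq26b7f1268b fun a b c d e =>
 (a (e 5 (a (b 1 0)<|a (b 3 0)<|a (b 4 0)<|a (b 4 3)<|a (b 5 0)<|a (b 6 0)<|a (b 6 1)<|a (b 1 3)<|a (b 5 3)<|a (b 7 0)<|a (b 1 2)<|a (b 1 1)<|a (b 6 4)<|a (b 5 1)<|a (b 4 1)<|a (b 4 4)<|a (b 4 2)<|a (b 1 4)<|a (b 5 2)<|a (b 6 3)<|a (b 5 4)<|a (b 6 2)<|a (b 2 0)<|a (b 0 0)<|c)
 (a (b 23<|b (a 23<|c) c)<|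
 a (b 0<|b (a 5<|c) c)<|
 a (b 22<|b (d 24) c)<|
 a (b 1<|b (d 24) (a (a (b 1 0)<|a (b 3 0)<|a (b 1 3)<|a (b 1 2)<|a (b 1 1)<|a (b 1 4)<|a (b 2 0)<|a (b 0 0)<|c)<|c))<|
 a (b 2<|b (d 24) c)<|
 a (b 4<|b (d 24) (a (a (b 4 3)<|a (b 5 3)<|a (b 1 2)<|a (b 1 1)<|a (b 5 1)<|a (b 4 1)<|a (b 4 4)<|a (b 4 2)<|c)<|a (a (b 4 0)<|a (b 4 3)<|a (b 5 0)<|a (b 1 3)<|a (b 5 3)<|a (b 4 1)<|a (b 4 4)<|a (b 1 4)<|c)<|a (a (b 1 0)<|a (b 4 0)<|a (b 5 0)<|a (b 5 3)<|a (b 1 2)<|a (b 5 1)<|a (b 4 4)<|a (b 5 2)<|c)<|a (a (b 1 0)<|a (b 5 0)<|a (b 1 3)<|a (b 1 2)<|a (b 1 1)<|a (b 4 1)<|a (b 4 4)<|a (b 5 4)<|c)<|a (a (b 3 0)<|a (b 5 0)<|a (b 1 3)<|a (b 5 3)<|a (b 1 2)<|a (b 5 1)<|a (b 4 1)<|a (b 2 0)<|c)<|c))<|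
 a (b 5<|b (d 24) (a (a (b 1 0)<|a (b 3 0)<|a (b 4 0)<|a (b 4 3)<|a (b 5 0)<|a (b 1 3)<|a (b 1 2)<|a (b 6 4)<|c)<|a (a (b 3 0)<|a (b 4 0)<|a (b 4 3)<|a (b 5 0)<|a (b 6 0)<|a (b 5 3)<|a (b 1 1)<|a (b 5 1)<|c)<|a (a (b 3 0)<|a (b 4 0)<|a (b 6 1)<|a (b 1 3)<|a (b 5 3)<|a (b 1 2)<|a (b 1 1)<|a (b 4 4)<|c)<|a (a (b 1 0)<|a (b 4 3)<|a (b 5 0)<|a (b 6 0)<|a (b 5 3)<|a (b 1 2)<|a (b 4 1)<|a (b 6 3)<|c)<|a (a (b 1 0)<|a (b 3 0)<|a (b 4 3)<|a (b 1 3)<|a (b 5 3)<|a (b 1 1)<|a (b 4 1)<|a (b 6 2)<|c)<|c))<|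
 a (b 9<|b (d 24) (a (a (b 1 0)<|a (b 3 0)<|a (b 6 0)<|a (b 6 1)<|a (b 1 3)<|a (b 7 0)<|a (b 1 2)<|a (b 4 1)<|c)<|c))<|c))<|
 a (e 6 (a (b 1 0)<|a (b 3 0)<|a (b 4 0)<|a (b 4 3)<|a (b 5 0)<|a (b 6 0)<|a (b 6 1)<|a (b 1 3)<|a (b 5 3)<|a (b 7 0)<|a (b 1 2)<|a (b 1 1)<|a (b 6 4)<|a (b 5 1)<|a (b 4 1)<|a (b 4 4)<|a (b 4 2)<|a (b 1 4)<|a (b 5 2)<|a (b 6 3)<|a (b 5 4)<|a (b 6 2)<|a (b 2 0)<|a (b 0 0)<|c)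
 (a (b 23<|b (a 23<|c) c)<|
 a (b 0<|b (a 6<|c) c)<|
 a (b 22<|b (d 24) c)<|
 a (b 1<|b (d 24) (a (a (b 1 0)<|a (b 3 0)<|a (b 1 3)<|a (b 1 2)<|a (b 1 1)<|a (b 1 4)<|a (b 2 0)<|a (b 0 0)<|c)<|c))<|
 a (b 2<|b (d 24) c)<|
 a (b 4<|b (d 24) (a (a (b 4 3)<|a (b 5 3)<|a (b 1 2)<|a (b 1 1)<|a (b 5 1)<|a (b 4 1)<|a (b 4 4)<|a (b 4 2)<|c)<|a (a (b 4 0)<|a (b 4 3)<|a (b 5 0)<|a (b 1 3)<|a (b 5 3)<|a (b 4 1)<|a (b 4 4)<|a (b 1 4)<|c)<|a (a (b 1 0)<|a (b 4 0)<|a (b 5 0)<|a (b 5 3)<|a (b 1 2)<|a (b 5 1)<|a (b 4 4)<|a (b 5 2)<|c)<|a (a (b 1 0)<|a (b 5 0)<|a (b 1 3)<|a (b 1 2)<|a (b 1 1)<|a (b 4 1)<|a (b 4 4)<|a (b 5 4)<|c)<|a (a (b 3 0)<|a (b 5 0)<|a (b 1 3)<|a (b 5 3)<|a (b 1 2)<|a (b 5 1)<|a (b 4 1)<|a (b 2 0)<|c)<|c))<|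
 a (b 5<|b (d 24) (a (a (b 1 0)<|a (b 3 0)<|a (b 4 0)<|a (b 4 3)<|a (b 5 0)<|a (b 1 3)<|a (b 1 2)<|a (b 6 4)<|c)<|a (a (b 3 0)<|a (b 4 0)<|a (b 4 3)<|a (b 5 0)<|a (b 6 0)<|a (b 5 3)<|a (b 1 1)<|a (b 5 1)<|c)<|a (a (b 3 0)<|a (b 4 0)<|a (b 6 1)<|a (b 1 3)<|a (b 5 3)<|a (b 1 2)<|a (b 1 1)<|a (b 4 4)<|c)<|a (a (b 1 0)<|a (b 4 3)<|a (b 5 0)<|a (b 6 0)<|a (b 5 3)<|a (b 1 2)<|a (b 4 1)<|a (b 6 3)<|c)<|a (a (b 1 0)<|a (b 3 0)<|a (b 4 3)<|a (b 1 3)<|a (b 5 3)<|a (b 1 1)<|a (b 4 1)<|a (b 6 2)<|c)<|c))<|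
 a (b 9<|b (d 24) (a (a (b 1 0)<|a (b 3 0)<|a (b 6 0)<|a (b 6 1)<|a (b 1 3)<|a (b 7 0)<|a (b 1 2)<|a (b 4 1)<|c)<|c))<|c))<|
 a (e 12 (a (b 1 0)<|a (b 2 0)<|a (b 4 0)<|a (b 4 3)<|a (b 5 0)<|a (b 6 0)<|a (b 6 1)<|a (b 1 3)<|a (b 5 3)<|a (b 7 0)<|a (b 1 2)<|a (b 1 1)<|a (b 6 4)<|a (b 5 1)<|a (b 4 1)<|a (b 4 4)<|a (b 4 2)<|a (b 1 4)<|a (b 5 2)<|a (b 6 3)<|a (b 5 4)<|a (b 6 2)<|a (b 3 0)<|a (b 0 0)<|c)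
 (a (b 23<|b (a 23<|c) c)<|
 a (b 0<|b (a 12<|c) c)<|
 a (b 1<|b (d 24) c)<|
 a (b 22<|b (d 24) (a (a (b 1 0)<|a (b 2 0)<|a (b 1 3)<|a (b 1 2)<|a (b 1 1)<|a (b 1 4)<|a (b 3 0)<|a (b 0 0)<|c)<|c))<|
 a (b 2<|b (d 24) c)<|
 a (b 4<|b (d 24) (a (a (b 4 3)<|a (b 5 3)<|a (b 1 2)<|a (b 1 1)<|a (b 5 1)<|a (b 4 1)<|a (b 4 4)<|a (b 4 2)<|c)<|a (a (b 4 0)<|a (b 4 3)<|a (b 5 0)<|a (b 1 3)<|a (b 5 3)<|a (b 4 1)<|a (b 4 4)<|a (b 1 4)<|c)<|a (a (b 1 0)<|a (b 4 0)<|a (b 5 0)<|a (b 5 3)<|a (b 1 2)<|a (b 5 1)<|a (b 4 4)<|a (b 5 2)<|c)<|a (a (b 1 0)<|a (b 5 0)<|a (b 1 3)<|a (b 1 2)<|a (b 1 1)<|a (b 4 1)<|a (b 4 4)<|a (b 5 4)<|c)<|a (a (b 2 0)<|a (b 5 0)<|a (b 1 3)<|a (b 5 3)<|a (b 1 2)<|a (b 5 1)<|a (b 4 1)<|a (b 3 0)<|c)<|c))<|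
 a (b 5<|b (d 24) (a (a (b 1 0)<|a (b 2 0)<|a (b 4 0)<|a (b 4 3)<|a (b 5 0)<|a (b 1 3)<|a (b 1 2)<|a (b 6 4)<|c)<|a (a (b 2 0)<|a (b 4 0)<|a (b 4 3)<|a (b 5 0)<|a (b 6 0)<|a (b 5 3)<|a (b 1 1)<|a (b 5 1)<|c)<|a (a (b 2 0)<|a (b 4 0)<|a (b 6 1)<|a (b 1 3)<|a (b 5 3)<|a (b 1 2)<|a (b 1 1)<|a (b 4 4)<|c)<|a (a (b 1 0)<|a (b 4 3)<|a (b 5 0)<|a (b 6 0)<|a (b 5 3)<|a (b 1 2)<|a (b 4 1)<|a (b 6 3)<|c)<|a (a (b 1 0)<|a (b 2 0)<|a (b 4 3)<|a (b 1 3)<|a (b 5 3)<|a (b 1 1)<|a (b 4 1)<|a (b 6 2)<|c)<|c))<|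
 a (b 9<|b (d 24) (a (a (b 1 0)<|a (b 2 0)<|a (b 6 0)<|a (b 6 1)<|a (b 1 3)<|a (b 7 0)<|a (b 1 2)<|a (b 4 1)<|c)<|c))<|c))<|
 a (e 19 (a (b 1 0)<|a (b 3 0)<|a (b 4 0)<|a (b 4 3)<|a (b 5 0)<|a (b 6 0)<|a (b 6 1)<|a (b 1 3)<|a (b 5 3)<|a (b 7 0)<|a (b 1 2)<|a (b 1 1)<|a (b 6 4)<|a (b 5 1)<|a (b 4 1)<|a (b 4 4)<|a (b 4 2)<|a (b 1 4)<|a (b 5 2)<|a (b 6 3)<|a (b 5 4)<|a (b 6 2)<|a (b 2 0)<|a (b 0 0)<|c)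
 (a (b 23<|b (a 23<|c) c)<|
 a (b 0<|b (a 19<|c) c)<|
 a (b 22<|b (d 24) c)<|
 a (b 1<|b (d 24) (a (a (b 1 0)<|a (b 3 0)<|a (b 1 3)<|a (b 1 2)<|a (b 1 1)<|a (b 1 4)<|a (b 2 0)<|a (b 0 0)<|c)<|c))<|
 a (b 2<|b (d 24) c)<|
 a (b 4<|b (d 24) (a (a (b 4 3)<|a (b 5 3)<|a (b 1 2)<|a (b 1 1)<|a (b 5 1)<|a (b 4 1)<|a (b 4 4)<|a (b 4 2)<|c)<|a (a (b 4 0)<|a (b 4 3)<|a (b 5 0)<|a (b 1 3)<|a (b 5 3)<|a (b 4 1)<|a (b 4 4)<|a (b 1 4)<|c)<|a (a (b 1 0)<|a (b 4 0)<|a (b 5 0)<|a (b 5 3)<|a (b 1 2)<|a (b 5 1)<|a (b 4 4)<|a (b 5 2)<|c)<|a (a (b 1 0)<|a (b 5 0)<|a (b 1 3)<|a (b 1 2)<|a (b 1 1)<|a (b 4 1)<|a (b 4 4)<|a (b 5 4)<|c)<|a (a (b 3 0)<|a (b 5 0)<|a (b 1 3)<|a (b 5 3)<|a (b 1 2)<|a (b 5 1)<|a (b 4 1)<|a (b 2 0)<|c)<|c))<|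
 a (b 5<|b (d 24) (a (a (b 1 0)<|a (b 3 0)<|a (b 4 0)<|a (b 4 3)<|a (b 5 0)<|a (b 1 3)<|a (b 1 2)<|a (b 6 4)<|c)<|a (a (b 3 0)<|a (b 4 0)<|a (b 4 3)<|a (b 5 0)<|a (b 6 0)<|a (b 5 3)<|a (b 1 1)<|a (b 5 1)<|c)<|a (a (b 3 0)<|a (b 4 0)<|a (b 6 1)<|a (b 1 3)<|a (b 5 3)<|a (b 1 2)<|a (b 1 1)<|a (b 4 4)<|c)<|a (a (b 1 0)<|a (b 4 3)<|a (b 5 0)<|a (b 6 0)<|a (b 5 3)<|a (b 1 2)<|a (b 4 1)<|a (b 6 3)<|c)<|a (a (b 1 0)<|a (b 3 0)<|a (b 4 3)<|a (b 1 3)<|a (b 5 3)<|a (b 1 1)<|a (b 4 1)<|a (b 6 2)<|c)<|c))<|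
 a (b 9<|b (d 24) (a (a (b 1 0)<|a (b 3 0)<|a (b 6 0)<|a (b 6 1)<|a (b 1 3)<|a (b 7 0)<|a (b 1 2)<|a (b 4 1)<|c)<|c))<|c))<|
 a (e 21 (a (b 1 0)<|a (b 2 0)<|a (b 4 0)<|a (b 4 3)<|a (b 5 0)<|a (b 6 0)<|a (b 6 1)<|a (b 1 3)<|a (b 5 3)<|a (b 7 0)<|a (b 1 2)<|a (b 1 1)<|a (b 6 4)<|a (b 5 1)<|a (b 4 1)<|a (b 4 4)<|a (b 4 2)<|a (b 1 4)<|a (b 5 2)<|a (b 6 3)<|a (b 5 4)<|a (b 6 2)<|a (b 3 0)<|a (b 0 0)<|c)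
 (a (b 23<|b (a 23<|c) c)<|
 a (b 0<|b (a 21<|c) c)<|
 a (b 1<|b (d 24) c)<|
 a (b 22<|b (d 24) (a (a (b 1 0)<|a (b 2 0)<|a (b 1 3)<|a (b 1 2)<|a (b 1 1)<|a (b 1 4)<|a (b 3 0)<|a (b 0 0)<|c)<|c))<|
 a (b 2<|b (d 24) c)<|
 a (b 4<|b (d 24) (a (a (b 4 3)<|a (b 5 3)<|a (b 1 2)<|a (b 1 1)<|a (b 5 1)<|a (b 4 1)<|a (b 4 4)<|a (b 4 2)<|c)<|a (a (b 4 0)<|a (b 4 3)<|a (b 5 0)<|a (b 1 3)<|a (b 5 3)<|a (b 4 1)<|a (b 4 4)<|a (b 1 4)<|c)<|a (a (b 1 0)<|a (b 4 0)<|a (b 5 0)<|a (b 5 3)<|a (b 1 2)<|a (b 5 1)<|a (b 4 4)<|a (b 5 2)<|c)<|a (a (b 1 0)<|a (b 5 0)<|a (b 1 3)<|a (b 1 2)<|a (b 1 1)<|a (b 4 1)<|a (b 4 4)<|a (b 5 4)<|c)<|a (a (b 2 0)<|a (b 5 0)<|a (b 1 3)<|a (b 5 3)<|a (b 1 2)<|a (b 5 1)<|a (b 4 1)<|a (b 3 0)<|c)<|c))<|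
 a (b 5<|b (d 24) (a (a (b 1 0)<|a (b 2 0)<|a (b 4 0)<|a (b 4 3)<|a (b 5 0)<|a (b 1 3)<|a (b 1 2)<|a (b 6 4)<|c)<|a (a (b 2 0)<|a (b 4 0)<|a (b 4 3)<|a (b 5 0)<|a (b 6 0)<|a (b 5 3)<|a (b 1 1)<|a (b 5 1)<|c)<|a (a (b 2 0)<|a (b 4 0)<|a (b 6 1)<|a (b 1 3)<|a (b 5 3)<|a (b 1 2)<|a (b 1 1)<|a (b 4 4)<|c)<|a (a (b 1 0)<|a (b 4 3)<|a (b 5 0)<|a (b 6 0)<|a (b 5 3)<|a (b 1 2)<|a (b 4 1)<|a (b 6 3)<|c)<|a (a (b 1 0)<|a (b 2 0)<|a (b 4 3)<|a (b 1 3)<|a (b 5 3)<|a (b 1 1)<|a (b 4 1)<|a (b 6 2)<|c)<|c))<|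
 a (b 9<|b (d 24) (a (a (b 1 0)<|a (b 2 0)<|a (b 6 0)<|a (b 6 1)<|a (b 1 3)<|a (b 7 0)<|a (b 1 2)<|a (b 4 1)<|c)<|c))<|c))<|c))

def r3 : Rec where
  p := 5
  c := 984716542135906806873716780210567211
  a := 980919881567654205651026570971813928
  b := 965159625532602682899747969435056175
  t := [984797447127341707146909419945068583, 984209211073446991271016122242513962, 984818244535754528103549039458486304, 984818244535754528103549039458486304]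
  wd := (beta% delta% lq26b7f1268b fun a b c _ _ =>
 (a (b 1 0)<|a (b 7 0)<|a (b 5 0)<|a (b 5 3)<|a (b 4 0)<|a (b 3 0)<|a (b 3 1)<|a (b 1 3)<|a (b 4 3)<|a (b 2 0)<|a (b 1 2)<|a (b 1 1)<|a (b 3 4)<|a (b 4 1)<|a (b 5 1)<|a (b 5 4)<|a (b 5 2)<|a (b 1 4)<|a (b 4 2)<|a (b 3 3)<|a (b 4 4)<|a (b 3 2)<|a (b 6 0)<|a (b 0 0)<|c))
  sts := (beta% delta% lq26b7f1268b fun a b c d _ =>
 (a (b 23<|b (a 23<|c) c)<|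
 a (b 0<|b (a 0<|c) c)<|
 a (b 9<|b (d 24) c)<|
 a (b 5<|b (d 24) (a (a (b 1 0)<|a (b 3 0)<|a (b 3 1)<|a (b 1 3)<|a (b 2 0)<|a (b 1 2)<|a (b 1 1)<|a (b 3 4)<|a (b 1 4)<|a (b 3 3)<|a (b 3 2)<|a (b 0 0)<|c)<|c))<|
 a (b 4<|b (d 24) (a (a (b 1 0)<|a (b 3 0)<|a (b 1 3)<|a (b 4 3)<|a (b 1 2)<|a (b 1 1)<|a (b 3 4)<|a (b 4 1)<|c)<|a (a (b 1 0)<|a (b 4 0)<|a (b 1 2)<|a (b 1 1)<|a (b 3 4)<|a (b 1 4)<|a (b 4 2)<|a (b 3 3)<|c)<|a (a (b 3 0)<|a (b 3 1)<|a (b 1 3)<|a (b 1 2)<|a (b 1 1)<|a (b 1 4)<|a (b 4 2)<|a (b 4 4)<|c)<|a (a (b 1 0)<|a (b 4 0)<|a (b 3 1)<|a (b 1 3)<|a (b 4 3)<|a (b 1 2)<|a (b 1 4)<|a (b 3 2)<|c)<|c))<|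
 a (b 2<|b (d 24) (a (a (b 5 0)<|a (b 5 3)<|a (b 4 0)<|a (b 3 0)<|a (b 3 1)<|a (b 2 0)<|a (b 3 4)<|a (b 5 1)<|c)<|a (a (b 1 0)<|a (b 5 3)<|a (b 4 0)<|a (b 3 1)<|a (b 4 3)<|a (b 1 1)<|a (b 3 4)<|a (b 5 4)<|c)<|a (a (b 5 0)<|a (b 5 3)<|a (b 1 3)<|a (b 4 3)<|a (b 2 0)<|a (b 1 1)<|a (b 3 4)<|a (b 5 2)<|c)<|a (a (b 1 0)<|a (b 5 3)<|a (b 4 0)<|a (b 3 0)<|a (b 1 3)<|a (b 2 0)<|a (b 1 1)<|a (b 1 4)<|c)<|a (a (b 1 0)<|a (b 5 0)<|a (b 5 3)<|a (b 3 0)<|a (b 3 1)<|a (b 1 3)<|a (b 4 3)<|a (b 4 2)<|c)<|c))<|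
 a (b 22<|b (d 24) (a (a (b 4 0)<|a (b 3 1)<|a (b 1 3)<|a (b 2 0)<|a (b 1 2)<|a (b 1 1)<|a (b 3 4)<|a (b 6 0)<|c)<|c))<|
 a (b 1<|b (d 24) (a (a (b 1 0)<|a (b 7 0)<|a (b 5 0)<|a (b 5 3)<|a (b 4 0)<|a (b 1 3)<|a (b 1 2)<|a (b 3 4)<|c)<|c))<|c))
  fib := [f3_0]
  n := 15

def r4 : Rec where
  p := 6
  c := 974960402297316522504383265668385292
  a := 973970832820253802060136803982331990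
  b := 962537523020131873921418417917181590
  t := [973662324848730782428376625876882528, 962750962403924591264949849251269137, 984818244535754528103549039458486304, 984818244535754528103549039458486304]
  wd := (beta% delta% lq26b7f1268b fun a b c _ _ =>
 (a (b 4 0)<|a (b 4 2)<|a (b 5 0)<|a (b 4 4)<|a (b 3 0)<|a (b 2 0)<|a (b 6 0)<|a (b 2 4)<|a (b 6 2)<|a (b 2 5)<|a (b 6 1)<|a (b 7 0)<|a (b 4 1)<|a (b 7 1)<|a (b 2 1)<|a (b 2 3)<|a (b 4 3)<|a (b 4 5)<|a (b 5 1)<|a (b 3 1)<|a (b 1 0)<|a (b 5 2)<|a (b 2 2)<|a (b 0 0)<|c))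
  sts := (beta% delta% lq26b7f1268b fun a b c d _ =>
 (a (b 23<|b (a 23<|c) c)<|
 a (b 20<|b (d 24) c)<|
 a (b 5<|b (d 24) c)<|
 a (b 4<|b (d 24) (a (a (b 3 0)<|a (b 2 0)<|a (b 2 4)<|a (b 2 5)<|a (b 2 1)<|a (b 2 3)<|a (b 3 1)<|a (b 2 2)<|c)<|c))<|
 a (b 0<|b (d 24) (a (a (b 4 0)<|a (b 4 4)<|a (b 2 0)<|a (b 2 4)<|a (b 4 1)<|a (b 2 1)<|a (b 2 3)<|a (b 4 3)<|c)<|a (a (b 4 2)<|a (b 4 4)<|a (b 3 0)<|a (b 2 0)<|a (b 4 1)<|a (b 2 3)<|a (b 4 5)<|a (b 3 1)<|c)<|a (a (b 4 4)<|a (b 3 0)<|a (b 2 4)<|a (b 2 5)<|a (b 4 1)<|a (b 2 3)<|a (b 1 0)<|a (b 0 0)<|c)<|c))<|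
 a (b 2<|b (d 24) (a (a (b 4 0)<|a (b 5 0)<|a (b 4 4)<|a (b 2 5)<|a (b 4 1)<|a (b 2 3)<|a (b 4 5)<|a (b 5 1)<|c)<|a (a (b 4 2)<|a (b 5 0)<|a (b 4 4)<|a (b 3 0)<|a (b 2 5)<|a (b 4 3)<|a (b 4 5)<|a (b 1 0)<|c)<|a (a (b 4 2)<|a (b 5 0)<|a (b 4 4)<|a (b 2 0)<|a (b 2 4)<|a (b 2 5)<|a (b 2 3)<|a (b 5 2)<|c)<|c))<|
 a (b 6<|b (d 24) (a (a (b 4 0)<|a (b 4 2)<|a (b 5 0)<|a (b 4 4)<|a (b 3 0)<|a (b 2 4)<|a (b 6 1)<|a (b 4 1)<|c)<|a (a (b 4 0)<|a (b 4 2)<|a (b 2 0)<|a (b 6 0)<|a (b 2 4)<|a (b 2 5)<|a (b 6 1)<|a (b 2 1)<|c)<|a (a (b 2 0)<|a (b 6 0)<|a (b 2 4)<|a (b 6 2)<|a (b 2 5)<|a (b 4 1)<|a (b 2 3)<|a (b 4 5)<|c)<|c))<|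
 a (b 11<|b (d 24) (a (a (b 4 2)<|a (b 5 0)<|a (b 4 4)<|a (b 3 0)<|a (b 2 0)<|a (b 6 2)<|a (b 7 0)<|a (b 7 1)<|c)<|a (a (b 4 2)<|a (b 5 0)<|a (b 6 0)<|a (b 2 4)<|a (b 6 2)<|a (b 6 1)<|a (b 7 0)<|a (b 2 3)<|c)<|c))<|c))
  fib := []
  n := 12

def r5 : Rec where
  p := 7
  c := 971066846074928915393171660241182897
  a := 973970668439674135802707796419498153
  b := 984250928590738513807596198569643337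
  t := [971424921369417217605746344565671977, 971487533090564739144948512933348436, 961249609213343973663902359623937064, 971018587436970157927913466556948128]
  wd := (beta% delta% lq26b7f1268b fun a b c _ _ =>
 (a (b 5 0)<|a (b 5 5)<|a (b 4 0)<|a (b 3 0)<|a (b 5 3)<|a (b 5 6)<|a (b 3 3)<|a (b 2 0)<|a (b 4 1)<|a (b 3 6)<|a (b 5 2)<|a (b 3 4)<|a (b 4 4)<|a (b 5 4)<|a (b 3 5)<|a (b 3 2)<|a (b 4 2)<|a (b 5 1)<|a (b 3 1)<|a (b 4 5)<|a (b 1 0)<|a (b 4 6)<|a (b 4 3)<|a (b 0 0)<|c))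
  sts := (beta% delta% lq26b7f1268b fun a b c d _ =>
 (a (b 23<|b (a 23<|c) c)<|
 a (b 20<|b (d 24) c)<|
 a (b 7<|b (d 24) c)<|
 a (b 3<|b (d 24) (a (a (b 3 0)<|a (b 3 3)<|a (b 2 0)<|a (b 3 6)<|a (b 3 4)<|a (b 3 5)<|a (b 3 2)<|a (b 3 1)<|c)<|c))<|
 a (b 2<|b (d 24) (a (a (b 4 0)<|a (b 3 0)<|a (b 2 0)<|a (b 4 1)<|a (b 3 6)<|a (b 3 4)<|a (b 4 4)<|a (b 4 2)<|c)<|a (a (b 3 0)<|a (b 4 1)<|a (b 3 6)<|a (b 4 4)<|a (b 3 5)<|a (b 3 2)<|a (b 4 5)<|a (b 4 6)<|c)<|a (a (b 4 0)<|a (b 3 0)<|a (b 3 3)<|a (b 2 0)<|a (b 4 4)<|a (b 3 2)<|a (b 4 5)<|a (b 4 3)<|c)<|a (a (b 4 0)<|a (b 3 0)<|a (b 3 3)<|a (b 4 1)<|a (b 3 4)<|a (b 3 5)<|a (b 4 5)<|a (b 0 0)<|c)<|c))<|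
 a (b 0<|b (d 24) (a (a (b 5 0)<|a (b 5 5)<|a (b 4 0)<|a (b 3 0)<|a (b 5 3)<|a (b 2 0)<|a (b 5 2)<|a (b 4 4)<|c)<|a (a (b 5 5)<|a (b 4 0)<|a (b 3 0)<|a (b 5 3)<|a (b 5 6)<|a (b 4 1)<|a (b 3 4)<|a (b 5 4)<|c)<|a (a (b 5 0)<|a (b 5 5)<|a (b 5 6)<|a (b 3 3)<|a (b 2 0)<|a (b 3 6)<|a (b 5 2)<|a (b 3 5)<|c)<|a (a (b 5 5)<|a (b 4 0)<|a (b 3 3)<|a (b 2 0)<|a (b 4 1)<|a (b 5 2)<|a (b 3 4)<|a (b 3 2)<|c)<|a (a (b 5 0)<|a (b 3 0)<|a (b 5 3)<|a (b 5 6)<|a (b 2 0)<|a (b 3 6)<|a (b 3 4)<|a (b 5 1)<|c)<|a (a (b 5 5)<|a (b 3 0)<|a (b 5 3)<|a (b 3 3)<|a (b 2 0)<|a (b 4 1)<|a (b 3 6)<|a (b 4 5)<|c)<|a (a (b 4 0)<|a (b 5 3)<|a (b 5 6)<|a (b 2 0)<|a (b 4 1)<|a (b 3 6)<|a (b 5 2)<|a (b 1 0)<|c)<|c))<|c))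
  fib := []
  n := 14

def r6 : Rec where
  p := 7
  c := 962061302581611087296964346981714028
  a := 971652957898203162755735000520966725
  b := 966236659192549448620931865590088852
  t := [984508778830219929456605401657510068, 976200716883111091929261562901151403, 972445495582756216308708262548605091, 961440133207342336295468481454000480]
  wd := (beta% delta% lq26b7f1268b fun a b c _ _ =>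
 (a (b 3 0)<|a (b 4 0)<|a (b 1 0)<|a (b 4 1)<|a (b 5 0)<|a (b 5 4)<|a (b 5 2)<|a (b 4 5)<|a (b 3 3)<|a (b 3 4)<|a (b 5 1)<|a (b 4 6)<|a (b 3 1)<|a (b 3 2)<|a (b 5 5)<|a (b 3 6)<|a (b 3 5)<|a (b 4 4)<|a (b 4 2)<|a (b 4 3)<|a (b 2 0)<|a (b 5 6)<|a (b 5 3)<|a (b 0 0)<|c))
  sts := (beta% delta% lq26b7f1268b fun a b c d _ =>
 (a (b 23<|b (a 23<|c) c)<|
 a (b 2<|b (d 24) c)<|
 a (b 20<|b (d 24) c)<|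
 a (b 0<|b (d 24) (a (a (b 3 0)<|a (b 3 3)<|a (b 3 4)<|a (b 3 1)<|a (b 3 2)<|a (b 3 6)<|a (b 3 5)<|a (b 0 0)<|c)<|c))<|
 a (b 1<|b (d 24) (a (a (b 1 0)<|a (b 4 1)<|a (b 4 5)<|a (b 3 3)<|a (b 3 4)<|a (b 4 6)<|a (b 3 1)<|a (b 3 5)<|c)<|a (a (b 3 0)<|a (b 4 0)<|a (b 1 0)<|a (b 4 5)<|a (b 3 3)<|a (b 3 4)<|a (b 3 2)<|a (b 4 4)<|c)<|a (a (b 4 0)<|a (b 4 1)<|a (b 4 5)<|a (b 3 3)<|a (b 3 1)<|a (b 3 2)<|a (b 3 6)<|a (b 4 2)<|c)<|a (a (b 3 0)<|a (b 4 0)<|a (b 4 5)<|a (b 3 4)<|a (b 4 6)<|a (b 3 1)<|a (b 3 6)<|a (b 4 3)<|c)<|c))<|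
 a (b 4<|b (d 24) (a (a (b 3 0)<|a (b 4 0)<|a (b 1 0)<|a (b 4 1)<|a (b 5 0)<|a (b 4 5)<|a (b 5 1)<|a (b 3 1)<|c)<|a (a (b 4 0)<|a (b 1 0)<|a (b 4 1)<|a (b 5 0)<|a (b 5 4)<|a (b 3 3)<|a (b 4 6)<|a (b 3 2)<|c)<|a (a (b 3 0)<|a (b 4 0)<|a (b 5 4)<|a (b 5 2)<|a (b 4 5)<|a (b 3 4)<|a (b 5 1)<|a (b 5 5)<|c)<|a (a (b 4 0)<|a (b 1 0)<|a (b 5 2)<|a (b 4 5)<|a (b 3 3)<|a (b 5 1)<|a (b 4 6)<|a (b 3 6)<|c)<|a (a (b 1 0)<|a (b 5 0)<|a (b 5 4)<|a (b 4 5)<|a (b 3 3)<|a (b 3 4)<|a (b 5 1)<|a (b 2 0)<|c)<|a (a (b 4 1)<|a (b 5 4)<|a (b 5 2)<|a (b 3 3)<|a (b 3 4)<|a (b 5 1)<|a (b 4 6)<|a (b 5 6)<|c)<|a (a (b 3 0)<|a (b 4 0)<|a (b 1 0)<|a (b 4 1)<|a (b 5 2)<|a (b 3 4)<|a (b 4 6)<|a (b 5 3)<|c)<|c))<|c))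
  fib := []
  n := 14

def r7 : Rec where
  p := 8
  c := 979132756755844017910169606556066003
  a := 964836884573763795133280541652507168
  b := 979449216326116792932273254132156949
  t := [984815711694528072641956329919356096, 975731709539989358034651762477410864, 980290314853698657945701535472436628, 955810314954504996347858201593611350]
  wd := (beta% delta% lq26b7f1268b fun a b c _ _ =>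
 (a (b 2 0)<|a (b 3 0)<|a (b 4 0)<|a (b 2 3)<|a (b 1 0)<|a (b 4 2)<|a (b 3 1)<|a (b 2 5)<|a (b 4 1)<|a (b 3 3)<|a (b 3 5)<|a (b 2 4)<|a (b 3 4)<|a (b 2 6)<|a (b 4 3)<|a (b 3 7)<|a (b 2 7)<|a (b 2 2)<|a (b 5 0)<|a (b 2 1)<|a (b 3 6)<|a (b 3 2)<|a (b 5 1)<|a (b 0 0)<|c))
  sts := (beta% delta% lq26b7f1268b fun a b c d _ =>
 (a (b 23<|b (a 23<|c) c)<|
 a (b 4<|b (d 24) c)<|
 a (b 0<|b (d 24) c)<|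
 a (b 1<|b (d 24) (a (a (b 3 0)<|a (b 2 3)<|a (b 3 1)<|a (b 3 3)<|a (b 3 5)<|a (b 3 4)<|a (b 3 7)<|a (b 2 7)<|c)<|a (a (b 2 0)<|a (b 3 1)<|a (b 3 3)<|a (b 3 5)<|a (b 2 4)<|a (b 2 6)<|a (b 3 7)<|a (b 2 2)<|c)<|a (a (b 2 0)<|a (b 3 0)<|a (b 2 5)<|a (b 3 3)<|a (b 2 4)<|a (b 3 4)<|a (b 3 7)<|a (b 2 1)<|c)<|a (a (b 3 0)<|a (b 2 3)<|a (b 2 5)<|a (b 3 3)<|a (b 3 5)<|a (b 2 4)<|a (b 2 6)<|a (b 3 6)<|c)<|a (a (b 2 0)<|a (b 2 3)<|a (b 3 1)<|a (b 2 5)<|a (b 3 3)<|a (b 3 4)<|a (b 2 6)<|a (b 3 2)<|c)<|a (a (b 3 0)<|a (b 1 0)<|a (b 3 5)<|a (b 2 4)<|a (b 3 4)<|a (b 2 6)<|a (b 3 7)<|a (b 0 0)<|c)<|c))<|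
 a (b 2<|b (d 24) (a (a (b 2 0)<|a (b 3 0)<|a (b 4 0)<|a (b 2 3)<|a (b 1 0)<|a (b 2 5)<|a (b 3 5)<|a (b 3 4)<|c)<|a (a (b 3 0)<|a (b 4 0)<|a (b 2 3)<|a (b 1 0)<|a (b 4 2)<|a (b 4 1)<|a (b 2 4)<|a (b 2 6)<|c)<|a (a (b 2 0)<|a (b 3 0)<|a (b 4 2)<|a (b 3 1)<|a (b 2 5)<|a (b 3 3)<|a (b 3 5)<|a (b 4 3)<|c)<|a (a (b 3 0)<|a (b 4 0)<|a (b 3 1)<|a (b 2 5)<|a (b 4 1)<|a (b 3 5)<|a (b 2 4)<|a (b 3 7)<|c)<|c))<|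
 a (b 18<|b (d 24) (a (a (b 2 0)<|a (b 4 0)<|a (b 2 3)<|a (b 4 2)<|a (b 3 1)<|a (b 2 5)<|a (b 4 1)<|a (b 5 0)<|c)<|a (a (b 2 0)<|a (b 3 0)<|a (b 4 0)<|a (b 2 3)<|a (b 3 1)<|a (b 3 3)<|a (b 2 4)<|a (b 5 1)<|c)<|c))<|c))
  fib := []
  n := 8

def r8 : Rec where
  p := 11
  c := 978069831078519570716573740216824083
  a := 964536331447640001117386276469252172
  b := 973742262679888473196957453410241713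
  t := [984249892633079618254878707888334889, 971832930776928780156887938769618003, 958206481288439409554689914984060929, 980477927476935019646465791763126318]
  wd := (beta% delta% lq26b7f1268b fun a b c _ _ =>
 (a (b 2 0)<|a (b 2 2)<|a (b 2 4)<|a (b 3 0)<|a (b 2 10)<|a (b 3 9)<|a (b 1 0)<|a (b 2 7)<|a (b 2 3)<|a (b 2 9)<|a (b 3 2)<|a (b 3 3)<|a (b 2 5)<|a (b 3 10)<|a (b 3 1)<|a (b 3 8)<|a (b 2 6)<|a (b 3 5)<|a (b 3 6)<|a (b 2 1)<|a (b 2 8)<|a (b 3 7)<|a (b 3 4)<|a (b 0 0)<|c))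
  sts := (beta% delta% lq26b7f1268b fun a b c d _ =>
 (a (b 23<|b (a 23<|c) c)<|
 a (b 6<|b (d 24) c)<|
 a (b 0<|b (d 24) (a (a (b 2 0)<|a (b 2 2)<|a (b 2 4)<|a (b 2 10)<|a (b 2 7)<|a (b 2 3)<|a (b 2 9)<|a (b 2 5)<|a (b 2 6)<|a (b 2 1)<|a (b 2 8)<|a (b 0 0)<|c)<|c))<|
 a (b 3<|b (d 24) (a (a (b 2 0)<|a (b 2 2)<|a (b 2 4)<|a (b 3 0)<|a (b 2 10)<|a (b 2 7)<|a (b 3 2)<|a (b 2 5)<|c)<|a (a (b 2 2)<|a (b 2 4)<|a (b 3 0)<|a (b 2 10)<|a (b 3 9)<|a (b 2 3)<|a (b 3 3)<|a (b 3 10)<|c)<|a (a (b 2 0)<|a (b 2 2)<|a (b 3 9)<|a (b 1 0)<|a (b 2 7)<|a (b 2 9)<|a (b 3 2)<|a (b 3 1)<|c)<|a (a (b 2 2)<|a (b 2 4)<|a (b 1 0)<|a (b 2 7)<|a (b 2 3)<|a (b 3 2)<|a (b 3 3)<|a (b 3 8)<|c)<|a (a (b 2 0)<|a (b 2 2)<|a (b 2 10)<|a (b 2 3)<|a (b 2 9)<|a (b 3 2)<|a (b 3 3)<|a (b 2 6)<|c)<|a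 (a (b 2 0)<|a (b 3 0)<|a (b 2 10)<|a (b 3 9)<|a (b 2 7)<|a (b 2 9)<|a (b 3 3)<|a (b 3 5)<|c)<|a (a (b 2 0)<|a (b 2 4)<|a (b 3 0)<|a (b 3 9)<|a (b 1 0)<|a (b 2 7)<|a (b 2 3)<|a (b 3 6)<|c)<|a (a (b 2 2)<|a (b 3 0)<|a (b 2 10)<|a (b 1 0)<|a (b 2 7)<|a (b 2 3)<|a (b 2 9)<|a (b 2 1)<|c)<|a (a (b 2 4)<|a (b 2 10)<|a (b 3 9)<|a (b 2 7)<|a (b 2 3)<|a (b 2 9)<|a (b 3 2)<|a (b 2 8)<|c)<|a (a (b 3 0)<|a (b 3 9)<|a (b 1 0)<|a (b 2 3)<|a (b 2 9)<|a (b 3 2)<|a (b 3 3)<|a (b 3 7)<|c)<|a (a (b 2 0)<|a (b 2 2)<|a (b 2 4)<|a (b 3 0)<|a (b 1 0)<|a (b 2 9)<|a (b 3 3)<|a (b 3 4)<|c)<|c))<|c))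
  fib := []
  n := 11

def r9 : Rec where
  p := 11
  c := 960716361430353610035354410332529868
  a := 964855044677671929351225558991739571
  b := 979611752012320167386922186535221360
  t := [972560815420533050926679905878345760, 984522843555260836636180530290035104, 962744642160703482910780532975537540, 956253005427630607777331571155339798]
  wd := (beta% delta% lq26b7f1268b fun a b c _ _ =>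
 (a (b 3 0)<|a (b 3 7)<|a (b 2 0)<|a (b 2 9)<|a (b 3 10)<|a (b 1 0)<|a (b 3 8)<|a (b 2 3)<|a (b 2 4)<|a (b 2 1)<|a (b 2 10)<|a (b 2 2)<|a (b 3 1)<|a (b 3 6)<|a (b 2 5)<|a (b 2 7)<|a (b 3 4)<|a (b 3 5)<|a (b 3 3)<|a (b 3 2)<|a (b 2 6)<|a (b 2 8)<|a (b 3 9)<|a (b 0 0)<|c))
  sts := (beta% delta% lq26b7f1268b fun a b c d _ =>
 (a (b 23<|b (a 23<|c) c)<|
 a (b 5<|b (d 24) c)<|
 a (b 2<|b (d 24) (a (a (b 2 0)<|a (b 2 9)<|a (b 2 3)<|a (b 2 4)<|a (b 2 1)<|a (b 2 10)<|a (b 2 2)<|a (b 2 5)<|a (b 2 7)<|a (b 2 6)<|a (b 2 8)<|a (b 0 0)<|c)<|c))<|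
 a (b 0<|b (d 24) (a (a (b 3 0)<|a (b 3 7)<|a (b 2 0)<|a (b 2 9)<|a (b 3 10)<|a (b 2 3)<|a (b 2 10)<|a (b 3 1)<|c)<|a (a (b 3 7)<|a (b 2 0)<|a (b 2 9)<|a (b 3 10)<|a (b 1 0)<|a (b 2 4)<|a (b 2 2)<|a (b 3 6)<|c)<|a (a (b 3 0)<|a (b 3 7)<|a (b 1 0)<|a (b 3 8)<|a (b 2 3)<|a (b 2 1)<|a (b 2 10)<|a (b 2 5)<|c)<|a (a (b 3 7)<|a (b 2 0)<|a (b 3 8)<|a (b 2 3)<|a (b 2 4)<|a (b 2 10)<|a (b 2 2)<|a (b 2 7)<|c)<|a (a (b 3 0)<|a (b 3 7)<|a (b 3 10)<|a (b 2 4)<|a (b 2 1)<|a (b 2 10)<|a (b 2 2)<|a (b 3 4)<|c)<|a (a (b 3 0)<|a (b 2 9)<|a (b 3 10)<|a (b 1 0)<|a (b 2 3)<|a (b 2 1)<|a (b 2 2)<|a (b 3 5)<|c)<|a (a (b 3 0)<|a (b 2 0)<|a (b 2 9)<|a (b 1 0)<|a (b 3 8)<|a (b 2 3)<|a (b 2 4)<|a (b 3 3)<|c)<|a (a (b 3 7)<|a (b 2 9)<|a (b 3 10)<|a (b 3 8)<|a (b 2 3)<|a (b 2 4)<|a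 (b 2 1)<|a (b 3 2)<|c)<|a (a (b 2 0)<|a (b 3 10)<|a (b 1 0)<|a (b 2 3)<|a (b 2 4)<|a (b 2 1)<|a (b 2 10)<|a (b 2 6)<|c)<|a (a (b 2 9)<|a (b 1 0)<|a (b 3 8)<|a (b 2 4)<|a (b 2 1)<|a (b 2 10)<|a (b 2 2)<|a (b 2 8)<|c)<|a (a (b 3 0)<|a (b 3 7)<|a (b 2 0)<|a (b 2 9)<|a (b 3 8)<|a (b 2 1)<|a (b 2 2)<|a (b 3 9)<|c)<|c))<|c))
  fib := []
  n := 11

def r10 : Rec where
  p := 14
  c := 976382975643422735591640723023248646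
  a := 980475380797684364735611622801134663
  b := 968575591191396692160591848710582852
  t := [981656149524935688967641396208060553, 980072270846951803623400057851717141, 983560734830502988644348912559327275, 971836935019411570634327899960879151]
  wd := (beta% delta% lq26b7f1268b fun a b c _ _ =>
 (a (b 1 0)<|a (b 1 4)<|a (b 3 0)<|a (b 1 3)<|a (b 2 0)<|a (b 2 2)<|a (b 1 1)<|a (b 2 6)<|a (b 1 5)<|a (b 2 10)<|a (b 1 6)<|a (b 2 13)<|a (b 2 9)<|a (b 1 2)<|a (b 2 8)<|a (b 3 1)<|a (b 2 5)<|a (b 2 11)<|a (b 2 7)<|a (b 2 12)<|a (b 2 3)<|a (b 2 1)<|a (b 2 4)<|a (b 0 0)<|c))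
  sts := (beta% delta% lq26b7f1268b fun a b c d _ =>
 (a (b 23<|b (a 23<|c) c)<|
 a (b 0<|b (d 24) (a (a (b 1 0)<|a (b 1 4)<|a (b 1 3)<|a (b 1 1)<|a (b 1 5)<|a (b 1 6)<|a (b 1 2)<|a (b 0 0)<|c)<|c))<|
 a (b 4<|b (d 24) (a (a (b 1 0)<|a (b 2 2)<|a (b 2 6)<|a (b 1 5)<|a (b 1 6)<|a (b 2 13)<|a (b 2 9)<|a (b 1 2)<|c)<|a (a (b 1 0)<|a (b 1 4)<|a (b 2 2)<|a (b 1 1)<|a (b 2 6)<|a (b 2 10)<|a (b 1 6)<|a (b 2 8)<|c)<|a (a (b 1 0)<|a (b 1 4)<|a (b 2 0)<|a (b 1 5)<|a (b 2 10)<|a (b 1 6)<|a (b 2 13)<|a (b 2 5)<|c)<|a (a (b 1 0)<|a (b 1 3)<|a (b 2 0)<|a (b 2 2)<|a (b 2 6)<|a (b 2 10)<|a (b 2 13)<|a (b 2 11)<|c)<|a (a (b 1 4)<|a (b 2 0)<|a (b 2 2)<|a (b 1 1)<|a (b 1 5)<|a (b 1 6)<|a (b 2 9)<|a (b 2 7)<|c)<|a (a (b 1 4)<|a (b 1 3)<|a (b 2 0)<|a (b 1 1)<|a (b 2 6)<|a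 (b 1 5)<|a (b 2 10)<|a (b 2 12)<|c)<|a (a (b 1 0)<|a (b 1 4)<|a (b 1 3)<|a (b 2 2)<|a (b 1 5)<|a (b 2 10)<|a (b 2 9)<|a (b 2 3)<|c)<|a (a (b 1 3)<|a (b 2 2)<|a (b 1 1)<|a (b 1 5)<|a (b 2 10)<|a (b 1 6)<|a (b 2 13)<|a (b 2 1)<|c)<|a (a (b 2 0)<|a (b 1 1)<|a (b 2 6)<|a (b 2 10)<|a (b 1 6)<|a (b 2 13)<|a (b 2 9)<|a (b 2 4)<|c)<|c))<|
 a (b 2<|b (d 24) (a (a (b 1 0)<|a (b 1 4)<|a (b 3 0)<|a (b 1 3)<|a (b 2 0)<|a (b 2 6)<|a (b 1 6)<|a (b 2 9)<|c)<|a (a (b 1 4)<|a (b 3 0)<|a (b 1 1)<|a (b 2 6)<|a (b 1 5)<|a (b 1 6)<|a (b 2 13)<|a (b 3 1)<|c)<|c))<|c))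
  fib := []
  n := 14

def r11 : Rec where
  p := 14
  c := 979374823669607264849363846196199668
  a := 965010604156786869895520769293340360
  b := 965365709161793944927550355937932362
  t := [960154302143379000665722555663588384, 966645081585541171571917265068853290, 974433650780877274415595883659963648, 972745140205618576797795644940066164]
  wd := (beta% delta% lq26b7f1268b fun a b c _ _ =>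
 (a (b 2 0)<|a (b 2 9)<|a (b 2 13)<|a (b 3 0)<|a (b 1 0)<|a (b 2 4)<|a (b 1 2)<|a (b 2 10)<|a (b 2 3)<|a (b 2 5)<|a (b 1 5)<|a (b 3 1)<|a (b 2 6)<|a (b 1 6)<|a (b 2 2)<|a (b 2 8)<|a (b 2 12)<|a (b 1 1)<|a (b 1 4)<|a (b 2 11)<|a (b 2 1)<|a (b 2 7)<|a (b 1 3)<|a (b 0 0)<|c))
  sts := (beta% delta% lq26b7f1268b fun a b c d _ =>
 (a (b 23<|b (a 23<|c) c)<|
 a (b 4<|b (d 24) (a (a (b 1 0)<|a (b 1 2)<|a (b 1 5)<|a (b 1 6)<|a (b 1 1)<|a (b 1 4)<|a (b 1 3)<|a (b 0 0)<|c)<|c))<|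
 a (b 0<|b (d 24) (a (a (b 2 0)<|a (b 2 9)<|a (b 2 4)<|a (b 1 2)<|a (b 2 10)<|a (b 2 5)<|a (b 1 5)<|a (b 2 2)<|c)<|a (a (b 2 0)<|a (b 2 9)<|a (b 2 13)<|a (b 2 4)<|a (b 1 2)<|a (b 2 6)<|a (b 1 6)<|a (b 2 8)<|c)<|a (a (b 2 9)<|a (b 1 0)<|a (b 2 4)<|a (b 2 10)<|a (b 2 5)<|a (b 2 6)<|a (b 1 6)<|a (b 2 12)<|c)<|a (a (b 2 0)<|a (b 2 9)<|a (b 2 13)<|a (b 2 10)<|a (b 2 3)<|a (b 2 5)<|a (b 1 6)<|a (b 1 1)<|c)<|a (a (b 2 9)<|a (b 1 0)<|a (b 2 4)<|a (b 1 2)<|a (b 2 3)<|a (b 1 5)<|a (b 2 6)<|a (b 1 4)<|c)<|a (a (b 2 0)<|a (b 2 13)<|a (b 1 2)<|a (b 2 3)<|a (b 2 5)<|a (b 1 5)<|a (b 2 6)<|a (b 2 11)<|c)<|a (a (b 2 13)<|a (b 1 0)<|a (b 2 4)<|a (b 2 10)<|a (b 2 3)<|a (b 2 5)<|a (b 1 5)<|a (b 2 1)<|c)<|a (a (b 2 9)<|a (b 2 13)<|a (b 1 0)<|a (b 1 2)<|a (b 2 5)<|a (b 1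 5)<|a (b 1 6)<|a (b 2 7)<|c)<|a (a (b 2 0)<|a (b 1 0)<|a (b 2 4)<|a (b 1 2)<|a (b 2 3)<|a (b 2 5)<|a (b 1 6)<|a (b 1 3)<|c)<|c))<|
 a (b 3<|b (d 24) (a (a (b 2 0)<|a (b 2 9)<|a (b 2 13)<|a (b 3 0)<|a (b 1 0)<|a (b 2 10)<|a (b 1 5)<|a (b 2 6)<|c)<|a (a (b 2 9)<|a (b 2 13)<|a (b 3 0)<|a (b 1 0)<|a (b 2 4)<|a (b 2 3)<|a (b 3 1)<|a (b 1 6)<|c)<|c))<|c))
  fib := []
  n := 14

def r12 : Rec where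
  p := 15
  c := 979155369683378504585279639241629221
  a := 981552052220712572300830346463091075
  b := 976572790744148727845475979375196399
  t := [962750373820247208505083556844120096, 984387225999345220897398059297966484, 984199377264667814583612167751711082, 955976638890128102836332977245981238]
  wd := (beta% delta% lq26b7f1268b fun a b c _ _ =>
 (a (b 1 0)<|a (b 2 0)<|a (b 3 0)<|a (b 1 4)<|a (b 1 7)<|a (b 1 1)<|a (b 1 6)<|a (b 3 1)<|a (b 1 5)<|a (b 1 12)<|a (b 2 3)<|a (b 1 2)<|a (b 1 14)<|a (b 1 3)<|a (b 3 2)<|a (b 1 11)<|a (b 1 10)<|a (b 2 1)<|a (b 1 9)<|a (b 1 13)<|a (b 2 4)<|a (b 2 2)<|a (b 1 8)<|a (b 0 0)<|c))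
  sts := (beta% delta% lq26b7f1268b fun a b c d _ =>
 (a (b 23<|b (a 23<|c) c)<|
 a (b 0<|b (d 24) (a (a (b 1 0)<|a (b 1 4)<|a (b 1 7)<|a (b 1 6)<|a (b 1 5)<|a (b 1 2)<|a (b 1 14)<|a (b 1 11)<|c)<|a (a (b 1 0)<|a (b 1 1)<|a (b 1 6)<|a (b 1 12)<|a (b 1 2)<|a (b 1 14)<|a (b 1 10)<|a (b 1 9)<|c)<|a (a (b 1 4)<|a (b 1 1)<|a (b 1 6)<|a (b 1 5)<|a (b 1 14)<|a (b 1 3)<|a (b 1 10)<|a (b 1 13)<|c)<|a (a (b 1 0)<|a (b 1 7)<|a (b 1 1)<|a (b 1 6)<|a (b 1 5)<|a (b 1 12)<|a (b 1 3)<|a (b 1 8)<|c)<|a (a (b 1 4)<|a (b 1 7)<|a (b 1 6)<|a (b 1 12)<|a (b 1 2)<|a (b 1 3)<|a (b 1 10)<|a (b 0 0)<|c)<|c))<|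
 a (b 1<|b (d 24) (a (a (b 1 0)<|a (b 2 0)<|a (b 1 7)<|a (b 1 5)<|a (b 1 12)<|a (b 2 3)<|a (b 1 2)<|a (b 1 10)<|c)<|a (a (b 1 4)<|a (b 1 7)<|a (b 1 5)<|a (b 1 12)<|a (b 2 3)<|a (b 1 14)<|a (b 1 3)<|a (b 2 1)<|c)<|a (a (b 1 0)<|a (b 2 0)<|a (b 1 4)<|a (b 1 1)<|a (b 1 5)<|a (b 1 12)<|a (b 1 14)<|a (b 2 4)<|c)<|a (a (b 1 4)<|a (b 1 1)<|a (b 1 6)<|a (b 1 5)<|a (b 1 12)<|a (b 2 3)<|a (b 1 2)<|a (b 2 2)<|c)<|c))<|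
 a (b 2<|b (d 24) (a (a (b 1 0)<|a (b 2 0)<|a (b 3 0)<|a (b 1 4)<|a (b 1 7)<|a (b 3 1)<|a (b 2 3)<|a (b 1 14)<|c)<|a (a (b 2 0)<|a (b 3 0)<|a (b 1 4)<|a (b 1 7)<|a (b 1 1)<|a (b 1 5)<|a (b 1 2)<|a (b 1 3)<|c)<|a (a (b 1 0)<|a (b 2 0)<|a (b 1 1)<|a (b 1 6)<|a (b 3 1)<|a (b 1 12)<|a (b 2 3)<|a (b 3 2)<|c)<|c))<|c))
  fib := []
  n := 15

def r13 : Rec where
  p := 15
  c := 972833497517399943230256495216677110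
  a := 983224352174094705052765941749780995
  b := 980520927723036320956969911535614512
  t := [956257484768810106320453041697202230, 976535332656625866811670459970588704, 981859368533660186592923651902057024, 984475305396832770772846284196105376]
  wd := (beta% delta% lq26b7f1268b fun a b c _ _ =>
 (a (b 1 0)<|a (b 3 0)<|a (b 2 0)<|a (b 1 5)<|a (b 1 11)<|a (b 1 12)<|a (b 2 2)<|a (b 3 1)<|a (b 1 4)<|a (b 2 3)<|a (b 1 7)<|a (b 1 3)<|a (b 2 4)<|a (b 1 2)<|a (b 1 9)<|a (b 1 13)<|a (b 1 10)<|a (b 1 14)<|a (b 3 2)<|a (b 1 6)<|a (b 2 1)<|a (b 1 8)<|a (b 1 1)<|a (b 0 0)<|c))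
  sts := (beta% delta% lq26b7f1268b fun a b c d _ =>
 (a (b 23<|b (a 23<|c) c)<|
 a (b 0<|b (d 24) (a (a (b 1 5)<|a (b 1 4)<|a (b 1 7)<|a (b 1 3)<|a (b 1 2)<|a (b 1 9)<|a (b 1 13)<|a (b 1 10)<|c)<|a (a (b 1 0)<|a (b 1 5)<|a (b 1 11)<|a (b 1 12)<|a (b 1 4)<|a (b 1 7)<|a (b 1 9)<|a (b 1 6)<|c)<|a (a (b 1 0)<|a (b 1 5)<|a (b 1 12)<|a (b 1 4)<|a (b 1 2)<|a (b 1 13)<|a (b 1 14)<|a (b 1 8)<|c)<|a (a (b 1 11)<|a (b 1 12)<|a (b 1 4)<|a (b 1 7)<|a (b 1 3)<|a (b 1 13)<|a (b 1 14)<|a (b 1 1)<|c)<|a (a (b 1 0)<|a (b 1 11)<|a (b 1 4)<|a (b 1 3)<|a (b 1 2)<|a (b 1 9)<|a (b 1 14)<|a (b 0 0)<|c)<|c))<|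
 a (b 2<|b (d 24) (a (a (b 2 0)<|a (b 1 5)<|a (b 1 11)<|a (b 1 12)<|a (b 2 2)<|a (b 2 3)<|a (b 2 4)<|a (b 1 9)<|c)<|a (a (b 1 0)<|a (b 1 5)<|a (b 1 11)<|a (b 2 2)<|a (b 1 4)<|a (b 1 3)<|a (b 2 4)<|a (b 1 13)<|c)<|a (a (b 1 5)<|a (b 1 11)<|a (b 1 4)<|a (b 2 3)<|a (b 1 7)<|a (b 2 4)<|a (b 1 2)<|a (b 1 14)<|c)<|a (a (b 1 0)<|a (b 2 0)<|a (b 1 11)<|a (b 2 3)<|a (b 1 3)<|a (b 2 4)<|a (b 1 2)<|a (b 2 1)<|c)<|c))<|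
 a (b 1<|b (d 24) (a (a (b 1 0)<|a (b 3 0)<|a (b 2 0)<|a (b 1 5)<|a (b 1 11)<|a (b 3 1)<|a (b 1 7)<|a (b 2 4)<|c)<|a (a (b 3 0)<|a (b 2 0)<|a (b 1 5)<|a (b 1 11)<|a (b 1 12)<|a (b 1 4)<|a (b 1 3)<|a (b 1 2)<|c)<|a (a (b 1 0)<|a (b 2 0)<|a (b 1 5)<|a (b 1 12)<|a (b 2 2)<|a (b 3 1)<|a (b 1 4)<|a (b 3 2)<|c)<|c))<|c))
  fib := []
  n := 15

def r14 : Rec where
  p := 23
  c := 982252470930009687161553335856700853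
  a := 967721164600104800859927159989766689
  b := 970559750778491844696135644104438178
  t := [980252272282723697483369785688870944, 973581295667178295443786016277202997, 958854227292035268240443596167403881, 984230048376954736502601549567334432]
  wd := (beta% delta% lq26b7f1268b fun a b c _ _ =>
 (a (b 1 0)<|a (b 1 19)<|a (b 1 21)<|a (b 1 18)<|a (b 1 14)<|a (b 1 17)<|a (b 1 10)<|a (b 1 22)<|a (b 1 11)<|a (b 1 16)<|a (b 1 5)<|a (b 1 9)<|a (b 1 4)<|a (b 1 20)<|a (b 1 12)<|a (b 1 6)<|a (b 1 15)<|a (b 1 13)<|a (b 1 8)<|a (b 1 7)<|a (b 1 3)<|a (b 1 1)<|a (b 1 2)<|a (b 0 0)<|c))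
  sts := (beta% delta% lq26b7f1268b fun a b c d _ =>
 (a (b 23<|b (a 23<|c) c)<|
 a (b 0<|b (d 24) (a (a (b 1 0)<|a (b 1 19)<|a (b 1 21)<|a (b 1 18)<|a (b 1 14)<|a (b 1 22)<|a (b 1 5)<|a (b 1 4)<|c)<|a (a (b 1 19)<|a (b 1 21)<|a (b 1 18)<|a (b 1 14)<|a (b 1 17)<|a (b 1 11)<|a (b 1 9)<|a (b 1 20)<|c)<|a (a (b 1 0)<|a (b 1 19)<|a (b 1 17)<|a (b 1 10)<|a (b 1 22)<|a (b 1 16)<|a (b 1 5)<|a (b 1 12)<|c)<|a (a (b 1 19)<|a (b 1 21)<|a (b 1 10)<|a (b 1 22)<|a (b 1 11)<|a (b 1 5)<|a (b 1 9)<|a (b 1 6)<|c)<|a (a (b 1 0)<|a (b 1 19)<|a (b 1 14)<|a (b 1 11)<|a (b 1 16)<|a (b 1 5)<|a (b 1 9)<|a (b 1 15)<|c)<|a (a (b 1 0)<|a (b 1 18)<|a (b 1 14)<|a (b 1 17)<|a (b 1 22)<|a (b 1 16)<|a (b 1 9)<|a (b 1 13)<|c)<|a (a (b 1 0)<|a (b 1 21)<|a (b 1 18)<|a (b 1 17)<|a (b 1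 10)<|a (b 1 22)<|a (b 1 11)<|a (b 1 8)<|c)<|a (a (b 1 19)<|a (b 1 18)<|a (b 1 14)<|a (b 1 10)<|a (b 1 22)<|a (b 1 11)<|a (b 1 16)<|a (b 1 7)<|c)<|a (a (b 1 21)<|a (b 1 14)<|a (b 1 17)<|a (b 1 22)<|a (b 1 11)<|a (b 1 16)<|a (b 1 5)<|a (b 1 3)<|c)<|a (a (b 1 18)<|a (b 1 17)<|a (b 1 10)<|a (b 1 11)<|a (b 1 16)<|a (b 1 5)<|a (b 1 9)<|a (b 1 1)<|c)<|a (a (b 1 0)<|a (b 1 19)<|a (b 1 21)<|a (b 1 18)<|a (b 1 10)<|a (b 1 16)<|a (b 1 9)<|a (b 1 2)<|c)<|a (a (b 1 0)<|a (b 1 21)<|a (b 1 14)<|a (b 1 17)<|a (b 1 10)<|a (b 1 5)<|a (b 1 9)<|a (b 0 0)<|c)<|c))<|c))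
  fib := []
  n := 23

def r15 : Rec where
  p := 23
  c := 967486415537473815578637697434492545
  a := 972305891742263716173106675494604811
  b := 957536857536765368074673756872024069
  t := [980300456624277555258171200517441699, 980900055165957088153449875315458690, 984809013255114100245193773546972204, 979522084488580843589042916674359664]
  wd := (beta% delta% lq26b7f1268b fun a b c _ _ =>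
 (a (b 1 0)<|a (b 1 1)<|a (b 1 4)<|a (b 1 21)<|a (b 1 6)<|a (b 1 18)<|a (b 1 8)<|a (b 1 5)<|a (b 1 20)<|a (b 1 13)<|a (b 1 16)<|a (b 1 19)<|a (b 1 3)<|a (b 1 17)<|a (b 1 14)<|a (b 1 22)<|a (b 1 9)<|a (b 1 10)<|a (b 1 11)<|a (b 1 7)<|a (b 1 2)<|a (b 1 15)<|a (b 1 12)<|a (b 0 0)<|c))
  sts := (beta% delta% lq26b7f1268b fun a b c d _ =>
 (a (b 23<|b (a 23<|c) c)<|
 a (b 0<|b (d 24) (a (a (b 1 0)<|a (b 1 1)<|a (b 1 4)<|a (b 1 21)<|a (b 1 6)<|a (b 1 5)<|a (b 1 16)<|a (b 1 3)<|c)<|a (a (b 1 1)<|a (b 1 4)<|a (b 1 21)<|a (b 1 6)<|a (b 1 18)<|a (b 1 20)<|a (b 1 19)<|a (b 1 17)<|c)<|a (a (b 1 0)<|a (b 1 1)<|a (b 1 18)<|a (b 1 8)<|a (b 1 5)<|a (b 1 13)<|a (b 1 16)<|a (b 1 14)<|c)<|a (a (b 1 1)<|a (b 1 4)<|a (b 1 8)<|a (b 1 5)<|a (b 1 20)<|a (b 1 16)<|a (b 1 19)<|a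 (b 1 22)<|c)<|a (a (b 1 0)<|a (b 1 1)<|a (b 1 6)<|a (b 1 20)<|a (b 1 13)<|a (b 1 16)<|a (b 1 19)<|a (b 1 9)<|c)<|a (a (b 1 0)<|a (b 1 21)<|a (b 1 6)<|a (b 1 18)<|a (b 1 5)<|a (b 1 13)<|a (b 1 19)<|a (b 1 10)<|c)<|a (a (b 1 0)<|a (b 1 4)<|a (b 1 21)<|a (b 1 18)<|a (b 1 8)<|a (b 1 5)<|a (b 1 20)<|a (b 1 11)<|c)<|a (a (b 1 1)<|a (b 1 21)<|a (b 1 6)<|a (b 1 8)<|a (b 1 5)<|a (b 1 20)<|a (b 1 13)<|a (b 1 7)<|c)<|a (a (b 1 4)<|a (b 1 6)<|a (b 1 18)<|a (b 1 5)<|a (b 1 20)<|a (b 1 13)<|a (b 1 16)<|a (b 1 2)<|c)<|a (a (b 1 21)<|a (b 1 18)<|a (b 1 8)<|a (b 1 20)<|a (b 1 13)<|a (b 1 16)<|a (b 1 19)<|a (b 1 15)<|c)<|a (a (b 1 0)<|a (b 1 1)<|a (b 1 4)<|a (b 1 21)<|a (b 1 8)<|a (b 1 13)<|a (b 1 19)<|a (b 1 12)<|c)<|a (a (b 1 0)<|a (b 1 4)<|a (b 1 6)<|a (b 1 18)<|a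 (b 1 8)<|a (b 1 16)<|a (b 1 19)<|a (b 0 0)<|c)<|c))<|c))
  fib := []
  n := 23

def D : List Rec := (beta% delta% lq26b7f1268b fun a _ c _ _ =>
 (a r0<|a r1<|a r2<|a r3<|a r4<|a r5<|a r6<|a r7<|a r8<|a r9<|a r10<|a r11<|a r12<|a r13<|a r14<|a r15<|c))

end Cfsg.Agent.H334.Ore.M23Data
end

-- part: H334/Ore/M23Chk
section
/-!
# Checks for the classes of `M23`
-/

set_option autoImplicit false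
set_option Elab.async false

namespace Cfsg.Agent.H334.Ore.M23Data

open Cfsg.Agent.H334.Ore.Mat

private noncomputable def _root_.Cfsg.Agent.GolayF.f0 : {f // @Cfsg.Agent.H334.Ore.Mat.chkC = f} :=
  ⟨_, by delta Cfsg.Agent.H334.Ore.Mat.cA Cfsg.Agent.H334.Ore.Mat.chkC Cfsg.Agent.H334.Ore.Mat.exOk Cfsg.Agent.H334.Ore.Mat.fibOk Cfsg.Agent.H334.Ore.Mat.fibOk._f Cfsg.Agent.H334.Ore.Mat.fiber Cfsg.Agent.H334.Ore.Mat.fiber._f Cfsg.Agent.H729.Trans.mk Cfsg.Agent.H729.Trans.mk._f Cfsg.Agent.H729.Trans.pre Cfsg.Agent.H729.Trans.srcOk Cfsg.Agent.H729.Trans.srcOk._f Cfsg.Agent.H729.Trans.wdOk; rewrite [Cfsg.Agent.GolayF.isCode_eq, Cfsg.Agent.GolayF.ok_eq, Cfsg.Agent.GolayF.pw_eq, Cfsg.Agent.GolayF.tl_eq]; exact rfl⟩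

theorem cC0 : chkC F r0 = true := by (rewrite [Cfsg.Agent.GolayF.f0.2]; decide +kernel)

theorem cC1 : chkC F r1 = true := by (rewrite [Cfsg.Agent.GolayF.f0.2]; decide +kernel)

theorem cC2 : chkC F r2 = true := by (rewrite [Cfsg.Agent.GolayF.f0.2]; decide +kernel)

theorem cC3 : chkC F r3 = true := by (rewrite [Cfsg.Agent.GolayF.f0.2]; decide +kernel)

theorem cC4 : chkC F r4 = true := by (rewrite [Cfsg.Agent.GolayF.f0.2]; decide +kernel)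

theorem cC5 : chkC F r5 = true := by (rewrite [Cfsg.Agent.GolayF.f0.2]; decide +kernel)

theorem cC6 : chkC F r6 = true := by (rewrite [Cfsg.Agent.GolayF.f0.2]; decide +kernel)

theorem cC7 : chkC F r7 = true := by (rewrite [Cfsg.Agent.GolayF.f0.2]; decide +kernel)

theorem cC8 : chkC F r8 = true := by (rewrite [Cfsg.Agent.GolayF.f0.2]; decide +kernel)

theorem cC9 : chkC F r9 = true := by (rewrite [Cfsg.Agent.GolayF.f0.2]; decide +kernel)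

theorem cC10 : chkC F r10 = true := by (rewrite [Cfsg.Agent.GolayF.f0.2]; decide +kernel)

theorem cC11 : chkC F r11 = true := by (rewrite [Cfsg.Agent.GolayF.f0.2]; decide +kernel)

theorem cC12 : chkC F r12 = true := by (rewrite [Cfsg.Agent.GolayF.f0.2]; decide +kernel)

theorem cC13 : chkC F r13 = true := by (rewrite [Cfsg.Agent.GolayF.f0.2]; decide +kernel)

theorem cC14 : chkC F r14 = true := by (rewrite [Cfsg.Agent.GolayF.f0.2]; decide +kernel)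

theorem cC15 : chkC F r15 = true := by (rewrite [Cfsg.Agent.GolayF.f0.2]; decide +kernel)

private noncomputable def _root_.Cfsg.Agent.GolayF.f1 : {f // @Cfsg.Agent.H334.Ore.Mat.chkA = f} :=
  ⟨_, by delta Cfsg.Agent.H334.Ore.Mat.chkA Cfsg.Agent.H334.Ore.Mat.inG; rewrite [Cfsg.Agent.GolayF.papp_eq, Cfsg.Agent.GolayF.pcomp_eq, Cfsg.Agent.GolayF.ok_eq]; exact rfl⟩

theorem hA : D.all (chkA F) = true := by (rewrite [Cfsg.Agent.GolayF.f1.2]; decide +kernel)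

private noncomputable def _root_.Cfsg.Agent.GolayF.f2 : {f // @Cfsg.Agent.H334.Ore.Mat.chkP = f} :=
  ⟨_, by delta Cfsg.Agent.H334.Ore.Mat.chkP Cfsg.Agent.H334.Ore.Mat.fc Cfsg.Agent.H334.Ore.Mat.inv Cfsg.Agent.H729.Trans.mk Cfsg.Agent.H729.Trans.mk._f Cfsg.Agent.H729.Trans.pre Cfsg.Agent.H729.Trans.srcOk Cfsg.Agent.H729.Trans.srcOk._f Cfsg.Agent.H729.Trans.wdOk; rewrite [Cfsg.Agent.GolayF.isCode_eq, Cfsg.Agent.GolayF.ok_eq, Cfsg.Agent.GolayF.pw_eq, Cfsg.Agent.GolayF.tl_eq]; exact rfl⟩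

theorem pP0 : (D.drop 1).all (chkP F r0) = true := by (rewrite [Cfsg.Agent.GolayF.f2.2]; decide +kernel)

theorem pP1 : (D.drop 2).all (chkP F r1) = true := by (rewrite [Cfsg.Agent.GolayF.f2.2]; decide +kernel)

theorem pP2 : (D.drop 3).all (chkP F r2) = true := by (rewrite [Cfsg.Agent.GolayF.f2.2]; decide +kernel)

theorem pP3 : (D.drop 4).all (chkP F r3) = true := by (rewrite [Cfsg.Agent.GolayF.f2.2]; decide +kernel)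

theorem pP4 : (D.drop 5).all (chkP F r4) = true := by (rewrite [Cfsg.Agent.GolayF.f2.2]; decide +kernel)

theorem pP5 : (D.drop 6).all (chkP F r5) = true := by (rewrite [Cfsg.Agent.GolayF.f2.2]; decide +kernel)

theorem pP6 : (D.drop 7).all (chkP F r6) = true := by (rewrite [Cfsg.Agent.GolayF.f2.2]; decide +kernel)

theorem pP7 : (D.drop 8).all (chkP F r7) = true := by (rewrite [Cfsg.Agent.GolayF.f2.2]; decide +kernel)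

theorem pP8 : (D.drop 9).all (chkP F r8) = true := by (rewrite [Cfsg.Agent.GolayF.f2.2]; decide +kernel)

theorem pP9 : (D.drop 10).all (chkP F r9) = true := by (rewrite [Cfsg.Agent.GolayF.f2.2]; decide +kernel)

theorem pP10 : (D.drop 11).all (chkP F r10) = true := by (rewrite [Cfsg.Agent.GolayF.f2.2]; decide +kernel)

theorem pP11 : (D.drop 12).all (chkP F r11) = true := by (rewrite [Cfsg.Agent.GolayF.f2.2]; decide +kernel)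

theorem pP12 : (D.drop 13).all (chkP F r12) = true := by (rewrite [Cfsg.Agent.GolayF.f2.2]; decide +kernel)

theorem pP13 : (D.drop 14).all (chkP F r13) = true := by (rewrite [Cfsg.Agent.GolayF.f2.2]; decide +kernel)

theorem pP14 : (D.drop 15).all (chkP F r14) = true := by (rewrite [Cfsg.Agent.GolayF.f2.2]; decide +kernel)

theorem pP15 : (D.drop 16).all (chkP F r15) = true := by (rewrite [Cfsg.Agent.GolayF.f2.2]; decide +kernel)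

theorem hsum : (1 + (D.map fun r => 10200960 / r.n).sum) = 10200960 := by decide +kernel

theorem hC : ∀ r ∈ D, chkC F r = true := by
  intro r hr
  simp only [D, List.mem_cons, List.not_mem_nil, or_false] at hr
  rcases hr with rfl | rfl | rfl | rfl | rfl | rfl | rfl | rfl | rfl | rfl | rfl | rfl | rfl | rfl | rfl | rfl
  · exact cC0
  · exact cC1
  · exact cC2
  · exact cC3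
  · exact cC4
  · exact cC5
  · exact cC6
  · exact cC7
  · exact cC8
  · exact cC9
  · exact cC10
  · exact cC11
  · exact cC12
  · exact cC13
  · exact cC14
  · exact cC15

theorem hP : ∀ i j : Fin D.length, i < j → chkP F (D.get i) (D.get j) = true := by
  refine hP_of ?_
  intro i hi
  have hi' : i < 16 := hi
  interval_cases i
  · exact pP0
  · exact pP1
  · exact pP2
  · exact pP3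
  · exact pP4
  · exact pP5
  · exact pP6
  · exact pP7
  · exact pP8
  · exact pP9
  · exact pP10
  · exact pP11
  · exact pP12
  · exact pP13
  · exact pP14
  · exact pP15

end Cfsg.Agent.H334.Ore.M23Data
end

-- part: H334/Ore/M23
section
/-!
# The rows `M23`: every element is a commutator, and a product of four involutions
-/

set_option autoImplicit false

namespace Cfsg.Agent.H334.Ore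

open Cfsg Cfsg.Agent.H334.Ore.Mat Cfsg.Agent.H729.Trans
open Cfsg.Agent.SporadicStructure.M24El Cfsg.Agent.SporadicA.GolayPerm Cfsg.Agent.SporadicA.GolayBase

namespace M23

open Cfsg.Agent.H334.Ore.M23Data

/-- The inclusion of `M23` in `M24`. -/
def inc23 : Spor.M23 →* M24 where
  toFun g := ⟨(g : Equiv.Perm GolayPt), g.2.1⟩
  map_one' := rfl
  map_mul' _ _ := rfl

theorem inc23_injective : Function.Injective inc23 := by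
  intro a b h
  exact Subtype.ext (congrArg (fun g : M24 => (g : Equiv.Perm GolayPt)) h)

theorem im_none23 (g : Spor.M23) : im (inc23 g) 23 = 23 := by
  have h : (g : Equiv.Perm GolayPt) none = none := g.2.2
  show idx ((g : Equiv.Perm GolayPt) (pt 23)) = 23
  have e : pt 23 = none := by decide
  rw [e, h]
  rfl

/-- `M23` is a point stabiliser in `M24`. -/
def mulEquiv23 : Spor.M23 ≃* ↥(MulAction.stabilizer M24 (none : GolayPt)) where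
  toFun g := ⟨inc23 g, g.2.2⟩
  invFun g := ⟨(g.1 : Equiv.Perm GolayPt), ⟨g.1.2, g.2⟩⟩
  left_inv _ := rfl
  right_inv _ := rfl
  map_mul' _ _ := rfl

theorem card_M23 : Nat.card Spor.M23 = 10200960 := by
  rw [Nat.card_congr mulEquiv23.toEquiv]
  exact Cfsg.Agent.S0376.result none

theorem hF (g : Spor.M23) : ∀ b ∈ F, im (inc23 g) b = b := by
  intro b hb
  simp only [F, List.mem_cons, List.not_mem_nil, or_false] at hb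
  rw [hb]
  exact im_none23 g

theorem hmem (c : ℕ) (hc : ok c = true) (h : ∀ b ∈ F, papp c b = b) : ∃ x : Spor.M23, inc23 x = el c := by
  have h1 : papp c 23 = 23 := h 23 (by simp [F])
  have h3 : (el c : Equiv.Perm GolayPt) none = none := by
    have h := el_smul_pt hc (none : GolayPt)
    have e : idx none = 23 := rfl
    rw [e, h1] at h
    exact h
  exact ⟨⟨(el c : Equiv.Perm GolayPt), ⟨(el c).2, h3⟩⟩, rfl⟩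

theorem hA' : ∀ r ∈ D, chkA F r = true := fun r hr => List.all_eq_true.1 hA r hr

theorem cov (g : Spor.M23) : g = 1 ∨ ∃ r ∈ D, ∃ x : Spor.M23, inc23 x = el r.c ∧ IsConj x g := by
  refine cover_of_data inc23_injective hF hmem D hC hA' hP ?_ g
  rw [card_M23]
  have h : ∑ i : Fin D.length, 10200960 / (D.get i).n = (D.map fun r => 10200960 / r.n).sum := by
    rw [← List.sum_ofFn]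
    rfl
  rw [h, hsum]

end M23

/-- **Every element of `M23` is a commutator.** -/
theorem ore_m23 {S : Type*} [Group S] (h : Spor.IsoM23 S) : Cfsg.Agent.H777.Ore.AllC S := by
  obtain ⟨e⟩ := h
  exact Cfsg.Agent.H777.Ore.AllC.congr e.symm
    (allC_of_data M23.inc23_injective M23.hmem M23Data.D M23.hA' M23.cov)

/-- **Every element of `M23` is a product of four elements with square one.** -/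
theorem four_m23 {S : Type*} [Group S] (h : Spor.IsoM23 S) : Cfsg.Agent.H777.Ore.Inv4 S := by
  obtain ⟨e⟩ := h
  exact inv4_congr e.symm (inv4_of_data M23.inc23_injective M23.hmem M23Data.D M23.hA' M23.cov)

end Cfsg.Agent.H334.Ore
end

private theorem dce_5ffadd891d8d : _root_.True := by
  try have : _root_.True := by simp only [_root_.Cfsg.Agent.H334.Ore.M23Data.D.eq_1]
  try have : _root_.True := by simp only [_root_.Cfsg.Agent.H334.Ore.M23Data.F.eq_1]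
  exact _root_.True.intro
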